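import Cfsg.Agent.H729.RealBase
import Cfsg.Agent.H729.PairCoN

/-! # `RealOdd` for `Co2` (S2248, helper729) -/

set_option autoImplicit false
set_option maxRecDepth 100000

namespace Cfsg.Agent.H729.RealCo2

open Subgroup hiding mk
open Cfsg Cfsg.Agent.H729.PairBase Cfsg.Agent.H463.Pair Cfsg.Agent.H729.PairCoN Cfsg.Agent.H101.RO
open Cfsg.Agent.SporadicA.GolayBase Cfsg.Agent.SporadicA.GolayPerm
open Cfsg.Agent.SporadicA.Co0Mono hiding mk
open Cfsg.Agent.SporadicA.Co1Simple Cfsg.Agent.Co2Type.Mono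
open Cfsg.Agent.SporadicStructure.M24El
open Cfsg.Agent.H729.MData Cfsg.Agent.H729.Count Cfsg.Agent.H729.PairEleven
open Cfsg.Agent.CoOneType.ClosingFacts (mk mk_mul mk_inv exists_mk mk_eq_one mk_eq)

theorem co2_model : RealOdd Spor.Co2 := by
  have : Finite Spor.Co2 := Finite.of_injective _ toCo0_injective
  have hN : NoTwo Spor.Co2 11 := by
    refine NoTwo.of_one (by norm_num) (by rw [Cfsg.Agent.Schreier.CoTwoStab.card]; norm_num) orderOf_x2 ?_
    intro t ht hc
    have h1 : toCo0 t = 1 := by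
      apply eq_one_of_fix
      · rw [← toCo0_xx, ← map_mul, ← map_mul, hc.eq]
      · rw [← map_mul]
        have h2 := pow_orderOf_eq_one t
        rw [ht, pow_two] at h2
        rw [h2, map_one]
      · exact toCo0_smul t
    rw [← map_one toCo0] at h1
    rw [toCo0_injective h1, orderOf_one] at ht
    norm_num at ht
  have hy2 : mo2 0 R * mo2 0 R = 1 := by
    rw [PairCo2.mul_P okPR okPR, RR, mo2_one]
  refine RealBase.of_inv (x := mo2 0 c11) (y := mo2 0 R) (r := 11) (by norm_num) (by norm_num) orderOf_x2 ?_ hN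
  · have h1 : mo2 0 c11 * (mo2 0 R * mo2 0 c11) = mo2 0 R := by
      rw [PairCo2.mul_P okPR okPc, PairCo2.mul_P okPc (okP_pcomp okPR okPc), cRc]
    rw [eq_inv_iff_mul_eq_one]
    have h2 : mo2 0 R * mo2 0 c11 = (mo2 0 c11)⁻¹ * mo2 0 R := by rw [eq_inv_mul_iff_mul_eq]; exact h1
    rw [h2]
    group


theorem co2 {K : Type*} [Group K] (h : Spor.IsoCo2 K) : RealOdd K := by
  obtain ⟨e⟩ := h
  exact co2_model.congr e.symm

end Cfsg.Agent.H729.RealCo2
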