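import Cfsg.Agent.H729.RealBase
import Cfsg.Agent.H898.J3Cent
import Cfsg.Agent.H836.Main
import Cfsg.Agent.H843.N29
import Cfsg.Agent.H839.SeventeenMain
import Cfsg.Agent.H859.BigNum
import Cfsg.Agent.H463.Sp.Base

/-! # `RealOdd` for `J3`, `J4`, `Fi22`, `Fi23`, `Fi24'` (S2248, helper729) -/

set_option autoImplicit false
set_option maxRecDepth 100000

namespace Cfsg.Agent.H729.RealFi

open Cfsg Cfsg.Agent.H729.PairBase Subgroup Cfsg.Agent.H101.RO Cfsg.Agent.H463.Pair Cfsg.Agent.H463.Sp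

variable {K : Type*} [Group K]

theorem j3 (h : Spor.IsoJ3 K) : RealOdd K := by
  obtain ⟨hs, hcK, -⟩ := H898.J3Cent.base h
  have hfin : Finite K := Nat.finite_of_card_ne_zero (by rw [hcK]; norm_num)
  have : Fact (Nat.Prime 17) := ⟨by norm_num⟩
  obtain ⟨x, hx⟩ := exists_prime_orderOf_dvd_card' (G := K) 17 (by rw [hcK]; norm_num)
  obtain ⟨h1, h2⟩ := H898.J3Cent.seventeen h hx
  exact RealBase.of_odd_even (r := 17) (by norm_num) (by norm_num) hx (by rw [h1]; norm_num) (by rw [h2]; norm_num)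

theorem fi22 (h : Spor.IsoFi22 K) : RealOdd K := by
  obtain ⟨e⟩ := h
  have I := H836.inv_of_iso e
  have hfin : Finite K := I.ctx.finite
  have : Fact (Nat.Prime 13) := ⟨by norm_num⟩
  obtain ⟨x, hx⟩ := exists_prime_orderOf_dvd_card' (G := K) 13 (by rw [I.ctx.card]; norm_num)
  obtain ⟨h1, h2⟩ := (H836.Main.thirteen_concl e).2 (zpowers x) (by rw [Nat.card_zpowers, hx])
  rw [centralizer_zpowers_eq] at h2
  exact RealBase.of_odd_even (r := 13) (by norm_num) (by norm_num) hx
    (by rw [h2, Nat.card_zpowers, hx]; norm_num) (by rw [h1]; norm_num)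

/-- **Criterion.** A subgroup `H` of index 2, `x` of odd prime order, `|C(x)|` odd and `4 ∣ |N(⟨x⟩)|`. -/
theorem of_index_two {G : Type*} [Group G] [Finite G] {H : Subgroup G} (hi : H.index = 2) {r : ℕ} (hr : r.Prime)
    (hr2 : r ≠ 2) {x : G} (hx : orderOf x = r) (hC : ¬ 2 ∣ Nat.card (centralizer ({x} : Set G)))
    (hN : 4 ∣ Nat.card (normalizer ((zpowers x : Subgroup G) : Set G))) : RealOdd H := by
  classical
  have hr' : ¬ 2 ∣ r := fun h => hr2 ((Nat.prime_dvd_prime_iff_eq Nat.prime_two hr).1 h).symm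
  have hxH := mem_of_index_two hi hr' hx
  have hn : H.Normal := Subgroup.normal_of_index_eq_two hi
  set N : Subgroup G := normalizer ((zpowers x : Subgroup G) : Set G) with hNd
  have h1 : H.relIndex N ∣ 2 := hi ▸ Subgroup.relIndex_dvd_index_of_normal H N
  have h2 : Nat.card (H ⊓ N : Subgroup G) * H.relIndex N = Nat.card N := by
    have := Subgroup.card_mul_index (H.subgroupOf N)
    rw [Subgroup.relIndex]
    rw [← this]
    congr 1
    rw [← Subgroup.subgroupOf_map_subtype]
    exact (Nat.card_congr ((H.subgroupOf N).equivMapOfInjective _ N.subtype_injective).toEquiv).symm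
  have h3 : 2 ∣ Nat.card (H ⊓ N : Subgroup G) := by
    rcases (Nat.dvd_prime Nat.prime_two).1 h1 with h | h
    · rw [h, mul_one] at h2
      rw [h2]
      exact (by norm_num : 2 ∣ 4).trans hN
    · rw [h] at h2
      rw [← h2] at hN
      exact Nat.dvd_of_mul_dvd_mul_right (by norm_num : 0 < 2) hN
  have : Fact (Nat.Prime 2) := ⟨Nat.prime_two⟩
  obtain ⟨y, hy⟩ := exists_prime_orderOf_dvd_card' 2 h3
  have hyH : (y : G) ∈ H := y.2.1
  have hyN : (y : G) ∈ N := y.2.2
  have hx' : orderOf (⟨x, hxH⟩ : H) = r := by rw [Subgroup.orderOf_mk]; exact hx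
  refine RealBase.of_odd hr hr2 (x := (⟨x, hxH⟩ : H)) (y := (⟨y, hyH⟩ : H)) hx'
    (by rw [Subgroup.orderOf_mk, Subgroup.orderOf_coe, hy]) ?_ ?_
  · have h4 : (y : G) * x * (y : G)⁻¹ ∈ zpowers x := (Subgroup.mem_normalizer_iff.1 hyN x).1 (mem_zpowers x)
    have h5 := (isOfFinOrder_of_finite x).mem_zpowers_iff_mem_range_orderOf.1 h4
    rw [Finset.mem_image] at h5
    obtain ⟨k, -, hk⟩ := h5
    refine mem_normalizer_of_conj_pow (k := k) (Subtype.ext ?_)
    exact hk.symm
  · intro u hu hc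
    have h4 : Commute (u : G) x := congrArg Subtype.val hc
    exact hC (dvd_card_centralizer (x := (u : G)) (y := x) (r := 2) (by rw [Subgroup.orderOf_coe, hu]) h4)

theorem fi24_model : RealOdd Spor.Fi24' := by
  have : Finite Spor.Fi24 := Cfsg.Agent.R08.FiTwentyFour.finite_Fi24
  refine of_index_two Cfsg.Agent.R08.FiTwentyFour.index_commutator (r := 29) (by norm_num) (by norm_num)
    H843.D29.order ?_ ?_
  · rw [← centralizer_zpowers_eq, H843.D29.main.2]; norm_num
  · rw [H843.D29.main.1]; norm_num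

theorem fi24 (h : Spor.IsoFi24' K) : RealOdd K := by
  obtain ⟨e⟩ := h
  exact fi24_model.congr e.symm

theorem fi23 [Finite K] (h : Spor.IsoFi23 K) : RealOdd K := by
  obtain ⟨e⟩ := h
  have key := H839.Fi23.SC.map_all e.symm H839.Fi23.seventeen_main
  refine RealBase.of_sub (r := 17) (by norm_num) (by norm_num) ?_ ?_ ?_
  · rw [Nat.card_congr e.toEquiv, ← H839.Fi23.card_y17]
    exact Subgroup.card_subgroup_dvd_card _
  · intro P hP
    rw [(key P hP).2, hP]; norm_num
  · intro P hP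
    rw [(key P hP).1]; norm_num

theorem j4_model [Finite Spor.J4] : RealOdd Spor.J4 := by
  refine RealBase.of_sub (r := 29) (by norm_num) (by norm_num) ?_ ?_ ?_
  · obtain ⟨P, hP⟩ := H859.BigNum.exists_sub 29 (by norm_num)
    exact hP ▸ Subgroup.card_subgroup_dvd_card P
  · intro P hP
    rw [(H859.BigNum.data29' hP).1]; norm_num
  · intro P hP
    rw [(H859.BigNum.data29' hP).2]; norm_num

theorem j4 [Finite K] (h : Spor.IsoJ4 K) : RealOdd K := by
  obtain ⟨e⟩ := h
  have : Finite Spor.J4 := Finite.of_equiv K e.toEquiv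
  exact j4_model.congr e.symm

end Cfsg.Agent.H729.RealFi
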