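import Cfsg.Agent.H729.PairBase
import Cfsg.Agent.UGT.EndJ1.Data

/-!
# The coprime pair in `J1`: an involution inverting an element of order 7
-/

set_option autoImplicit false
set_option maxRecDepth 100000

namespace Cfsg.Agent.H729.PairJ1

open Subgroup Cfsg.Spor
open Cfsg.Agent.SporadicB.J1.Mat Cfsg.Agent.SporadicB.J1.Data Cfsg.Agent.SporadicB.J1.Main
open Cfsg.Agent.H729.PairBase

theorem noTwo {r : ℕ} (h : ¬ r ∣ 120) : NoTwo J1 r := by
  obtain ⟨D⟩ := UGT.EndJ1.Data.exists_dat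
  have hfin := D.fin
  refine NoTwo.of_card fun u hu => ?_
  have hu2 : u * u = 1 := by rw [← pow_two, ← hu, pow_orderOf_eq_one]
  have hu1 : u ≠ 1 := by
    rintro rfl
    rw [orderOf_one] at hu
    omega
  obtain ⟨g, rfl⟩ := D.conj_t hu2 hu1
  have h1 : Nat.card (centralizer ({g * D.t * g⁻¹} : Set J1)) = Nat.card (centralizer ({D.t} : Set J1)) := by
    refine Nat.card_congr ⟨fun x => ⟨g⁻¹ * x * g, ?_⟩, fun x => ⟨g * x * g⁻¹, ?_⟩, fun x => ?_, fun x => ?_⟩
    · rw [mem_centralizer_singleton_iff]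
      have := mem_centralizer_singleton_iff.1 x.2
      calc g⁻¹ * (x : J1) * g * D.t = g⁻¹ * ((x : J1) * (g * D.t * g⁻¹)) * g := by group
        _ = g⁻¹ * ((g * D.t * g⁻¹) * x) * g := by rw [this]
        _ = D.t * (g⁻¹ * x * g) := by group
    · rw [mem_centralizer_singleton_iff]
      have := mem_centralizer_singleton_iff.1 x.2
      calc g * (x : J1) * g⁻¹ * (g * D.t * g⁻¹) = g * ((x : J1) * D.t) * g⁻¹ := by group
        _ = g * (D.t * x) * g⁻¹ := by rw [this]
        _ = g * D.t * g⁻¹ * (g * x * g⁻¹) := by group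
    · apply Subtype.ext
      show g * (g⁻¹ * (x : J1) * g) * g⁻¹ = x
      group
    · apply Subtype.ext
      show g⁻¹ * (g * (x : J1) * g⁻¹) * g = x
      group
  rw [h1, D.card_C]
  exact h

def w1 : List Nat := [0, 1, 0, 1, 0, 1, 0, 1, 0, 1]

def w2 : List Nat := [0, 0, 0, 1, 0, 1, 0, 1, 0, 1, 0, 1, 2, 2]

def w3 : List Nat := [0, 0, 0, 0, 1, 0, 1, 0, 1, 0, 1, 0, 1, 2, 2, 2]

/-- two involutions with product of order 19 -/
theorem exists_nineteen : ∃ s t : J1, s * s = 1 ∧ t * t = 1 ∧ orderOf (s * t) = 19 := by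
  refine ⟨ev w1, ev w3, ?_, ?_, ?_⟩
  · exact ((rep_ev w1).mul (rep_ev w1)).eq Rep.one (by decide +kernel)
  · exact ((rep_ev w3).mul (rep_ev w3)).eq Rep.one (by decide +kernel)
  · have : Fact (Nat.Prime 19) := ⟨by norm_num⟩
    refine orderOf_eq_prime ?_ ?_
    · exact (((rep_ev w1).mul (rep_ev w3)).pow 19).eq Rep.one (by decide +kernel)
    · exact ((rep_ev w1).mul (rep_ev w3)).ne Rep.one (by decide +kernel)

theorem model : PairN J1 := by
  have hfin := (UGT.EndJ1.Data.exists_dat).some.fin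
  refine PairN.of_two (r := 7) (by norm_num) (by norm_num) (s := ev w1) (t := ev w2) ?_ ?_ ?_
    (noTwo (by norm_num))
  · exact ((rep_ev w1).mul (rep_ev w1)).eq Rep.one (by decide +kernel)
  · exact ((rep_ev w2).mul (rep_ev w2)).eq Rep.one (by decide +kernel)
  · have : Fact (Nat.Prime 7) := ⟨by norm_num⟩
    refine orderOf_eq_prime ?_ ?_
    · exact (((rep_ev w1).mul (rep_ev w2)).pow 7).eq Rep.one (by decide +kernel)
    · exact ((rep_ev w1).mul (rep_ev w2)).ne Rep.one (by decide +kernel)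

/-- **The row `J1`.** -/
theorem j1 {K : Type*} [Group K] (h : IsoJ1 K) : PairN K := by
  obtain ⟨e⟩ := h
  exact PairN.congr e.symm model

end Cfsg.Agent.H729.PairJ1
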