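import Cfsg.Agent.H729.PairTool
import Cfsg.Agent.H729.PairJ1
import Cfsg.Agent.SporadicB.ON45Sub
import Cfsg.Agent.KFacts.ON.OneClass
import Cfsg.Agent.UGT.C.BalONCard

/-!
# The coprime pair in the O'Nan group: two involutions of a subgroup `J1` with product of order 19
-/

set_option autoImplicit false

namespace Cfsg.Agent.H729.PairON

open Subgroup Cfsg Cfsg.Spor
open Cfsg.Agent.SporadicB.ON45Word (on)
open Cfsg.Agent.SporadicB.ON45Sub
open Cfsg.Agent.H729.PairBase

theorem noTwo {r : ℕ} (h : ¬ r ∣ 161280) : NoTwo ON r := by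
  have hfin := KFacts.ON.OneClass.finite_ON
  refine NoTwo.of_reps fun u hu hu1 => ?_
  obtain ⟨g, hg⟩ := isConj_iff.1 (KFacts.ON.OneClass.one_class hu hu1).symm
  refine ⟨_, g, hg, fun x hx hc => h ?_⟩
  rw [← UGT.C.BalONCard.card_centralizer KFacts.ON.Cent.hON, ← hx]
  exact Subgroup.orderOf_dvd_natCard _ (mem_centralizer_singleton_iff.2 hc)

theorem model : PairN ON := by
  have hfin := KFacts.ON.OneClass.finite_ON
  obtain ⟨s, t, hs, ht, hst⟩ := PairJ1.exists_nineteen
  obtain ⟨e⟩ := SporadicB.AtlasPres.J1Rec.nonempty_mulEquiv (relJ1 KFacts.ON.OneClass.hs) xA_ne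
  have key : ∀ u v : J1, (((e.symm u : Subgroup.closure {xA, xB}) : ON) * ((e.symm v : Subgroup.closure {xA, xB}) : ON))
      = ((e.symm (u * v) : Subgroup.closure {xA, xB}) : ON) := by
    intro u v
    rw [map_mul]
    rfl
  refine PairN.of_two (r := 19) (by norm_num) (by norm_num) (s := (e.symm s : ON)) (t := (e.symm t : ON)) ?_ ?_ ?_
    (noTwo (by norm_num))
  · rw [key, hs, map_one]; rfl
  · rw [key, ht, map_one]; rfl
  · rw [key, ← hst, Subgroup.orderOf_coe]
    exact e.symm.orderOf_eq _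

/-- **The row `ON`.** -/
theorem on {K : Type*} [Group K] (h : IsoON K) : PairN K := by
  obtain ⟨e⟩ := h
  exact PairN.congr e.symm model

end Cfsg.Agent.H729.PairON
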