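import Cfsg.Agent.H729.RealBase
import Cfsg.Agent.H729.PairON

/-! # `RealOdd` for `ON` (S2248, helper729) -/

set_option autoImplicit false
set_option maxRecDepth 100000

namespace Cfsg.Agent.H729.RealON

open Subgroup Cfsg Cfsg.Spor
open Cfsg.Agent.SporadicB.ON45Word (on)
open Cfsg.Agent.SporadicB.ON45Sub
open Cfsg.Agent.H729.PairBase Cfsg.Agent.H729.PairON Cfsg.Agent.H101.RO

theorem on_model : RealOdd ON := by
  have hfin := KFacts.ON.OneClass.finite_ON
  obtain ⟨s, t, hs, ht, hst⟩ := PairJ1.exists_nineteen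
  obtain ⟨e⟩ := SporadicB.AtlasPres.J1Rec.nonempty_mulEquiv (relJ1 KFacts.ON.OneClass.hs) xA_ne
  have key : ∀ u v : J1, (((e.symm u : Subgroup.closure {xA, xB}) : ON) * ((e.symm v : Subgroup.closure {xA, xB}) : ON))
      = ((e.symm (u * v) : Subgroup.closure {xA, xB}) : ON) := by
    intro u v
    rw [map_mul]
    rfl
  refine RealBase.of_two (r := 19) (by norm_num) (by norm_num) (s := (e.symm s : ON)) (t := (e.symm t : ON)) ?_ ?_ ?_
    (noTwo (by norm_num))
  · rw [key, hs, map_one]; rfl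
  · rw [key, ht, map_one]; rfl
  · rw [key, ← hst, Subgroup.orderOf_coe]
    exact e.symm.orderOf_eq _


theorem on {K : Type*} [Group K] (h : IsoON K) : RealOdd K := by
  obtain ⟨e⟩ := h
  exact on_model.congr e.symm

end Cfsg.Agent.H729.RealON
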