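import Cfsg.Agent.H729.RealBase
import Cfsg.Agent.Th.Main1700
import Cfsg.Agent.H149.Sp.Th

/-! # `RealOdd` for `Th`: two involutions whose product has order 19 (S2248, helper729) -/

set_option autoImplicit false
set_option maxRecDepth 100000

namespace Cfsg.Agent.H729.RealTh

open Cfsg Cfsg.Agent.H729.PairBase Cfsg.Agent.H101.RO
open Cfsg.Agent.Th.Gen248 Cfsg.Agent.Th.Hom248 Cfsg.Agent.Th.Simple19

/-- the value of a word in the presented group -/
noncomputable def ev (w : Wd) : Spor.Th :=
  (PresentedGroup.mk (Cfsg.Spor.coxRelators Cfsg.Spor.Th.edges ∪ {r | r ∈ Cfsg.Spor.Th.extra}) (toFree w) : Spor.Th)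

/-- the involution a d s -/
def v1 : Wd := .mul (.mul (.g .a) (.g .d)) (.g .s)

/-- the involution u b u⁻¹ -/
def v2 : Wd := .mul (.mul (.g .u) (.g .b)) (.g .U)

theorem v1_sq : Nat.beq (evN false (.mul v1 v1)) (evN false .one) = true := by decide +kernel

theorem v2_sq : Nat.beq (evN false (.mul v2 v2)) (evN false .one) = true := by decide +kernel

theorem v_19 : Nat.beq (evN false (p19 (.mul v1 v2))) (evN false .one) = true := by decide +kernel

theorem v_ne : Nat.beq (evN false (.mul v1 v2)) (evN false .one) = false := by decide +kernel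

theorem ev_eq_one {w : Wd} (h : Nat.beq (evN false w) (evN false .one) = true) : ev w = 1 := by
  apply Cfsg.Agent.Th.Main1700.rho_injective
  rw [ev, rho_mk, map_one]
  exact evG_eq h

theorem th_model [Finite Spor.Th] : RealOdd Spor.Th := by
  have hna := H149.Sp.na_th_all (p := 19) (by norm_num)
  have h1 : ev v1 * ev v1 = 1 := ev_eq_one v1_sq
  have h2 : ev v2 * ev v2 = 1 := ev_eq_one v2_sq
  have h3 : orderOf (ev v1 * ev v2) = 19 := order19 Cfsg.Agent.Th.Main1700.rho_injective v_19 v_ne
  exact RealBase.of_two (r := 19) (by norm_num) (by norm_num) h1 h2 h3 fun u x hu hx hc =>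
    hna x u hx hu hc.symm

theorem th {K : Type*} [Group K] [Finite K] (h : Spor.IsoTh K) : RealOdd K := by
  obtain ⟨e⟩ := h
  have : Finite Spor.Th := Finite.of_equiv _ e.toEquiv
  exact th_model.congr e.symm

end Cfsg.Agent.H729.RealTh
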