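import Cfsg.Agent.H729.RealBase
import Cfsg.Agent.H547.SelfCent.Tits
import Cfsg.Agent.H393.Iso.TitsJ4

/-! # `RealOdd` for the Tits group (S2248, helper729) -/

set_option autoImplicit false
set_option maxRecDepth 100000

namespace Cfsg.Agent.H729.RealTits

open Cfsg Cfsg.Agent.H729.PairBase Subgroup Cfsg.Agent.H101.RO Cfsg.Agent.H547.SelfCent

theorem tits {K : Type*} [Group K] [Finite K] (h : Lie.IsoTits K) : RealOdd K := by
  have hna := H393.Iso.na_tits h
  obtain ⟨e⟩ := h
  obtain ⟨y', t', j', h13, h1, ht, hj⟩ := TitsRow.exists_tits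
  obtain ⟨y, rfl⟩ : ∃ y, y' = e y := ⟨e.symm y', (e.apply_symm_apply _).symm⟩
  obtain ⟨j, rfl⟩ : ∃ y, j' = e y := ⟨e.symm j', (e.apply_symm_apply _).symm⟩
  have hj2 : j * y * j⁻¹ = y⁻¹ := e.injective (by simpa using hj)
  have h13' : y ^ 13 = 1 := e.injective (by simpa using h13)
  have h1' : y ≠ 1 := fun h => h1 (by rw [h, map_one])
  have hy : orderOf y = 13 := orderOf_eq_prime (hp := ⟨by norm_num⟩) h13' h1'
  exact RealOdd.of_elts (x := y) (y := j) (p := 13) (k := 1) (by norm_num) (by norm_num) le_rfl (by rw [hy, pow_one]) hj2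
    fun t ht h => hna y t hy ht h.symm

end Cfsg.Agent.H729.RealTits
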