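import Cfsg.Agent.H729.RealSmall
import Cfsg.Agent.H729.RealHS
import Cfsg.Agent.H729.RealON
import Cfsg.Agent.H729.RealCo2
import Cfsg.Agent.H729.RealFi
import Cfsg.Agent.H729.RealTits
import Cfsg.Agent.H729.RealLy
import Cfsg.Agent.H729.RealTh

/-!
# `RealOdd` for 19 sporadic groups and the Tits group (S2248, helper729)

The remaining rows of S2248 are `McL`, `Co3`, `HN`, `B`, `M`.
-/

set_option autoImplicit false

namespace Cfsg.Agent.H729.RealSpor

open Cfsg Cfsg.Agent.H101.RO

variable {K : Type*} [Group K] [Finite K]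

/-- **`RealOdd` for all sporadic groups except `M12`, `Co1`** from the rows `McL`, `Co3`, `HN`, `B`, `M`. -/
theorem spor (hmcl : Spor.IsoMcL K → RealOdd K) (hco3 : Spor.IsoCo3 K → RealOdd K) (hhn : Spor.IsoHN K → RealOdd K)
    (hb : Spor.IsoB K → RealOdd K) (hm : Spor.IsoM K → RealOdd K) (h : IsSporadicGroup K) :
    RealOdd K ∨ Spor.IsoM12 K ∨ Spor.IsoCo1 K := by
  rcases h with h | h | h | h | h | h | h | h | h | h | h | h | h | h | h | h | h | h | h | h | h | h | h | h | h | h
  · exact Or.inl (RealSmall.m11 h)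
  · exact Or.inr (Or.inl h)
  · exact Or.inl (RealSmall.m22 h)
  · exact Or.inl (RealSmall.m23 h)
  · exact Or.inl (RealSmall.m24 h)
  · exact Or.inl (RealSmall.j1 h)
  · exact Or.inl (RealSmall.j2 h)
  · exact Or.inl (RealFi.j3 h)
  · exact Or.inl (RealFi.j4 h)
  · exact Or.inr (Or.inr h)
  · exact Or.inl (RealCo2.co2 h)
  · exact Or.inl (hco3 h)
  · exact Or.inl (hmcl h)
  · exact Or.inl (RealHS.hs h)
  · exact Or.inl (RealSmall.suz h)
  · exact Or.inl (RealSmall.he h)
  · exact Or.inl (RealSmall.ru h)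
  · exact Or.inl (RealON.on h)
  · exact Or.inl (RealLy.ly h)
  · exact Or.inl (RealFi.fi22 h)
  · exact Or.inl (RealFi.fi23 h)
  · exact Or.inl (RealFi.fi24 h)
  · exact Or.inl (hhn h)
  · exact Or.inl (RealTh.th h)
  · exact Or.inl (hb h)
  · exact Or.inl (hm h)

/-- **The Tits group.** -/
theorem tits (h : Lie.IsoTits K) : RealOdd K := RealTits.tits h

end Cfsg.Agent.H729.RealSpor
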