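import Cfsg.Agent.H729.PairCo3
import Cfsg.Agent.H729.PairCoN
import Cfsg.Agent.SigZero.CoThree

/-!
# `Co3` satisfies `PairN`

`r = 7`. In `C(t) = 2.Sp6(2)` an involution `b` not conjugate to `t` inverts an element of order 7; `C(b) = 2 × M12`.
-/

set_option autoImplicit false

namespace Cfsg.Agent.H729.PairCo3N

open Subgroup Cfsg Cfsg.Agent.H729.PairBase Cfsg.Agent.H463.Pair Cfsg.Agent.H729.PairCo3
open Cfsg.Agent.SporRec.TwoSp6.Sp Cfsg.Agent.SporRec.TwoSp6.Invol
open Cfsg.Agent.SporRec.TwoSp6.CInvol (NS)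
open Cfsg.Agent.SporRec.Co3.Fusion (tC InB not_fused_B)
open Cfsg.Agent.SporRec.Co3.Chain Cfsg.Agent.SporRec.Co3.Ident Cfsg.Agent.SigZero

universe u

/-- the involution inverting `s7` -/
def sb : S := tr (enc 9) * tr (enc 38) * tr (enc 50)

def fb (c : ℕ) : ℕ := sc 9 (sc 38 (sc 50 c))

theorem act_sb (c : ℕ) : act sb (enc c) = enc (fb c) := by
  unfold sb fb
  simp only [act_mul, act_tr_enc]

theorem fbs : ∀ c < 64, fb (fs (fb (fs c))) = c := by decide +kernel

theorem sb_s7 : sb * s7 * (sb * s7) = 1 := by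
  apply act_ext
  intro x
  obtain ⟨c, hc, rfl⟩ := exists_enc x
  rw [act_one]
  simp only [act_mul, act_s7, act_sb]
  rw [fbs c hc]

theorem ind : Ind (enc 9) (enc 38) (enc 50) := by decide +kernel

theorem orth : Orth (enc 9) (enc 38) (enc 50) := by
  refine ⟨?_, ?_, ?_⟩ <;> rw [om_enc] <;> decide +kernel

section

variable {G : Type*} [Group G]

/-- An involution of type B inverting an element of order 7. -/
theorem exists_inv {t : G} {π : centralizer ({t} : Set G) →* S} (N : NS (tC t) π) :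
    ∃ b x : G, InB π b ∧ b * b = 1 ∧ orderOf x = 7 ∧ b * x * b⁻¹ = x⁻¹ := by
  have : Fact (Nat.Prime 7) := ⟨by norm_num⟩
  obtain ⟨b, hb⟩ := N.surj sb
  obtain ⟨x0, hx0⟩ := N.surj s7
  have hB : SporRec.TwoSp6.CInvol.IsB π b := ⟨_, _, _, ind, orth, hb⟩
  have hx7 : (x0 * x0) ^ 7 = 1 := by
    have h1 : π (x0 ^ 7) = 1 := by rw [map_pow, hx0, s7_pow]
    have h2 : (x0 * x0) ^ 7 = x0 ^ 7 * x0 ^ 7 := by rw [← pow_add, ← pow_two, ← pow_mul]
    rw [h2]
    rcases N.ker _ h1 with h | h
    · rw [h, one_mul]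
    · rw [h, N.z_sq]
  have hxne : x0 * x0 ≠ 1 := by
    intro h
    have h1 : s7 * s7 = 1 := by rw [← hx0, ← map_mul, h, map_one]
    have h2 : s7 ^ 7 = s7 := by
      have : s7 ^ 7 = (s7 * s7) * (s7 * s7) * (s7 * s7) * s7 := by
        simp only [pow_succ, pow_zero, one_mul, mul_assoc]
      rw [this, h1, one_mul, one_mul, one_mul]
    rw [s7_pow] at h2
    exact s7_ne h2.symm
  have hxo : orderOf (x0 * x0) = 7 := orderOf_eq_prime hx7 hxne
  have hinv : b * (x0 * x0) * b⁻¹ = (x0 * x0)⁻¹ := by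
    have h1 : π (b * (x0 * x0) * b⁻¹ * (x0 * x0)) = 1 := by
      have h2 : sb * s7 * sb⁻¹ = s7⁻¹ := by
        have hsb : sb * sb = 1 := by
          have h8 := congrArg π (N.sq_B hB)
          rwa [map_mul, hb, map_one] at h8
        rw [inv_eq_of_mul_eq_one_left hsb, eq_inv_iff_mul_eq_one, mul_assoc, mul_assoc, ← mul_assoc]
        exact sb_s7
      rw [map_mul, map_mul, map_mul, map_mul, map_inv, hb, hx0]
      calc sb * (s7 * s7) * sb⁻¹ * (s7 * s7) = (sb * s7 * sb⁻¹) * (sb * s7 * sb⁻¹) * (s7 * s7) := by group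
        _ = 1 := by rw [h2]; group
    rcases N.ker _ h1 with h | h
    · rw [eq_inv_iff_mul_eq_one]
      exact h
    · exfalso
      set w := x0 * x0 with hw
      have h2 : b * w * b⁻¹ = tC t * w⁻¹ := by
        rw [← h]
        group
      have h3 : (b * w * b⁻¹) ^ 7 = 1 := by
        rw [conj_pow, hx7]
        group
      have h4 : Commute (tC t) w⁻¹ := by
        show tC t * w⁻¹ = w⁻¹ * tC t
        exact N.z_comm w⁻¹
      rw [h2, h4.mul_pow, inv_pow, hx7, inv_one, mul_one] at h3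
      have h5 : (tC t) ^ 7 = tC t := by
        rw [show 7 = 2 * 3 + 1 from rfl, pow_succ, pow_mul, pow_two, N.z_sq, one_pow, one_mul]
      rw [h5] at h3
      exact N.z_ne h3
  refine ⟨b, ((x0 * x0 : centralizer ({t} : Set G)) : G), ⟨b.2, hB⟩, ?_, ?_, ?_⟩
  · exact congrArg Subtype.val (N.sq_B hB)
  · rw [Subgroup.orderOf_coe]
    exact hxo
  · exact congrArg Subtype.val hinv

end

/-- `7 ∤ |2 × M12|`. -/
theorem not_dvd_C [Finite CoThreeB.K] : ¬ 7 ∣ Nat.card (centralizer ({CoThreeB.wK} : Set CoThreeB.K)) := by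
  intro h
  have : Fact (Nat.Prime 7) := ⟨by norm_num⟩
  obtain ⟨k, hk⟩ := exists_prime_orderOf_dvd_card' 7 h
  have h1 : CoThreeB.proj k = 1 := by
    have hd1 : orderOf (CoThreeB.proj k) ∣ 7 := by rw [← hk]; exact orderOf_map_dvd _ _
    have hf : Finite Spor.M12 := Nat.finite_of_card_ne_zero (by
      rw [Cfsg.Agent.MTwelveType.SylowModel.card_M12]; norm_num)
    have hd2 := orderOf_dvd_natCard (CoThreeB.proj k)
    rw [Cfsg.Agent.MTwelveType.SylowModel.card_M12] at hd2
    have hd3 := Nat.dvd_gcd hd1 hd2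
    rw [show Nat.gcd 7 95040 = 1 from by norm_num] at hd3
    exact orderOf_eq_one_iff.1 (Nat.dvd_one.1 hd3)
  rcases CoThreeB.ker_proj h1 with h2 | h2
  · rw [h2, orderOf_one] at hk
    norm_num at hk
  · have h3 : k ^ 2 = 1 := by
      rw [pow_two]
      apply Subtype.ext
      change (k : CoThreeB.K) * k = 1
      rw [h2]
      exact CoThreeB.wK_sq
    have h4 := orderOf_dvd_of_pow_eq_one h3
    rw [hk] at h4
    norm_num at h4

/-- The centralizer of the image under an isomorphism. -/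
theorem card_centralizer_map {G H : Type*} [Group G] [Group H] (e : G ≃* H) (x : G) :
    Nat.card (centralizer ({e x} : Set H)) = Nat.card (centralizer ({x} : Set G)) := by
  have h3 : (centralizer ({x} : Set G)).map e.toMonoidHom = centralizer ({e x} : Set H) := by
    ext z
    rw [mem_centralizer_singleton_iff]
    constructor
    · rintro ⟨a, ha, rfl⟩
      rw [SetLike.mem_coe, mem_centralizer_singleton_iff] at ha
      change e a * e _ = e _ * e a
      rw [← map_mul, ha, map_mul]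
    · intro ha
      refine ⟨e.symm z, mem_centralizer_singleton_iff.2 ?_, e.apply_symm_apply z⟩
      apply e.injective
      rw [map_mul, map_mul, e.apply_symm_apply, ha]
  rw [← h3, card_map_of_injective (f := e.toMonoidHom) e.injective]

theorem finite_G3 : Finite G3 := Nat.finite_of_card_ne_zero (by rw [isCo3_G3.2]; norm_num)

theorem co3_model : PairN G3 := by
  have := finite_G3
  obtain ⟨π, N⟩ := KFacts.Co3D4.exists_NS_G3
  obtain ⟨b, x, hB, hbb, hx, hinv⟩ := exists_inv N
  obtain ⟨e⟩ := SigZero.CoThree.exists_equiv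
  have hf : Finite CoThreeB.K := Finite.of_equiv _ e.symm.toEquiv
  have hC : ¬ 7 ∣ Nat.card (centralizer ({e CoThreeB.wK} : Set G3)) := by
    rw [card_centralizer_map]
    exact not_dvd_C
  have hb1 : b ≠ 1 := by
    rintro rfl
    rw [one_mul, inv_one, mul_one, eq_inv_iff_mul_eq_one] at hinv
    have h1 := orderOf_dvd_of_pow_eq_one ((pow_two x).trans hinv)
    rw [hx] at h1
    norm_num at h1
  refine PairCoN.of_inv_card (r := 7) (by norm_num) (by norm_num) hbb hx hinv ?_
  rcases SigZero.CoThree.classes (w := e CoThreeB.wK) (by rw [← map_mul, CoThreeB.wK_sq, map_one])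
      (fun h => CoThreeB.wK_ne ((map_eq_one_iff e e.injective).1 h))
      (by
        rw [card_centralizer_map]
        exact SigZero.CoThree.card_C_le) hbb hb1 with ⟨g, hg⟩ | ⟨g, hg⟩
  · exact absurd hg (not_fused_B N hB g)
  · rw [← hg]
    have h1 := card_centralizer_map (MulAut.conj g) (e CoThreeB.wK)
    rw [MulAut.conj_apply] at h1
    rw [h1]
    exact hC

/-- `Co3`. -/
theorem co3 {K : Type u} [Group K] (h : Spor.IsoCo3 K) : PairN K := by
  obtain ⟨e⟩ := h
  exact PairN.congr (SporRec.Co3.Model.equivCo3.trans e.symm) co3_model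

end Cfsg.Agent.H729.PairCo3N
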