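import Cfsg.Agent.H729.PairQ
import Cfsg.Agent.KFacts.Co3D4.Model

/-!
# `Co3` satisfies `Pair45`

`C(t) = 2.Sp6(2)`, `E` the preimage of the unipotent radical of the stabilizer of a maximal isotropic subspace `W`,
`y ∈ E` a lift of a transvection (`y ^ 2 = t`), `r = 7`.
-/

set_option autoImplicit false

namespace Cfsg.Agent.H729.PairCo3

open Subgroup Cfsg Cfsg.Agent.H729.PairBase Cfsg.Agent.H463.Pair Cfsg.Agent.H729.PairQ
open Cfsg.Agent.SporRec.TwoSp6.Sp Cfsg.Agent.SporRec.TwoSp6.CInvol

universe u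

/-- The transvection of `d` on codes. -/
def sc (d c : ℕ) : ℕ := if fN c d then c ^^^ d else c

theorem act_tr_enc (d c : ℕ) : act (tr (enc d)) (enc c) = enc (sc d c) := by
  rw [act_tr, om_enc]
  unfold sc
  by_cases h : fN c d
  · rw [if_pos h, if_pos h, one_smul, enc_xor]
  · rw [if_neg h, if_neg h, zero_smul, add_zero]

/-- An element of order 7. -/
def s7 : S := tr (enc 1) * tr (enc 16) * tr (enc 17) * tr (enc 2) * tr (enc 8) * tr (enc 10) * tr (enc 5) *
  tr (enc 40) * tr (enc 45)

def fs (c : ℕ) : ℕ := sc 1 (sc 16 (sc 17 (sc 2 (sc 8 (sc 10 (sc 5 (sc 40 (sc 45 c))))))))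

theorem act_s7 (c : ℕ) : act s7 (enc c) = enc (fs c) := by
  unfold s7 fs
  simp only [act_mul, act_tr_enc]

theorem fs_seven : ∀ c < 64, fs (fs (fs (fs (fs (fs (fs c)))))) = c := by decide +kernel

theorem fs_lt : ∀ c < 64, (fs c < 8 ↔ c < 8) := by decide +kernel

theorem fs_lt' : ∀ c < 64, fs c < 64 := by decide +kernel

theorem s7_pow : s7 ^ 7 = 1 := by
  apply act_ext
  intro x
  obtain ⟨c, hc, rfl⟩ := exists_enc x
  rw [act_one]
  have : s7 ^ 7 = s7 * (s7 * (s7 * (s7 * (s7 * (s7 * s7))))) := by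
    simp only [pow_succ, pow_zero, one_mul, mul_assoc]
  rw [this]
  simp only [act_mul, act_s7]
  rw [fs_seven c hc]

theorem enc_inj : ∀ c < 64, ∀ d < 64, enc c = enc d → c = d := by
  intro c hc d hd h
  have key : ∀ c d : Fin 64, enc c = enc d → c = d := by decide +kernel
  exact congrArg Fin.val (key ⟨c, hc⟩ ⟨d, hd⟩ h)

theorem s7_ne : s7 ≠ 1 := by
  intro h
  have h1 := act_s7 1
  rw [h, act_one] at h1
  have h2 : fs 1 = 4 := by decide +kernel
  rw [h2] at h1
  exact absurd (enc_inj 1 (by norm_num) 4 (by norm_num) h1) (by norm_num)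

/-- The isotropic subspace. -/
def W (x : V) : Prop := ∃ c < 8, x = enc c

theorem W_enc {c : ℕ} (hc : c < 64) : W (enc c) ↔ c < 8 :=
  ⟨fun ⟨d, hd, h⟩ => by rw [enc_inj c hc d (by omega) h]; exact hd, fun h => ⟨c, h, rfl⟩⟩

theorem W_add {x y : V} (hx : W x) (hy : W y) : W (x + y) := by
  obtain ⟨c, hc, rfl⟩ := hx
  obtain ⟨d, hd, rfl⟩ := hy
  exact ⟨c ^^^ d, Nat.xor_lt_two_pow (n := 3) hc hd, (enc_xor c d).symm⟩

theorem enc_zero : enc 0 = 0 := by decide +kernel

theorem W_zero : W 0 := ⟨0, by norm_num, enc_zero.symm⟩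

theorem fN_W : ∀ c < 8, ∀ d < 8, fN c d = false := by decide +kernel

theorem om_W {x y : V} (hx : W x) (hy : W y) : om x y = 0 := by
  obtain ⟨c, hc, rfl⟩ := hx
  obtain ⟨d, hd, rfl⟩ := hy
  rw [om_enc, fN_W c hc d hd]
  rfl

/-- Elements preserving `W`. -/
def Pres (g : S) : Prop := ∀ x, W (act g x) ↔ W x

theorem Pres.mul {g h : S} (hg : Pres g) (hh : Pres h) : Pres (g * h) := fun x => by
  rw [act_mul, hg, hh]

theorem Pres.inv {g : S} (hg : Pres g) : Pres g⁻¹ := fun x => by
  rw [← hg (act g⁻¹ x), ← act_mul, mul_inv_cancel, act_one]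

theorem pres_s7 : Pres s7 := by
  intro x
  obtain ⟨c, hc, rfl⟩ := exists_enc x
  rw [act_s7, W_enc (fs_lt' c hc), W_enc hc, fs_lt c hc]

/-- membership in the unipotent radical -/
def InE (s : S) : Prop := ∀ x, W (act s x + x) ∧ (W x → act s x = x)

theorem InE.sq {s : S} (h : InE s) : s * s = 1 := by
  apply act_ext
  intro x
  rw [act_mul, act_one]
  have h1 := (h x).1
  have h2 : act s x = (act s x + x) + x := by rw [add_assoc, add_self, add_zero]
  rw [h2, act_add, (h _).2 h1]
  calc act s x + x + act s x = (act s x + act s x) + x := by abel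
    _ = x := by rw [add_self, zero_add]

theorem act_zero (g : S) : act g 0 = 0 := by
  have h := act_add g 0 0
  rw [add_zero] at h
  have h2 := congrArg (fun v => v + act g 0) h
  simp only [add_self] at h2
  exact h2.symm

/-- The unipotent radical. -/
def E0 : Subgroup S where
  carrier := {s | InE s}
  one_mem' := fun x => ⟨by rw [act_one, add_self]; exact W_zero, fun _ => act_one x⟩
  mul_mem' := by
    intro a b ha hb x
    constructor
    · have h1 := (hb x).1
      have h2 : act b x = (act b x + x) + x := by rw [add_assoc, add_self, add_zero]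
      rw [act_mul, h2, act_add, (ha _).2 h1, add_assoc]
      exact W_add h1 (ha x).1
    · intro hx
      rw [act_mul, (hb x).2 hx, (ha x).2 hx]
  inv_mem' := by
    intro a ha
    have h1 : a⁻¹ = a := inv_eq_of_mul_eq_one_left ha.sq
    rw [h1]
    exact ha

theorem mem_E0 {s : S} : s ∈ E0 ↔ InE s := Iff.rfl

theorem tr_mem {u : V} (hu : W u) : tr u ∈ E0 := by
  intro x
  constructor
  · rw [act_tr, add_comm x, add_assoc, add_self, add_zero]
    rcases om_cases x u with h | h
    · rw [h, zero_smul]; exact W_zero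
    · rw [h, one_smul]; exact hu
  · intro hx
    rw [act_tr, om_W hx hu, zero_smul, add_zero]

theorem conj_mem {g s : S} (hg : Pres g) (hs : s ∈ E0) : g * s * g⁻¹ ∈ E0 := by
  intro x
  have hx : act g (act g⁻¹ x) = x := by rw [← act_mul, mul_inv_cancel, act_one]
  constructor
  · rw [act_mul, act_mul]
    have h1 := (hs (act g⁻¹ x)).1
    have h2 : act g (act s (act g⁻¹ x)) + x = act g (act s (act g⁻¹ x) + act g⁻¹ x) := by
      rw [act_add, hx]
    rw [h2, hg]
    exact h1
  · intro hW
    rw [act_mul, act_mul, (hs _).2 ((hg.inv x).2 hW), hx]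

theorem tr_inj {a b : V} (ha : a ≠ 0) (h : tr a = tr b) : a = b := by
  obtain ⟨x, hx⟩ := exists_om_one ha
  rw [om_symm] at hx
  have h1 := act_tr a x
  rw [h, act_tr, hx, one_smul] at h1
  have h2 := add_left_cancel h1
  rcases om_cases x b with h3 | h3
  · rw [h3, zero_smul] at h2
    exact absurd h2.symm ha
  · rw [h3, one_smul] at h2
    exact h2.symm

/-- the action on vectors -/
@[instance_reducible] def actV : MulAction S V where
  smul := act
  one_smul := act_one
  mul_smul := act_mul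

/-- no element of order 7 fixes a nonzero vector -/
theorem not_fix {g : S} (hg : orderOf g = 7) {u : V} (hu : u ≠ 0) : act g u ≠ u := by
  intro h
  let _ := actV
  have : Finite S := Nat.finite_of_card_ne_zero (by rw [card_S]; norm_num)
  have h1 := Nat.card_congr (MulAction.orbitProdStabilizerEquivGroup S u)
  rw [Nat.card_prod, card_S] at h1
  have h2 : MulAction.orbit S u = {x : V | x ≠ 0} := by
    ext x
    rw [MulAction.mem_orbit_iff]
    constructor
    · rintro ⟨k, rfl⟩ h0
      apply hu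
      have h3 : act k⁻¹ (act k u) = u := by rw [← act_mul, inv_mul_cancel, act_one]
      have h4 : act k u = 0 := h0
      rw [h4, act_zero] at h3
      exact h3.symm
    · intro hx
      exact exists_act hu hx
  have h3 : Nat.card (MulAction.orbit S u) = 63 := by
    rw [h2]
    have : Nat.card {x : V | x ≠ 0} = Nat.card V - 1 := by
      rw [Nat.card_eq_fintype_card, Nat.card_eq_fintype_card]
      simp only [Set.coe_ofPred]
      rw [Fintype.card_subtype_compl]
      simp
    rw [this, Nat.card_eq_fintype_card]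
    rfl
  have h1' : 63 * Nat.card (MulAction.stabilizer S u) = 1451520 := by rw [← h3]; exact h1
  have h4 : g ∈ MulAction.stabilizer S u := h
  have h5 := Subgroup.orderOf_dvd_natCard _ h4
  rw [hg] at h5
  obtain ⟨m, hm⟩ := h5
  rw [hm] at h1'
  omega

section

open Cfsg.Agent.OddHalf.D4.Spor

variable {G : Type*} [Group G] [Finite G]

/-- A group with the centralizer of an involution a non-split `2.Sp6(2)`. -/
theorem pair {t : G} (ht : t ∈ centralizer ({t} : Set G)) {π : centralizer ({t} : Set G) →* S} (N : NS ⟨t, ht⟩ π) :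
    Pair45 G := by
  have : Fact (Nat.Prime 7) := ⟨by norm_num⟩
  set tc : centralizer ({t} : Set G) := ⟨t, ht⟩ with htc
  have htt : t * t = 1 := congrArg Subtype.val N.z_sq
  set E : Subgroup G := (E0.comap π).map (centralizer ({t} : Set G)).subtype with hE
  have hEm : ∀ c : centralizer ({t} : Set G), π c ∈ E0 → (c : G) ∈ E := fun c hc => ⟨c, hc, rfl⟩
  have hE2 : IsPGroup 2 E := by
    rintro ⟨_, c, hc, rfl⟩
    refine ⟨2, ?_⟩
    apply Subtype.ext
    show ((c : G)) ^ (2 ^ 2) = 1
    have h1 : π (c * c) = 1 := by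
      rw [map_mul]
      exact InE.sq hc
    have h2 : ((c : G)) ^ (2 ^ 2) = ((c * c : centralizer ({t} : Set G)) : G) * ((c * c : centralizer ({t} : Set G)) : G) := by
      rw [Subgroup.coe_mul]
      simp only [pow_succ, pow_zero, one_mul, mul_assoc, show 2 ^ 2 = 4 from rfl]
    rw [h2]
    rcases N.ker _ h1 with h | h
    · rw [h, Subgroup.coe_one, one_mul]
    · rw [h]
      exact htt
  obtain ⟨yc, hyc⟩ := N.surj (tr (enc 1))
  have hW1 : W (enc 1) := ⟨1, by norm_num, rfl⟩
  have hne1 : enc 1 ≠ 0 := by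
    rw [← enc_zero]
    intro h
    exact absurd (enc_inj 1 (by norm_num) 0 (by norm_num) h) (by norm_num)
  have hyy : (yc : G) * (yc : G) = t := congrArg Subtype.val (N.sq _ hne1 yc hyc)
  have ht1 : t ≠ 1 := fun h => N.z_ne (Subtype.ext h)
  obtain ⟨x0, hx0⟩ := N.surj s7
  have hx7 : (x0 * x0) ^ 7 = 1 := by
    have h1 : π (x0 ^ 7) = 1 := by rw [map_pow, hx0, s7_pow]
    have h2 : (x0 * x0) ^ 7 = x0 ^ 7 * x0 ^ 7 := by rw [← pow_add, ← pow_two, ← pow_mul]
    rw [h2]
    rcases N.ker _ h1 with h | h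
    · rw [h, one_mul]
    · rw [h, N.z_sq]
  have hxne : x0 * x0 ≠ 1 := by
    intro h
    have h1 : s7 * s7 = 1 := by rw [← hx0, ← map_mul, h, map_one]
    have h2 : s7 ^ 7 = s7 := by
      have : s7 ^ 7 = (s7 * s7) * (s7 * s7) * (s7 * s7) * s7 := by
        simp only [pow_succ, pow_zero, one_mul, mul_assoc]
      rw [this, h1, one_mul, one_mul, one_mul]
    rw [s7_pow] at h2
    exact s7_ne h2.symm
  have hxo : orderOf ((x0 * x0 : centralizer ({t} : Set G)) : G) = 7 := by
    rw [Subgroup.orderOf_coe]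
    exact orderOf_eq_prime hx7 hxne
  have hconj : ∀ c : centralizer ({t} : Set G), Pres (π c) → ∀ q ∈ E, (c : G) * q * (c : G)⁻¹ ∈ E := by
    rintro c hc _ ⟨q, hq, rfl⟩
    have := hEm (c * q * c⁻¹) (by rw [map_mul, map_mul, map_inv]; exact conj_mem hc hq)
    exact this
  have hpx : Pres (π (x0 * x0)) := by
    rw [map_mul, hx0]
    exact pres_s7.mul pres_s7
  refine of_elt (E := E) (x := ((x0 * x0 : centralizer ({t} : Set G)) : G)) (y := (yc : G)) hE2
    (hEm yc (by rw [hyc]; exact tr_mem hW1)) ?_ (r := 7) (by norm_num) (by norm_num) hxo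
    (mem_normalizer_of_conj ?_) ?_
  · intro h
    rw [h, one_mul] at hyy
    exact ht1 hyy.symm
  · rintro g (rfl | rfl)
    · exact hconj _ hpx
    · exact hconj (x0 * x0)⁻¹ (by rw [map_inv]; exact hpx.inv)
  · intro k hk ho
    have hkt : k * t = t * k := by
      rw [← hyy]
      exact ((show Commute k (yc : G) from hk).mul_right hk).eq
    set kc : centralizer ({t} : Set G) := ⟨k, mem_centralizer_singleton_iff.2 hkt⟩ with hkc
    have hko : orderOf kc = 7 := by rw [← ho]; exact Subgroup.orderOf_mk _ _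
    have h1 : kc * yc = yc * kc := Subtype.ext hk
    have h2 : π kc * tr (enc 1) * (π kc)⁻¹ = tr (enc 1) := by
      rw [← hyc, ← map_mul, h1, map_mul, mul_inv_cancel_right]
    rw [conj_tr] at h2
    have h3 : act (π kc) (enc 1) = enc 1 := (tr_inj hne1 h2.symm).symm
    refine not_fix ?_ hne1 h3
    refine orderOf_eq_prime ?_ fun h => ?_
    · rw [← map_pow, ← hko, pow_orderOf_eq_one, map_one]
    · have h4 : kc ^ 2 = 1 := by
        rcases N.ker _ h with h5 | h5
        · rw [h5, one_pow]
        · rw [h5, pow_two, N.z_sq]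
      have h5 := orderOf_dvd_of_pow_eq_one h4
      rw [hko] at h5
      norm_num at h5

end

/-- `Co3`. -/
theorem co3 {K : Type u} [Group K] (h : Spor.IsoCo3 K) : Pair45 K := by
  obtain ⟨e⟩ := h
  obtain ⟨π, N⟩ := Cfsg.Agent.KFacts.Co3D4.exists_NS_G3
  exact Cfsg.Agent.H463.Pair.congr (SporRec.Co3.Model.equivCo3.trans e.symm) (pair _ N)

end Cfsg.Agent.H729.PairCo3
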