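import Cfsg.Agent.H463.Pair
import Cfsg.Agent.SmallSimple.BurnsideNC

/-!
# Coprime pairs in the normalizer of a subgroup of prime order

`PairN S` : there are an odd prime `r`, a nontrivial `r`-element `x` and a nontrivial 2-element `y` of `S` normalizing
`⟨x⟩` such that `x` commutes with no image of `y` under an automorphism of `S`.  `PairN.pair45` : this is stronger than
`H463.Pair.Pair45 S`.

Criteria (no involution commutes with an element of order `r`):
* `of_inv`: an involution inverts an element of order `r`;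
* `of_two`: two involutions whose product has order `r`;
* `of_card_fermat`: `S` simple, `r` divides the order of `S` exactly once and `r - 1` is a power of 2;
* `of_card_cent`: `S` simple, `r` divides `|S|` exactly once, `|C(x)| = r c`, and the congruence `c e = |S| / r` mod `r`
  forces `e` to be even.
-/

set_option autoImplicit false

namespace Cfsg.Agent.H729.PairBase

open Subgroup Cfsg.Agent.H463.Pair

variable {S : Type*} [Group S]

/-- The coprime pair property with `y` normalizing `⟨x⟩`. -/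
def PairN (S : Type*) [Group S] : Prop :=
  ∃ (r : ℕ) (x y : S), r.Prime ∧ r ≠ 2 ∧ x ≠ 1 ∧ y ≠ 1 ∧ (∃ k : ℕ, orderOf x = r ^ k) ∧ (∃ k : ℕ, orderOf y = 2 ^ k) ∧
    y ∈ normalizer ((zpowers x : Subgroup S) : Set S) ∧ ∀ a : MulAut S, ¬ Commute x (a y)

theorem PairN.pair45 [Finite S] (h : PairN S) : Pair45 S := by
  obtain ⟨r, x, y, hr, hr2, hx, hy, hk, hl, hn, hc⟩ := h
  refine ⟨r, x, y, hr, hr2, hx, hy, hk, hl, ?_, hc⟩
  have hz : Group.IsSolvable ↥(zpowers x) := Group.isSolvable_of_comm fun a b => by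
    obtain ⟨m, hm⟩ := a.2
    obtain ⟨n, hn⟩ := b.2
    apply Subtype.ext
    show (a : S) * b = b * a
    rw [← hm, ← hn]
    exact ((Commute.refl x).zpow_zpow m n).eq
  exact solvable_closure (solvable_sup_zpowers hz hn) (mem_sup_left (mem_zpowers x))
    (mem_sup_right (mem_zpowers y))

/-- Invariance under isomorphisms. -/
theorem PairN.congr {S T : Type*} [Group S] [Group T] (e : S ≃* T) (h : PairN S) : PairN T := by
  obtain ⟨r, x, y, hr, hr2, hx, hy, ⟨k, hk⟩, ⟨l, hl⟩, hs, hc⟩ := h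
  have ho : ∀ z : S, orderOf (e z) = orderOf z := fun z => orderOf_injective e.toMonoidHom e.injective z
  refine ⟨r, e x, e y, hr, hr2, ?_, ?_, ⟨k, by rw [ho, hk]⟩, ⟨l, by rw [ho, hl]⟩, ?_, ?_⟩
  · rwa [Ne, map_eq_one_iff e e.injective]
  · rwa [Ne, map_eq_one_iff e e.injective]
  · rw [Subgroup.mem_normalizer_iff] at hs ⊢
    intro g
    have h1 : ∀ g : S, g ∈ zpowers x ↔ e g ∈ zpowers (e x) := by
      intro g
      simp only [mem_zpowers_iff]
      constructor
      · rintro ⟨n, rfl⟩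
        exact ⟨n, (map_zpow e x n).symm⟩
      · rintro ⟨n, hn⟩
        refine ⟨n, e.injective ?_⟩
        rw [map_zpow, hn]
    obtain ⟨g, rfl⟩ := e.surjective g
    have h2 : e y * e g * (e y)⁻¹ = e (y * g * y⁻¹) := by simp
    rw [h2, ← h1, ← h1]
    exact hs g
  · intro a ha
    apply hc ((e.trans a).trans e.symm)
    have h1 := ha.map e.symm
    rw [MulEquiv.symm_apply_apply] at h1
    exact h1

/-- No element of order 2 commutes with an element of order `r`. -/
def NoTwo (S : Type*) [Group S] (r : ℕ) : Prop :=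
  ∀ u x : S, orderOf u = 2 → orderOf x = r → ¬ Commute u x

theorem NoTwo.of_card [Finite S] {r : ℕ}
    (h : ∀ u : S, orderOf u = 2 → ¬ r ∣ Nat.card (centralizer ({u} : Set S))) : NoTwo S r := by
  intro u x hu hx hc
  exact h u hu (dvd_card_centralizer (hx ▸ dvd_refl _) hc.symm)

theorem NoTwo.odd_cent [Finite S] {r : ℕ} (h : NoTwo S r) {x : S} (hx : orderOf x = r) :
    ¬ 2 ∣ Nat.card (centralizer ({x} : Set S)) := by
  intro h2
  have : Fact (Nat.Prime 2) := ⟨Nat.prime_two⟩
  obtain ⟨g, hg⟩ := exists_prime_orderOf_dvd_card' 2 h2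
  have h1 := mem_centralizer_singleton_iff.1 g.2
  exact h g x (by rw [orderOf_coe, hg]) hx h1

/-- **Criterion.** `x` of order `r`, `y` a nontrivial 2-element normalizing `⟨x⟩`, `|C(x)|` odd. -/
theorem PairN.of_odd [Finite S] {r : ℕ} (hr : r.Prime) (hr2 : r ≠ 2) {x y : S} (hx : orderOf x = r)
    (hy : orderOf y = 2) (hn : y ∈ normalizer ((zpowers x : Subgroup S) : Set S))
    (hC : ∀ u : S, orderOf u = 2 → ¬ Commute u x) : PairN S := by
  refine ⟨r, x, y, hr, hr2, ?_, ?_, ⟨1, by rw [hx, pow_one]⟩, ⟨1, by rw [hy, pow_one]⟩, hn, ?_⟩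
  · rintro rfl
    rw [orderOf_one] at hx
    exact hr.one_lt.ne hx
  · rintro rfl
    rw [orderOf_one] at hy
    omega
  · intro a ha
    exact hC (a y) (by rw [← hy]; exact orderOf_injective a.toMonoidHom a.injective _) ha.symm

/-- **Criterion.** An involution inverts an element of order `r`. -/
theorem PairN.of_inv [Finite S] {r : ℕ} (hr : r.Prime) (hr2 : r ≠ 2) {x y : S} (hx : orderOf x = r)
    (hy : orderOf y = 2) (hn : y * x * y⁻¹ = x⁻¹) (hC : NoTwo S r) : PairN S := by
  refine PairN.of_odd hr hr2 hx hy ?_ fun u hu => hC u x hu hx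
  rw [Subgroup.mem_normalizer_iff]
  have h1 : ∀ g : S, g ∈ zpowers x → y * g * y⁻¹ ∈ zpowers x := by
    intro g hg
    obtain ⟨n, rfl⟩ := mem_zpowers_iff.1 hg
    rw [← conj_zpow, hn]
    exact zpow_mem (inv_mem (mem_zpowers x)) n
  intro g
  refine ⟨h1 g, fun h => ?_⟩
  have h2 := h1 _ h
  have hyy : y * y = 1 := by rw [← pow_two, ← hy, pow_orderOf_eq_one]
  have hyi : y⁻¹ = y := inv_eq_of_mul_eq_one_left hyy
  have h3 : y * (y * g * y⁻¹) * y⁻¹ = g := by
    rw [hyi]
    calc y * (y * g * y) * y = (y * y) * g * (y * y) := by group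
      _ = g := by rw [hyy, one_mul, mul_one]
  rwa [h3] at h2

/-- **Criterion.** Two involutions whose product has order `r`. -/
theorem PairN.of_two [Finite S] {r : ℕ} (hr : r.Prime) (hr2 : r ≠ 2) {s t : S} (hs : s * s = 1)
    (ht : t * t = 1) (h : orderOf (s * t) = r) (hC : NoTwo S r) : PairN S := by
  have hsi : s⁻¹ = s := inv_eq_of_mul_eq_one_left hs
  have hti : t⁻¹ = t := inv_eq_of_mul_eq_one_left ht
  have hs1 : s ≠ 1 := by
    rintro rfl
    rw [one_mul] at h
    have h2 : orderOf t ∣ 2 := orderOf_dvd_of_pow_eq_one (by rw [pow_two, ht])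
    rw [h] at h2
    exact hr2 ((Nat.prime_dvd_prime_iff_eq hr Nat.prime_two).1 h2)
  refine PairN.of_inv hr hr2 h (orderOf_eq_prime (by rw [pow_two, hs]) hs1) ?_ hC
  rw [hsi, mul_inv_rev, hsi, hti]
  calc s * (s * t) * s = (s * s) * t * s := by group
    _ = t * s := by rw [hs, one_mul]

theorem centralizer_zpowers_eq (x : S) : centralizer ((zpowers x : Subgroup S) : Set S) = centralizer ({x} : Set S) := by
  ext g
  rw [mem_centralizer_iff, mem_centralizer_singleton_iff]
  constructor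
  · intro h
    exact (h x (mem_zpowers x)).symm
  · rintro h _ ⟨n, rfl⟩
    exact ((show Commute g x from h).zpow_right n).eq.symm

/-- `x` of order `r`, `r` dividing `|S|` once: the numbers `e = |N : C|`. -/
theorem exists_data [Finite S] [IsSimpleGroup S] {r : ℕ} (hr : r.Prime) (h1 : r ∣ Nat.card S)
    (h2 : ¬ r ^ 2 ∣ Nat.card S) (hne : Nat.card S ≠ r) :
    ∃ (x : S) (e n : ℕ), orderOf x = r ∧ e ∣ r - 1 ∧ e ≠ 1 ∧ n % r = 1 ∧
      Nat.card (normalizer ((zpowers x : Subgroup S) : Set S)) = Nat.card (centralizer ({x} : Set S)) * e ∧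
      Nat.card S = n * (Nat.card (centralizer ({x} : Set S)) * e) ∧ r ∣ Nat.card (centralizer ({x} : Set S)) := by
  have : Fact r.Prime := ⟨hr⟩
  obtain ⟨x, hx⟩ := exists_prime_orderOf_dvd_card' r h1
  have hc : Nat.card (zpowers x) = r := by rw [Nat.card_zpowers, hx]
  have hfac : (Nat.card S).factorization r = 1 := by
    have h0 : Nat.card S ≠ 0 := Nat.card_pos.ne'
    have ha : 1 ≤ (Nat.card S).factorization r := (hr.dvd_iff_one_le_factorization h0).1 h1
    have hb : ¬ 2 ≤ (Nat.card S).factorization r := fun h => h2 ((hr.pow_dvd_iff_le_factorization h0).2 h)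
    omega
  have hP : Nat.card (zpowers x) = r ^ (Nat.card S).factorization r := by rw [hfac, pow_one, hc]
  let P : Sylow r S := Sylow.ofCard (zpowers x) hP
  have hPx : (P : Subgroup S) = zpowers x := rfl
  have hPs : (P : Set S) = ((zpowers x : Subgroup S) : Set S) := rfl
  obtain ⟨e, he, he1, -, h3, h4, h5⟩ :=
    SmallSimple.BurnsideNC.exists_automizer_of_card_eq_prime hne P (by rw [hPx, hc])
  rw [hPs, centralizer_zpowers_eq] at h3
  rw [hPs, centralizer_zpowers_eq] at h5
  refine ⟨x, e, Nat.card (Sylow r S), hx, he, he1, ?_, h3, ?_, h5⟩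
  · have := card_sylow_modEq_one r S
    rw [Nat.ModEq, Nat.mod_eq_of_lt hr.one_lt] at this
    exact this
  · rw [← h4, hPs, h3]

/-- If `r` divides `|S|` exactly once, it is enough to consider one element of order `r`. -/
theorem NoTwo.of_one [Finite S] {r : ℕ} (hr : r.Prime) (h2 : ¬ r ^ 2 ∣ Nat.card S) {x : S} (hx : orderOf x = r)
    (h : ∀ u : S, orderOf u = 2 → ¬ Commute u x) : NoTwo S r := by
  have : Fact r.Prime := ⟨hr⟩
  have h1 : r ∣ Nat.card S := hx ▸ orderOf_dvd_natCard x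
  have hfac : (Nat.card S).factorization r = 1 := by
    have h0 : Nat.card S ≠ 0 := Nat.card_pos.ne'
    have ha : 1 ≤ (Nat.card S).factorization r := (hr.dvd_iff_one_le_factorization h0).1 h1
    have hb : ¬ 2 ≤ (Nat.card S).factorization r := fun h => h2 ((hr.pow_dvd_iff_le_factorization h0).2 h)
    omega
  have hP : ∀ z : S, orderOf z = r → Nat.card (zpowers z) = r ^ (Nat.card S).factorization r := fun z hz => by
    rw [hfac, pow_one, Nat.card_zpowers, hz]
  intro u z hu hz hc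
  obtain ⟨g, hg⟩ := MulAction.exists_smul_eq S (Sylow.ofCard (zpowers z) (hP z hz)) (Sylow.ofCard (zpowers x) (hP x hx))
  have hg2 : x ∈ (g • (Sylow.ofCard (zpowers z) (hP z hz)) : Sylow r S) := by
    rw [hg]
    exact mem_zpowers x
  have hg3 : ∃ n : ℤ, g * z ^ n * g⁻¹ = x := by
    rw [← SetLike.mem_coe, Sylow.coe_smul, Set.mem_smul_set] at hg2
    obtain ⟨w, hw, hw2⟩ := hg2
    obtain ⟨n, hn⟩ := mem_zpowers_iff.1 (show w ∈ zpowers z from hw)
    refine ⟨n, ?_⟩
    rw [hn, ← hw2]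
    rfl
  obtain ⟨n, hn⟩ := hg3
  refine h (g * u * g⁻¹) ?_ ?_
  · rw [← hu]
    exact orderOf_injective (MulAut.conj g).toMonoidHom (MulAut.conj g).injective u
  · have h3 : Commute u (z ^ n) := hc.zpow_right n
    rw [← hn]
    show g * u * g⁻¹ * (g * z ^ n * g⁻¹) = g * z ^ n * g⁻¹ * (g * u * g⁻¹)
    calc g * u * g⁻¹ * (g * z ^ n * g⁻¹) = g * (u * z ^ n) * g⁻¹ := by group
      _ = g * (z ^ n * u) * g⁻¹ := by rw [h3.eq]
      _ = g * z ^ n * g⁻¹ * (g * u * g⁻¹) := by group

/-- If `r` divides `|S|` exactly once, all centralizers of elements of order `r` have the same order. -/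
theorem card_cent_of_one [Finite S] {r : ℕ} (hr : r.Prime) (h2 : ¬ r ^ 2 ∣ Nat.card S) {x : S} (hx : orderOf x = r)
    {z : S} (hz : orderOf z = r) :
    Nat.card (centralizer ({z} : Set S)) = Nat.card (centralizer ({x} : Set S)) := by
  have : Fact r.Prime := ⟨hr⟩
  have h1 : r ∣ Nat.card S := hx ▸ orderOf_dvd_natCard x
  have hfac : (Nat.card S).factorization r = 1 := by
    have h0 : Nat.card S ≠ 0 := Nat.card_pos.ne'
    have ha : 1 ≤ (Nat.card S).factorization r := (hr.dvd_iff_one_le_factorization h0).1 h1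
    have hb : ¬ 2 ≤ (Nat.card S).factorization r := fun h => h2 ((hr.pow_dvd_iff_le_factorization h0).2 h)
    omega
  have hP : ∀ z : S, orderOf z = r → Nat.card (zpowers z) = r ^ (Nat.card S).factorization r := fun z hz => by
    rw [hfac, pow_one, Nat.card_zpowers, hz]
  have key : ∀ x z : S, orderOf x = r → orderOf z = r → Nat.card (centralizer ({z} : Set S)) ≤
      Nat.card (centralizer ({x} : Set S)) := by
    intro x z hx hz
    obtain ⟨g, hg⟩ := MulAction.exists_smul_eq S (Sylow.ofCard (zpowers z) (hP z hz))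
      (Sylow.ofCard (zpowers x) (hP x hx))
    have hg2 : x ∈ (g • (Sylow.ofCard (zpowers z) (hP z hz)) : Sylow r S) := by
      rw [hg]
      exact mem_zpowers x
    have hg3 : ∃ n : ℤ, g * z ^ n * g⁻¹ = x := by
      rw [← SetLike.mem_coe, Sylow.coe_smul, Set.mem_smul_set] at hg2
      obtain ⟨w, hw, hw2⟩ := hg2
      obtain ⟨n, hn⟩ := mem_zpowers_iff.1 (show w ∈ zpowers z from hw)
      refine ⟨n, ?_⟩
      rw [hn, ← hw2]
      rfl
    obtain ⟨n, hn⟩ := hg3
    refine Nat.card_le_card_of_injective (fun u : centralizer ({z} : Set S) => ⟨g * u.1 * g⁻¹, ?_⟩) ?_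
    · rw [mem_centralizer_singleton_iff, ← hn]
      have h3 : Commute u.1 (z ^ n) := (show Commute u.1 z from mem_centralizer_singleton_iff.1 u.2).zpow_right n
      calc g * u.1 * g⁻¹ * (g * z ^ n * g⁻¹) = g * (u.1 * z ^ n) * g⁻¹ := by group
        _ = g * (z ^ n * u.1) * g⁻¹ := by rw [h3.eq]
        _ = g * z ^ n * g⁻¹ * (g * u.1 * g⁻¹) := by group
    · intro a b hab
      have h4 := congrArg Subtype.val hab
      exact Subtype.ext (by simpa using h4)
  exact le_antisymm (key x z hx hz) (key z x hz hx)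

/-- **Criterion.** `x` of order `r`, `y` a nontrivial 2-element normalizing `⟨x⟩` with `r ∤ |C(y)|`. -/
theorem PairN.of_cent [Finite S] {r : ℕ} (hr : r.Prime) (hr2 : r ≠ 2) {x y : S} (hx : orderOf x = r)
    (hy1 : y ≠ 1) (hy : ∃ k : ℕ, orderOf y = 2 ^ k) (hn : y ∈ normalizer ((zpowers x : Subgroup S) : Set S))
    (hC : ∀ g : S, orderOf g = r → ¬ Commute g y) : PairN S := by
  refine ⟨r, x, y, hr, hr2, ?_, hy1, ⟨1, by rw [hx, pow_one]⟩, hy, hn, ?_⟩
  · rintro rfl
    rw [orderOf_one] at hx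
    exact hr.one_lt.ne hx
  · intro a ha
    have h1 : Commute (a⁻¹ x) y := by
      have := ha.map (a⁻¹ : MulAut S)
      simpa using this
    exact hC (a⁻¹ x) (by rw [← hx]; exact orderOf_injective (a⁻¹ : MulAut S).toMonoidHom (a⁻¹ : MulAut S).injective _) h1

theorem mem_normalizer_of_conj_pow [Finite S] {x y : S} {k : ℕ} (h : y * x * y⁻¹ = x ^ k) :
    y ∈ normalizer ((zpowers x : Subgroup S) : Set S) := by
  have h1 : (zpowers x).map (MulAut.conj y).toMonoidHom ≤ zpowers x := by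
    rintro _ ⟨g, ⟨n, rfl⟩, rfl⟩
    show y * x ^ n * y⁻¹ ∈ zpowers x
    rw [← conj_zpow, h]
    exact zpow_mem (pow_mem (mem_zpowers x) k) n
  have h2 : (zpowers x).map (MulAut.conj y).toMonoidHom = zpowers x := by
    refine eq_of_le_of_card_ge h1 ?_
    rw [Nat.card_congr ((zpowers x).equivMapOfInjective _ (MulAut.conj y).injective).toEquiv.symm]
  rw [Subgroup.mem_normalizer_iff]
  intro g
  constructor
  · intro hg
    exact h1 ⟨g, hg, rfl⟩
  · intro hg
    rw [← h2] at hg
    obtain ⟨g', hg', e⟩ := hg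
    have : g' = g := (MulAut.conj y).injective e
    rwa [← this]

theorem PairN.of_even [Finite S] {r : ℕ} (hr : r.Prime) (hr2 : r ≠ 2) {x : S} (hx : orderOf x = r)
    (hN : 2 ∣ Nat.card (normalizer ((zpowers x : Subgroup S) : Set S))) (hC : NoTwo S r) : PairN S := by
  have : Fact (Nat.Prime 2) := ⟨Nat.prime_two⟩
  obtain ⟨y, hy⟩ := exists_prime_orderOf_dvd_card' 2 hN
  exact PairN.of_odd hr hr2 hx (by rw [orderOf_coe, hy]) y.2 fun u hu => hC u x hu hx

/-- **Criterion.** `|C(x)|` odd and `|N(⟨x⟩)|` even. -/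
theorem PairN.of_odd_even [Finite S] {r : ℕ} (hr : r.Prime) (hr2 : r ≠ 2) {x : S} (hx : orderOf x = r)
    (hC : ¬ 2 ∣ Nat.card (centralizer ({x} : Set S)))
    (hN : 2 ∣ Nat.card (normalizer ((zpowers x : Subgroup S) : Set S))) : PairN S := by
  have : Fact (Nat.Prime 2) := ⟨Nat.prime_two⟩
  obtain ⟨y, hy⟩ := exists_prime_orderOf_dvd_card' 2 hN
  exact PairN.of_odd hr hr2 hx (by rw [orderOf_coe, hy]) y.2 fun u hu hc =>
    hC (dvd_card_centralizer (by rw [hu]) hc)

/-- **Criterion.** `x` of order `r` generates its centralizer, `f` normalizes `⟨x⟩` and `f ^ m` is an involution. -/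
theorem PairN.of_gen [Finite S] {r k m : ℕ} (hr : r.Prime) (hr2 : r ≠ 2) {x f : S} (hx : orderOf x = r)
    (hf : f ^ (2 * m) = 1) (hf1 : f ^ m ≠ 1) (hfx : f * x * f⁻¹ = x ^ k)
    (hC : ∀ c : S, c * x = x * c → ∃ i : ℕ, c = x ^ i) : PairN S := by
  refine PairN.of_odd hr hr2 (y := f ^ m) hx ?_ (pow_mem (mem_normalizer_of_conj_pow hfx) m) ?_
  · exact orderOf_eq_prime (by rw [← pow_mul, mul_comm, hf]) hf1
  · intro u hu hc
    obtain ⟨i, rfl⟩ := hC u hc
    have h1 : orderOf (x ^ i) ∣ orderOf x := orderOf_pow_dvd i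
    rw [hu, hx] at h1
    exact hr2 ((Nat.prime_dvd_prime_iff_eq Nat.prime_two hr).1 h1).symm

/-- **Criterion.** `S` simple, `r` a Fermat prime dividing `|S|` exactly once, no element of order `2 r`. -/
theorem PairN.of_card_fermat [Finite S] [IsSimpleGroup S] {r k : ℕ} (hr : r.Prime) (hk : r - 1 = 2 ^ k)
    (hr2 : r ≠ 2) (h1 : r ∣ Nat.card S) (h2 : ¬ r ^ 2 ∣ Nat.card S) (hne : Nat.card S ≠ r) (hC : NoTwo S r) :
    PairN S := by
  obtain ⟨x, e, n, hx, he, he1, -, hN, -, -⟩ := exists_data hr h1 h2 hne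
  refine PairN.of_even hr hr2 hx ?_ hC
  rw [hN]
  refine dvd_mul_of_dvd_right ?_ _
  rw [hk] at he
  obtain ⟨j, hj, rfl⟩ := (Nat.dvd_prime_pow Nat.prime_two).1 he
  refine dvd_pow_self 2 ?_
  rintro rfl
  exact he1 (pow_zero 2)

/-- **Criterion.** `S` simple, `r` divides `|S| = r m` exactly once, no element of order `2 r`, and for every possible
`c` (`|C(x)| = r c`) no odd divisor `e ≠ 1` of `r - 1` satisfies `c e = m` modulo `r`. -/
theorem PairN.of_card_cent [Finite S] [IsSimpleGroup S] {r m : ℕ} (hr : r.Prime) (hr2 : r ≠ 2)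
    (hm : Nat.card S = r * m) (hm2 : ¬ r ∣ m) (hm1 : m ≠ 1) (hC : NoTwo S r)
    (Pc : ℕ → Prop) (hPc : ∀ x : S, orderOf x = r → ∀ c, Nat.card (centralizer ({x} : Set S)) = r * c → Pc c)
    (har : ∀ c, Pc c → ∀ e, e ∣ r - 1 → e ≠ 1 → ¬ 2 ∣ e → (c * e) % r ≠ m % r) :
    PairN S := by
  have hr0 : 0 < r := hr.pos
  have h2 : ¬ r ^ 2 ∣ Nat.card S := by
    rw [hm, pow_two]
    exact fun h => hm2 (Nat.dvd_of_mul_dvd_mul_left hr0 h)
  have hne : Nat.card S ≠ r := by
    rw [hm]
    intro h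
    exact hm1 (by nlinarith [Nat.eq_of_mul_eq_mul_left hr0 (h.trans (mul_one r).symm)])
  obtain ⟨x, e, n, hx, he, he1, hn, hN, hS, hd⟩ := exists_data hr (hm ▸ dvd_mul_right r m) h2 hne
  refine PairN.of_even hr hr2 hx ?_ hC
  rw [hN]
  refine dvd_mul_of_dvd_right ?_ _
  by_contra h
  obtain ⟨c, hc⟩ := hd
  refine har c (hPc x hx c hc) e he he1 h ?_
  rw [hm, hc] at hS
  have h3 : m = n * (c * e) := by
    apply Nat.eq_of_mul_eq_mul_left hr0
    rw [hS]; ring
  rw [h3, Nat.mul_mod n, hn, one_mul, Nat.mod_mod]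

end Cfsg.Agent.H729.PairBase
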