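import Cfsg.Agent.H729.Count
import Cfsg.Agent.H729.Norm
import Cfsg.Agent.H729.M24Deg
import Cfsg.Prelude.Def_Spor_Mathieu
import Cfsg.Agent.S0378

/-!
# `M22` has no irreducible character of degree divisible by `2 ^ 7`
-/

set_option autoImplicit false

namespace Cfsg.Agent.H729.M22Deg

open Cfsg Finset
open Cfsg.Agent.SporadicA.GolayBase Cfsg.Agent.SporadicA.GolayPerm
open Cfsg.Agent.SporadicStructure.M24El Cfsg.Agent.H729.Trans Cfsg.Agent.H729.MData Cfsg.Agent.H729.Count
open Cfsg.Agent.H729.Norm Cfsg.Agent.H729.M24Deg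

/-! ### the equality case of the counting -/

open Classical in
/-- If the counting inequality for `|χ|²` is an equality, the sum of `χ` over the elements of order `p` is
determined by the values on the powers of `x`. -/
theorem sum_eq_of_eq {G : Type*} [Group G] [Fintype G] {x : G} {p : ℕ} (hp : p.Prime) (hx : orderOf x = p) {n : ℕ}
    (hn : Nat.card {z : G // ∃ j ∈ Ico 1 p, z * x = x ^ j * z} ≤ n) {χ : G → ℂ} (hχ : IsCharacter G χ)
    (heq : (n : ℝ) * ∑ g ∈ univ.filter (fun g => orderOf g = p), Complex.normSq (χ g) ≤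
      (Nat.card G : ℝ) * ∑ k ∈ Ico 1 p, Complex.normSq (χ (x ^ k))) :
    (n : ℂ) * ∑ g ∈ univ.filter (fun g => orderOf g = p), χ g = (Nat.card G : ℂ) * ∑ k ∈ Ico 1 p, χ (x ^ k) := by
  set fib : G → ℕ := fun g => ((univ ×ˢ Ico 1 p).filter fun a : G × ℕ => a.1 * x ^ a.2 * a.1⁻¹ = g).card with hfib
  have hle : ∀ g, fib g ≤ n := fun g => (card_fiber_le hp hx g).trans hn
  have hmaps : ∀ a ∈ (univ : Finset G) ×ˢ Ico 1 p, a.1 * x ^ a.2 * a.1⁻¹ ∈
      univ.filter (fun g : G => orderOf g = p) := by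
    intro a ha
    rw [mem_product, mem_Ico] at ha
    rw [mem_filter]
    refine ⟨mem_univ _, ?_⟩
    have h2 : orderOf (a.1 * x ^ a.2 * a.1⁻¹) = orderOf (x ^ a.2) := by
      have h3 := orderOf_injective (MulAut.conj a.1).toMonoidHom (MulAut.conj a.1).injective (x ^ a.2)
      exact h3
    rw [h2]
    have h3 : (orderOf x).Coprime a.2 := by
      rw [hx]
      exact (Nat.Prime.coprime_iff_not_dvd hp).2 fun h => by
        have := Nat.le_of_dvd (by omega) h
        omega
    rw [h3.orderOf_pow, hx]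
  have key : ∀ {R : Type} [CommRing R] (F : G → R), (∀ g h, F (h * g * h⁻¹) = F g) →
      ∑ g ∈ univ.filter (fun g : G => orderOf g = p), (fib g : R) * F g =
        (Nat.card G : R) * ∑ k ∈ Ico 1 p, F (x ^ k) := by
    intro R _ F hc
    have h1 : ∑ a ∈ (univ : Finset G) ×ˢ Ico 1 p, F (a.1 * x ^ a.2 * a.1⁻¹) =
        (Nat.card G : R) * ∑ k ∈ Ico 1 p, F (x ^ k) := by
      rw [Finset.sum_product]
      simp_rw [hc]
      rw [Finset.sum_const, Finset.card_univ, nsmul_eq_mul, Nat.card_eq_fintype_card]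
    rw [← h1, ← Finset.sum_fiberwise_of_maps_to hmaps]
    refine Finset.sum_congr rfl fun g _ => ?_
    rw [← nsmul_eq_mul, hfib, ← Finset.sum_const]
    refine Finset.sum_congr rfl fun a ha => ?_
    rw [(mem_filter.1 ha).2]
  have hc : ∀ g h, χ (h * g * h⁻¹) = χ g := Cfsg.Agent.Characters.Core.isCharacter_isClassFunction hχ
  have h1 := key (fun g => Complex.normSq (χ g)) (fun g h => by simp only [hc g h])
  have h2 := key χ hc
  rw [← h1] at heq
  have h3 : ∑ g ∈ univ.filter (fun g : G => orderOf g = p), ((n : ℝ) - fib g) * Complex.normSq (χ g) = 0 := by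
    apply le_antisymm
    · simp_rw [sub_mul]
      rw [Finset.sum_sub_distrib, ← Finset.mul_sum]
      linarith
    · refine Finset.sum_nonneg fun g _ => mul_nonneg ?_ (Complex.normSq_nonneg _)
      rw [sub_nonneg]
      exact_mod_cast hle g
  have h4 : ∀ g ∈ univ.filter (fun g : G => orderOf g = p), ((n : ℝ) - fib g) * Complex.normSq (χ g) = 0 := by
    refine (Finset.sum_eq_zero_iff_of_nonneg fun g _ => mul_nonneg ?_ (Complex.normSq_nonneg _)).1 h3
    rw [sub_nonneg]
    exact_mod_cast hle g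
  rw [← h2, Finset.mul_sum]
  refine Finset.sum_congr rfl fun g hg => ?_
  rcases mul_eq_zero.1 (h4 g hg) with h5 | h5
  · have h6 : (n : ℝ) = fib g := sub_eq_zero.1 h5
    have h7 : n = fib g := by exact_mod_cast h6
    rw [← h7]
  · rw [Complex.normSq_eq_zero.1 h5, mul_zero, mul_zero]

/-! ### `M22` -/

/-- The inclusion of `M22` in `M24`. -/
def inc : Spor.M22 →* M24 where
  toFun g := ⟨(g : Equiv.Perm GolayPt), g.2.1.1⟩
  map_one' := rfl
  map_mul' _ _ := rfl

theorem inc_injective : Function.Injective inc := by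
  intro a b h
  exact Subtype.ext (congrArg (fun g : M24 => (g : Equiv.Perm GolayPt)) h)

theorem im_none (g : Spor.M22) : im (inc g) 23 = 23 := by
  have h : (g : Equiv.Perm GolayPt) none = none := g.2.1.2
  show idx ((g : Equiv.Perm GolayPt) (pt 23)) = 23
  have e : pt 23 = none := by decide
  rw [e, h]
  rfl

theorem im_zero (g : Spor.M22) : im (inc g) 0 = 0 := by
  have h : (g : Equiv.Perm GolayPt) (some 0) = some 0 := g.2.2
  show idx ((g : Equiv.Perm GolayPt) (pt 0)) = 0
  have e : pt 0 = some 0 := by decide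
  rw [e, h]
  rfl

/-- The candidate lists are `[23]`, `[0]` for these points and `0, …, 23` otherwise. -/
def stM (sts : List (ℕ × List ℕ × List (List (ℕ × ℕ)))) : Bool :=
  sts.all fun st => decide (st.2.1 = List.range 24) || (decide (st.1 = 23) && decide (st.2.1 = [23])) ||
    (decide (st.1 = 0) && decide (st.2.1 = [0]))

theorem st_M {sts : List (ℕ × List ℕ × List (List (ℕ × ℕ)))} (h : stM sts = true)
    (g : Spor.M22) : ∀ st ∈ sts, im (inc g) st.1 ∈ st.2.1 := by
  intro st hst
  have h1 := List.all_eq_true.1 h st hst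
  rw [Bool.or_eq_true, Bool.or_eq_true, Bool.and_eq_true, Bool.and_eq_true, decide_eq_true_iff, decide_eq_true_iff,
    decide_eq_true_iff, decide_eq_true_iff, decide_eq_true_iff] at h1
  rcases h1 with (h1 | ⟨h1, h2⟩) | ⟨h1, h2⟩
  · rw [h1]
    exact List.mem_range.2 (im_lt _ _)
  · rw [h1, h2, im_none]
    exact List.mem_singleton.2 rfl
  · rw [h1, h2, im_zero]
    exact List.mem_singleton.2 rfl

/-- An element of `M22` from a packed permutation. -/
theorem exists_el {c : ℕ} (hc : ok c = true) (h1 : papp c 23 = 23) (h2 : papp c 0 = 0) :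
    ∃ x : Spor.M22, inc x = el c := by
  have h3 : (el c : Equiv.Perm GolayPt) none = none := by
    have h := el_smul_pt hc (none : GolayPt)
    have e : idx none = 23 := rfl
    rw [e, h1] at h
    exact h
  have h4 : (el c : Equiv.Perm GolayPt) (some 0) = some 0 := by
    have h := el_smul_pt hc (some 0 : GolayPt)
    have e : idx (some 0) = 0 := rfl
    rw [e, h2] at h
    exact h
  exact ⟨⟨(el c : Equiv.Perm GolayPt), ⟨(el c).2, h3⟩, h4⟩, rfl⟩

theorem orderOf_inc (x : Spor.M22) : orderOf (inc x) = orderOf x := orderOf_injective inc inc_injective x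

theorem p7 : Nat.Prime 7 := by norm_num

theorem oM11 : orderOf (el cM11) = 11 :=
  orderOf_el p11 (ok_of_pre preM11) (by decide +kernel) 1 (by norm_num) (by decide +kernel)
theorem oM7 : orderOf (el cM7) = 7 :=
  orderOf_el p7 (ok_of_pre preM7) (by decide +kernel) 1 (by norm_num) (by decide +kernel)
theorem oM5 : orderOf (el cM5) = 5 :=
  orderOf_el p5 (ok_of_pre preM5) (by decide +kernel) 1 (by norm_num) (by decide +kernel)

theorem exists_eleven : ∃ x : Spor.M22, orderOf x = 11 ∧
    Nat.card {z : Spor.M22 // ∃ j ∈ Ico 1 11, z * x = x ^ j * z} ≤ 55 := by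
  obtain ⟨x, hx⟩ := exists_el (ok_of_pre preM11) (by decide +kernel) (by decide +kernel)
  refine ⟨x, by rw [← orderOf_inc, hx, oM11], ?_⟩
  rw [← totM11]
  exact card_norm_le inc inc_injective preM11 hx (fun g => st_M (by decide +kernel) g)

theorem exists_seven : ∃ x : Spor.M22, orderOf x = 7 ∧
    Nat.card {z : Spor.M22 // ∃ j ∈ Ico 1 7, z * x = x ^ j * z} ≤ 21 := by
  obtain ⟨x, hx⟩ := exists_el (ok_of_pre preM7) (by decide +kernel) (by decide +kernel)
  refine ⟨x, by rw [← orderOf_inc, hx, oM7], ?_⟩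
  rw [← totM7]
  exact card_norm_le inc inc_injective preM7 hx (fun g => st_M (by decide +kernel) g)

theorem exists_five : ∃ x : Spor.M22, orderOf x = 5 ∧
    Nat.card {z : Spor.M22 // ∃ j ∈ Ico 1 5, z * x = x ^ j * z} ≤ 20 := by
  obtain ⟨x, hx⟩ := exists_el (ok_of_pre preM5) (by decide +kernel) (by decide +kernel)
  refine ⟨x, by rw [← orderOf_inc, hx, oM5], ?_⟩
  rw [← totM5]
  exact card_norm_le inc inc_injective preM5 hx (fun g => st_M (by decide +kernel) g)

/-- `M22` is the two-point stabiliser in `M24`. -/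
def mulEquiv : Spor.M22 ≃* ↥(MulAction.stabilizer M24 (none : GolayPt) ⊓ MulAction.stabilizer M24 (some 0 : GolayPt)) where
  toFun g := ⟨inc g, g.2.1.2, g.2.2⟩
  invFun g := ⟨(g.1 : Equiv.Perm GolayPt), ⟨g.1.2, g.2.1⟩, g.2.2⟩
  left_inv _ := rfl
  right_inv _ := rfl
  map_mul' _ _ := rfl

theorem card_M22 : Nat.card Spor.M22 = 443520 := by
  rw [Nat.card_congr mulEquiv.toEquiv]
  exact Cfsg.Agent.S0378.result none (some 0) (by simp)

theorem fact2 : (Nat.card Spor.M22).factorization 2 = 7 := by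
  rw [card_M22, show 443520 = 2 ^ 7 * 3465 by norm_num, Nat.factorization_mul (by norm_num) (by norm_num),
    Nat.Prime.factorization_pow Nat.prime_two]
  rw [Finsupp.add_apply, Finsupp.single_eq_same, Nat.factorization_eq_zero_of_not_dvd (by norm_num)]

/-- **`M22` has no irreducible character of 2-defect zero.** -/
theorem not_dvd (χ : IrrCharacter Spor.M22) :
    ¬ 2 ^ (Nat.card Spor.M22).factorization 2 ∣ charDegree (χ : Spor.M22 → ℂ) := by
  rw [fact2]
  rintro ⟨d', hd'⟩
  have : Fintype Spor.M22 := Fintype.ofFinite _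
  have hχ := χ.2
  have hχc := Cfsg.Agent.Characters.Core.isIrr_isCharacter hχ
  have hd : (χ : Spor.M22 → ℂ) 1 = ((2 ^ 7 * d' : ℕ) : ℂ) := by
    rw [← hd']
    exact Cfsg.Agent.Blocks.Basic.irr_one_eq_charDegree hχ
  have hodd : Odd d' := by
    have h1 := Cfsg.Agent.Blocks.Knorr.charDegree_dvd hχ
    rw [card_M22, hd'] at h1
    rw [← Nat.not_even_iff_odd]
    rintro ⟨r, rfl⟩
    have h2 : 2 ^ 8 ∣ 443520 := by
      refine dvd_trans ⟨r, ?_⟩ h1
      ring
    omega
  set F : Spor.M22 → ℝ := fun g => Complex.normSq ((χ : Spor.M22 → ℂ) g) with hF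
  have hF0 : ∀ g, 0 ≤ F g := fun g => Complex.normSq_nonneg _
  have hFc : ∀ g h, F (h * g * h⁻¹) = F g := fun g h => normSq_conj hχc g h
  have hsum := sum_le_of_orders {5, 7, 11} (by norm_num) hF0
  rw [sum_normSq hχ, card_M22, Finset.sum_insert (by norm_num), Finset.sum_insert (by norm_num),
    Finset.sum_singleton] at hsum
  have hF1 : F 1 = ((2 ^ 7 * d' : ℕ) : ℝ) ^ 2 := by
    rw [hF]
    simp only
    rw [hd, Complex.normSq_natCast]
    ring
  obtain ⟨x11, o11, n11⟩ := exists_eleven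
  obtain ⟨x7, o7, n7⟩ := exists_seven
  obtain ⟨x5, o5, n5⟩ := exists_five
  have e11 := card_mul_le p11 o11 n11 hF0 hFc
  have e7 := card_mul_le p7 o7 n7 hF0 hFc
  have e5 := card_mul_le p5 o5 n5 hF0 hFc
  rw [card_M22] at e7 e11 e5
  have a11 := le_sum_normSq hχc (x := x11) (p := 11) (by norm_num) (by rw [← o11, pow_orderOf_eq_one]) hd
  have a7 := le_sum_normSq hχc (x := x7) (p := 7) (by norm_num) (by rw [← o7, pow_orderOf_eq_one]) hd
  have a5 := le_sum_normSq hχc (x := x5) (p := 5) (by norm_num) (by rw [← o5, pow_orderOf_eq_one]) hd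
  change _ ≤ ∑ k ∈ Ico 1 11, F (x11 ^ k) at a11
  change _ ≤ ∑ k ∈ Ico 1 7, F (x7 ^ k) at a7
  change _ ≤ ∑ k ∈ Ico 1 5, F (x5 ^ k) at a5
  rw [hF1] at hsum
  set S5 := ∑ g ∈ univ.filter (fun g : Spor.M22 => orderOf g = 5), F g with hS5
  set S7 := ∑ g ∈ univ.filter (fun g : Spor.M22 => orderOf g = 7), F g with hS7
  set S11 := ∑ g ∈ univ.filter (fun g : Spor.M22 => orderOf g = 11), F g with hS11
  set A5 := ∑ k ∈ Ico 1 5, F (x5 ^ k) with hA5
  set A7 := ∑ k ∈ Ico 1 7, F (x7 ^ k) with hA7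
  set A11 := ∑ k ∈ Ico 1 11, F (x11 ^ k) with hA11
  have hd16 : d' < 6 := by
    by_contra hlt
    have h1 : (6 : ℝ) ≤ d' := by exact_mod_cast not_lt.1 hlt
    have s5 : 0 ≤ S5 := Finset.sum_nonneg fun g _ => hF0 g
    have s7 : 0 ≤ S7 := Finset.sum_nonneg fun g _ => hF0 g
    have s11 : 0 ≤ S11 := Finset.sum_nonneg fun g _ => hF0 g
    push_cast at hsum
    nlinarith
  push_cast at e11 e7 e5 hsum
  have hcase : d' = 3 := by
    clear hd hd' hF1
    interval_cases d'
    · exact absurd hodd (by decide)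
    · norm_num at a7 a11 a5 hsum
      linarith
    · exact absurd hodd (by decide)
    · rfl
    · exact absurd hodd (by decide)
    · norm_num at a7 a11 a5 hsum
      linarith
  subst hcase
  norm_num at a7 a11 a5 hsum
  -- everything is an equality
  have q11 : A11 = 10 := by linarith
  have q7 : A7 = 6 := by linarith
  have q5 : A5 = 4 := by linarith
  have r11 := sum_eq_of_eq p11 o11 n11 hχc (by
    change (_ : ℝ) * S11 ≤ _ * A11
    rw [card_M22]
    push_cast
    linarith)
  have r7 := sum_eq_of_eq p7 o7 n7 hχc (by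
    change (_ : ℝ) * S7 ≤ _ * A7
    rw [card_M22]
    push_cast
    linarith)
  have r5 := sum_eq_of_eq p5 o5 n5 hχc (by
    change (_ : ℝ) * S5 ≤ _ * A5
    rw [card_M22]
    push_cast
    linarith)
  have t11 := sum_of_extremal hχc (x := x11) (p := 11) (by norm_num) (by rw [← o11, pow_orderOf_eq_one]) hd
    (by norm_num) (by
      change A11 = _
      rw [q11]
      norm_num)
  have t7 := sum_of_extremal hχc (x := x7) (p := 7) (by norm_num) (by rw [← o7, pow_orderOf_eq_one]) hd
    (by norm_num) (by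
      change A7 = _
      rw [q7]
      norm_num)
  have t5 := sum_of_extremal hχc (x := x5) (p := 5) (by norm_num) (by rw [← o5, pow_orderOf_eq_one]) hd
    (by norm_num) (by
      change A5 = _
      rw [q5]
      norm_num)
  -- the sum of all the values
  have hzero : ∑ g : Spor.M22, (χ : Spor.M22 → ℂ) g = 0 := by
    have h1 := Cfsg.Agent.Characters.Core.classInner_irr_ne hχ
      (Cfsg.Agent.Characters.Core.isIrr_one (G := Spor.M22)) (by
        intro h
        have h2 := congrFun h 1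
        rw [hd] at h2
        norm_num at h2)
    rw [Cfsg.Agent.Characters.Core.classInner_def] at h1
    have h2 : (Nat.card Spor.M22 : ℂ)⁻¹ ≠ 0 := inv_ne_zero Cfsg.Agent.Characters.Core.card_ne_zero_complex
    have h3 := (mul_eq_zero.1 h1).resolve_left h2
    rw [← h3]
    refine Finset.sum_congr rfl fun g _ => ?_
    simp
  have hout : ∀ g : Spor.M22, orderOf g ∉ ({1, 5, 7, 11} : Finset ℕ) → (χ : Spor.M22 → ℂ) g = 0 := by
    intro g hg
    have h1 := sum_le_of_orders (insert (orderOf g) {5, 7, 11}) (by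
      rw [Finset.mem_insert, not_or]
      refine ⟨fun h => hg ?_, by norm_num⟩
      rw [← h]
      norm_num) hF0
    rw [Finset.sum_insert (fun h => hg (Finset.mem_insert_of_mem h)), sum_normSq hχ, card_M22,
      Finset.sum_insert (by norm_num), Finset.sum_insert (by norm_num), Finset.sum_singleton, hF1,
      ← hS5, ← hS7, ← hS11] at h1
    have h2 : F g ≤ ∑ x ∈ univ.filter (fun x : Spor.M22 => orderOf x = orderOf g), F x :=
      Finset.single_le_sum (f := F) (fun x _ => hF0 x) (mem_filter.2 ⟨mem_univ g, rfl⟩)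
    have h3 : F g = 0 := by
      have := hF0 g
      norm_num at h1
      linarith
    exact Complex.normSq_eq_zero.1 h3
  have hall : ∑ g : Spor.M22, (χ : Spor.M22 → ℂ) g = (χ : Spor.M22 → ℂ) 1 +
      (∑ g ∈ univ.filter (fun g : Spor.M22 => orderOf g = 5), (χ : Spor.M22 → ℂ) g +
      (∑ g ∈ univ.filter (fun g : Spor.M22 => orderOf g = 7), (χ : Spor.M22 → ℂ) g +
      ∑ g ∈ univ.filter (fun g : Spor.M22 => orderOf g = 11), (χ : Spor.M22 → ℂ) g)) := by
    have h1 : ∑ p ∈ ({1, 5, 7, 11} : Finset ℕ), ∑ g ∈ univ.filter (fun g : Spor.M22 => orderOf g = p),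
        (χ : Spor.M22 → ℂ) g = ∑ g : Spor.M22, (χ : Spor.M22 → ℂ) g := by
      simp_rw [Finset.sum_filter]
      rw [Finset.sum_comm]
      refine Finset.sum_congr rfl fun g _ => ?_
      rw [Finset.sum_ite_eq]
      split_ifs with h
      · rfl
      · exact (hout g h).symm
    rw [← h1, Finset.sum_insert (by norm_num), Finset.sum_insert (by norm_num), Finset.sum_insert (by norm_num),
      Finset.sum_singleton]
    congr 1
    have : (univ.filter fun g : Spor.M22 => orderOf g = 1) = {1} := by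
      ext g
      rw [mem_filter, mem_singleton, orderOf_eq_one_iff]
      exact and_iff_right (mem_univ g)
    rw [this, Finset.sum_singleton]
  rw [hzero, hd] at hall
  rw [card_M22] at r11 r7 r5
  set Z5 := ∑ g ∈ univ.filter (fun g : Spor.M22 => orderOf g = 5), (χ : Spor.M22 → ℂ) g
  set Z7 := ∑ g ∈ univ.filter (fun g : Spor.M22 => orderOf g = 7), (χ : Spor.M22 → ℂ) g
  set Z11 := ∑ g ∈ univ.filter (fun g : Spor.M22 => orderOf g = 11), (χ : Spor.M22 → ℂ) g
  have z11 : Z11 = 8064 * ∑ k ∈ Ico 1 11, (χ : Spor.M22 → ℂ) (x11 ^ k) := by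
    push_cast at r11
    have : (55 : ℂ) * Z11 = 55 * (8064 * ∑ k ∈ Ico 1 11, (χ : Spor.M22 → ℂ) (x11 ^ k)) := by
      rw [r11]; ring
    exact mul_left_cancel₀ (by norm_num) this
  have z7 : Z7 = 21120 * ∑ k ∈ Ico 1 7, (χ : Spor.M22 → ℂ) (x7 ^ k) := by
    push_cast at r7
    have : (21 : ℂ) * Z7 = 21 * (21120 * ∑ k ∈ Ico 1 7, (χ : Spor.M22 → ℂ) (x7 ^ k)) := by
      rw [r7]; ring
    exact mul_left_cancel₀ (by norm_num) this
  have z5 : Z5 = 22176 * ∑ k ∈ Ico 1 5, (χ : Spor.M22 → ℂ) (x5 ^ k) := by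
    push_cast at r5
    have : (20 : ℂ) * Z5 = 20 * (22176 * ∑ k ∈ Ico 1 5, (χ : Spor.M22 → ℂ) (x5 ^ k)) := by
      rw [r5]; ring
    exact mul_left_cancel₀ (by norm_num) this
  rw [z11, z7, z5] at hall
  rcases t11 with t11 | t11 <;> rcases t7 with t7 | t7 <;> rcases t5 with t5 | t5 <;>
    · rw [t11, t7, t5] at hall
      norm_num at hall

end Cfsg.Agent.H729.M22Deg
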