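import Cfsg.Agent.H729.PairBase
import Cfsg.Agent.H729.M22Deg
import Cfsg.Agent.LThreeM.FiveFix
import Cfsg.Agent.SporadicA.MathieuRecog
import Cfsg.Agent.S0364
import Cfsg.Agent.S0365
import Cfsg.Agent.S0377

/-! # The coprime pairs in `M12`, `M22`, `M23`, `M24` -/

set_option autoImplicit false

namespace Cfsg.Agent.H729.PairMathieu

open Cfsg Finset PairBase
open scoped Pointwise
open Cfsg.Agent.SporadicA.GolayBase Cfsg.Agent.SporadicA.GolayPerm
open Cfsg.Agent.SporadicStructure.M24El Cfsg.Agent.H729.Trans Cfsg.Agent.H729.MData Cfsg.Agent.H729.Count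
open Cfsg.Agent.H729.M24Deg Cfsg.Agent.H729.M22Deg

/-! ### a centralizer list consisting of elements of odd order -/

variable {G : Type*} [Group G]

/-- If all packed permutations in the centralizer list have `n`-th power 1, so have the elements of the centralizer. -/
theorem pow_eq_one_of_list (φ : G →* M24) (hφ : Function.Injective φ) {x : G} {p c : ℕ}
    {wd : List (ℕ × ℕ)} {sts : List (ℕ × List ℕ × List (List (ℕ × ℕ)))}
    (h : pre p c wd sts = true) (hx : φ x = el c) (hst : ∀ g : G, ∀ st ∈ sts, im (φ g) st.1 ∈ st.2.1) {n : ℕ}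
    (hn : ((tl p c c wd sts).all fun P => Nat.beq (ppow P n) idP) = true) {z : G} (hz : Commute z x) : z ^ n = 1 := by
  have hc := ok_of_pre h
  have key : packOf (φ z : Equiv.Perm GolayPt) ∈ tl p c c wd sts := by
    refine packOf_mem_tl h hc (φ z) ?_ (hst z)
    rw [← hx, ← map_mul, ← map_mul, hz.eq]
  have h1 := Nat.eq_of_beq_eq_true (List.all_eq_true.1 hn _ key)
  have h2 : (φ z) ^ n = 1 := by
    rw [← el_packOf (φ z), ← el_ppow (ok_packOf _), h1, el_idP]
  exact hφ (by rw [map_pow, h2, map_one])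

/-! ### `M24` -/

theorem card_cent11 : Nat.card (Subgroup.centralizer ({el c11} : Set M24)) = 11 := by
  have h1 := card_cent_le (MonoidHom.id M24) Function.injective_id pre11 (x := el c11) rfl
    (fun g => st_triv (by decide +kernel) g)
  rw [len11] at h1
  have h2 : 11 ∣ Nat.card (Subgroup.centralizer ({el c11} : Set M24)) := by
    have h3 := Subgroup.orderOf_dvd_natCard (Subgroup.centralizer ({el c11} : Set M24))
      (Subgroup.mem_centralizer_singleton_iff.2 (rfl : el c11 * el c11 = el c11 * el c11))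
    rwa [o11] at h3
  have h3 : 0 < Nat.card (Subgroup.centralizer ({el c11} : Set M24)) := Nat.card_pos
  have h4 := Nat.le_of_dvd h3 h2
  omega

theorem card_cent_eleven {x : M24} (hx : orderOf x = 11) : Nat.card (Subgroup.centralizer ({x} : Set M24)) = 11 := by
  rw [← card_cent11]
  exact card_cent_of_one (by norm_num) (by rw [card_M24]; norm_num) o11 hx

theorem noTwo24 : NoTwo M24 11 := by
  refine NoTwo.of_card fun u hu h => ?_
  have : Fact (Nat.Prime 11) := ⟨by norm_num⟩
  obtain ⟨g, hg⟩ := exists_prime_orderOf_dvd_card' 11 h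
  have h1 := card_cent_eleven (x := (g : M24)) (by rw [Subgroup.orderOf_coe, hg])
  have h2 := H463.Pair.dvd_card_centralizer (x := u) (y := (g : M24)) (r := 2) (by rw [hu])
    (show Commute u (g : M24) from (Subgroup.mem_centralizer_singleton_iff.1 g.2).symm)
  rw [h1] at h2
  omega

theorem pairN24 : PairN M24 := by
  have : IsSimpleGroup M24 := Cfsg.Agent.S0365.result
  refine PairN.of_card_cent (r := 11) (m := 22256640) (by norm_num) (by norm_num) (by rw [card_M24]) (by norm_num)
    (by norm_num) noTwo24 (fun c => c = 1) ?_ ?_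
  · intro x hx c hc
    rw [card_cent_eleven hx] at hc
    omega
  · rintro c rfl e he he1 h2
    have : e ∈ Nat.divisors 10 := Nat.mem_divisors.2 ⟨he, by norm_num⟩
    have h3 : e ∈ ({1, 2, 5, 10} : Finset ℕ) := by
      have e1 : Nat.divisors 10 = {1, 2, 5, 10} := by decide
      rwa [e1] at this
    simp only [Finset.mem_insert, Finset.mem_singleton] at h3
    omega

/-! ### `M22` -/

theorem noTwo22 : NoTwo Spor.M22 5 := by
  obtain ⟨x, hx⟩ := exists_el (ok_of_pre preM5) (by decide +kernel) (by decide +kernel)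
  have hx5 : orderOf x = 5 := by rw [← orderOf_inc, hx, oM5]
  refine NoTwo.of_one (by norm_num) (by rw [card_M22]; norm_num) hx5 fun u hu hc => ?_
  have h1 := pow_eq_one_of_list inc inc_injective preM5 hx (fun g => st_M (by decide +kernel) g) (n := 5)
    (by decide +kernel) hc
  have h2 := orderOf_dvd_of_pow_eq_one h1
  rw [hu] at h2
  omega

theorem pairN22 : PairN Spor.M22 := by
  have : IsSimpleGroup Spor.M22 := Cfsg.Agent.SporadicA.MathieuRecog.simple_M22
  exact PairN.of_card_fermat (r := 5) (k := 2) (by norm_num) (by norm_num) (by norm_num)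
    (by rw [card_M22]; norm_num) (by rw [card_M22]; norm_num) (by rw [card_M22]; norm_num) noTwo22

/-! ### `M23` -/

/-- The inclusion of `M23` in `M24`. -/
def inc23 : Spor.M23 →* M24 where
  toFun g := ⟨(g : Equiv.Perm GolayPt), g.2.1⟩
  map_one' := rfl
  map_mul' _ _ := rfl

theorem inc23_injective : Function.Injective inc23 := by
  intro a b h
  exact Subtype.ext (congrArg (fun g : M24 => (g : Equiv.Perm GolayPt)) h)

theorem im_none23 (g : Spor.M23) : im (inc23 g) 23 = 23 := by
  have h : (g : Equiv.Perm GolayPt) none = none := g.2.2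
  show idx ((g : Equiv.Perm GolayPt) (pt 23)) = 23
  have e : pt 23 = none := by decide
  rw [e, h]
  rfl

theorem st_M23 {sts : List (ℕ × List ℕ × List (List (ℕ × ℕ)))}
    (h : (sts.all fun st => decide (st.2.1 = List.range 24) || (decide (st.1 = 23) && decide (st.2.1 = [23]))) = true)
    (g : Spor.M23) : ∀ st ∈ sts, im (inc23 g) st.1 ∈ st.2.1 := by
  intro st hst
  have h1 := List.all_eq_true.1 h st hst
  rw [Bool.or_eq_true, Bool.and_eq_true, decide_eq_true_iff, decide_eq_true_iff, decide_eq_true_iff] at h1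
  rcases h1 with h1 | ⟨h1, h2⟩
  · rw [h1]
    exact List.mem_range.2 (im_lt _ _)
  · rw [h1, h2, im_none23]
    exact List.mem_singleton.2 rfl

def cN5 : ℕ := 974380510768821363662145534143076928

def wdN5 : List (ℕ × ℕ) := [(1, 0), (4, 0), (4, 3), (2, 0), (4, 2), (5, 0), (4, 4), (5, 4), (6, 0), (6, 3), (5, 3), (7, 0), (6, 4), (6, 2), (7, 3), (3, 0), (6, 1), (7, 4), (4, 1), (7, 1), (5, 2), (5, 1), (7, 2), (0, 0)]

def stN5 : List (ℕ × List ℕ × List (List (ℕ × ℕ))) := [(23, [23], []),
  (0, List.range 24, []),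
  (3, List.range 24, []),
  (15, List.range 24, []),
  (1, List.range 24, [[(4, 0), (4, 3), (2, 0), (4, 2), (4, 4), (3, 0), (4, 1), (0, 0)]]),
  (5, List.range 24, [[(1, 0), (2, 0), (5, 0), (5, 4), (5, 3), (5, 2), (5, 1), (0, 0)]]),
  (8, List.range 24, [[(1, 0), (4, 0), (4, 3), (6, 3), (5, 3), (3, 0), (5, 2), (0, 0)]]),
  (11, List.range 24, [[(1, 0), (7, 0), (6, 4), (6, 2), (7, 3), (3, 0), (4, 1), (5, 1)]])]

theorem preN5 : pre 5 cN5 wdN5 stN5 = true := by decide +kernel

theorem powN5 : ((tl 5 cN5 cN5 wdN5 stN5).all fun P => Nat.beq (ppow P 15) idP) = true := by decide +kernel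

theorem noTwo23 : NoTwo Spor.M23 5 := by
  have hc := ok_of_pre preN5
  have h3 : (el cN5 : Equiv.Perm GolayPt) none = none := by
    have h := el_smul_pt hc (none : GolayPt)
    have e : idx none = 23 := rfl
    have e2 : papp cN5 23 = 23 := by decide +kernel
    rw [e, e2] at h
    exact h
  have ho : orderOf (el cN5) = 5 := oM5
  let x : Spor.M23 := ⟨(el cN5 : Equiv.Perm GolayPt), (el cN5).2, h3⟩
  have hx : inc23 x = el cN5 := rfl
  have hx5 : orderOf x = 5 := by rw [← ho, ← hx]; exact (orderOf_injective inc23 inc23_injective x).symm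
  refine NoTwo.of_one (by norm_num) (by rw [Cfsg.Agent.SporadicA.MathieuRecog.card_M23]; norm_num) hx5 fun u hu hcu => ?_
  have h1 := pow_eq_one_of_list inc23 inc23_injective preN5 hx (fun g => st_M23 (by decide +kernel) g) (n := 15)
    powN5 hcu
  have h2 := orderOf_dvd_of_pow_eq_one h1
  rw [hu] at h2
  omega

/-- `M23` is the point stabiliser in `M24`. -/
def mulEquiv23 : Spor.M23 ≃* ↥(MulAction.stabilizer M24 (none : GolayPt)) where
  toFun g := ⟨inc23 g, g.2.2⟩
  invFun g := ⟨(g.1 : Equiv.Perm GolayPt), g.1.2, g.2⟩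
  left_inv _ := rfl
  right_inv _ := rfl
  map_mul' _ _ := rfl

theorem simple_M23 : IsSimpleGroup Spor.M23 := by
  have := Cfsg.Agent.S0377.result (none : GolayPt)
  exact (MulEquiv.isSimpleGroup_congr mulEquiv23).2 this

theorem pairN23 : PairN Spor.M23 := by
  have : IsSimpleGroup Spor.M23 := simple_M23
  have hc := Cfsg.Agent.SporadicA.MathieuRecog.card_M23
  exact PairN.of_card_fermat (r := 5) (k := 2) (by norm_num) (by norm_num) (by norm_num)
    (by rw [hc]; norm_num) (by rw [hc]; norm_num) (by rw [hc]; norm_num) noTwo23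

/-! ### `M12` -/

/-- A permutation of order dividing 5 preserving a set of fewer than 5 points fixes it pointwise. -/
theorem fix_of_small {α : Type*} [DecidableEq α] {σ : Equiv.Perm α} (h5 : σ ^ 5 = 1) {F : Finset α} (hF : F.card < 5)
    (hinv : ∀ p ∈ F, σ p ∈ F) {p : α} (hp : p ∈ F) : σ p = p := by
  have hpow : ∀ n : ℕ, (σ ^ n) p ∈ F := by
    intro n
    induction n with
    | zero => exact hp
    | succ n ih => rw [pow_succ', Equiv.Perm.mul_apply]; exact hinv _ ih
  have h1 : ∃ i ∈ Finset.range 5, ∃ j ∈ Finset.range 5, i ≠ j ∧ (σ ^ i) p = (σ ^ j) p := by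
    refine Finset.exists_ne_map_eq_of_card_lt_of_maps_to (t := F) (by rw [card_range]; exact hF) fun n _ => hpow n
  have hper : Function.IsPeriodicPt σ 5 p := by
    rw [Function.IsPeriodicPt, Function.IsFixedPt, ← Equiv.Perm.coe_pow, h5]
    rfl
  have hlt : ∀ i j : ℕ, i < j → j < 5 → (σ ^ i) p = (σ ^ j) p → σ p = p := by
    intro i j hij hj e
    have h2 : Function.IsPeriodicPt σ (j - i) p := by
      rw [Function.IsPeriodicPt, Function.IsFixedPt, ← Equiv.Perm.coe_pow]
      apply (σ ^ i).injective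
      rw [← Equiv.Perm.mul_apply, ← pow_add, Nat.add_sub_cancel' hij.le, e]
    have h3 := hper.gcd h2
    have h4 : Nat.gcd 5 (j - i) = 1 := by
      have : j - i = 1 ∨ j - i = 2 ∨ j - i = 3 ∨ j - i = 4 := by omega
      rcases this with h | h | h | h <;> rw [h] <;> rfl
    rw [h4] at h3
    exact h3
  obtain ⟨i, hi, j, hj, hij, e⟩ := h1
  rw [Finset.mem_range] at hi hj
  rcases lt_or_gt_of_ne hij with h | h
  · exact hlt i j h hj e
  · exact hlt j i h hi e.symm

def cx : ℕ := 975446020372775247315195817692776486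
def cy : ℕ := 975712628650322320173913517561221155

theorem okx : ok cx = true := by decide +kernel
theorem oky : ok cy = true := by decide +kernel

/-- mask of the dodecad -/
def dod : List ℕ := [0, 1, 2, 3, 4, 6, 8, 9, 12, 13, 16, 18]

theorem mem_dod : ∀ p : GolayPt, p ∈ Spor.squareDodecad ↔ idx p ∈ dod := by decide +kernel

theorem mem_stab {c : ℕ} (hc : ok c = true) (h : (dod.all fun i => decide (papp c i ∈ dod)) = true) :
    (el c : Equiv.Perm GolayPt) ∈ Spor.M12 := by
  refine ⟨(el c).2, ?_⟩
  show (el c : Equiv.Perm GolayPt) ∈ MulAction.stabilizer (Equiv.Perm GolayPt) Spor.squareDodecad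
  rw [MulAction.mem_stabilizer_iff]
  apply Finset.eq_of_subset_of_card_le
  · intro p hp
    rw [Finset.mem_smul_finset] at hp
    obtain ⟨q, hq, rfl⟩ := hp
    rw [mem_dod] at hq ⊢
    have h1 := of_decide_eq_true (List.all_eq_true.1 h _ hq)
    have h2 : idx ((el c : Equiv.Perm GolayPt) • q) = papp c (idx q) := idx_el_smul hc q
    rwa [h2]
  · rw [Finset.card_smul_finset]

noncomputable def X : Spor.M12 := ⟨el cx, mem_stab okx (by decide +kernel)⟩
noncomputable def Y : Spor.M12 := ⟨el cy, mem_stab oky (by decide +kernel)⟩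

/-- The inclusion of `M12` in `M24`. -/
def inc12 : Spor.M12 →* M24 where
  toFun g := ⟨(g : Equiv.Perm GolayPt), g.2.1⟩
  map_one' := rfl
  map_mul' _ _ := rfl

theorem inc12_injective : Function.Injective inc12 := by
  intro a b h
  exact Subtype.ext (congrArg (fun g : M24 => (g : Equiv.Perm GolayPt)) h)

theorem orderX : orderOf X = 5 := by
  rw [← orderOf_injective inc12 inc12_injective X]
  exact orderOf_el (by norm_num) okx (by decide +kernel) 0 (by norm_num) (by decide +kernel)

theorem orderY : orderOf Y = 2 := by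
  rw [← orderOf_injective inc12 inc12_injective Y]
  exact orderOf_el (by norm_num) oky (by decide +kernel) 0 (by norm_num) (by decide +kernel)

theorem YXY : Y * X * Y⁻¹ = X⁻¹ := by
  rw [mul_inv_eq_iff_eq_mul, eq_inv_mul_iff_mul_eq]
  apply inc12_injective
  rw [map_mul, map_mul]
  show el cx * (el cy * el cx) = el cy
  rw [← el_pcomp oky okx, ← el_pcomp okx (ok_pcomp oky okx)]
  decide +kernel

/-- The fixed points of `Y` in the dodecad. -/
theorem fixY : ((List.range 24).all fun i => !(decide (i ∈ dod) && Nat.beq (papp cy i) i) || decide (i ∈ [1, 8, 9, 12])) =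
    true := by decide +kernel

theorem fixY' : (([1, 8, 9, 12] : List ℕ).all fun i => decide (i ∈ dod) && Nat.beq (papp cy i) i) = true := by
  decide +kernel

def FF : Finset GolayPt := {some 1, some 8, some 9, some 12}

theorem mem_FF : ∀ p : GolayPt, p ∈ FF ↔ idx p ∈ ([1, 8, 9, 12] : List ℕ) := by decide +kernel

theorem no_comm (g : Spor.M12) (hg : orderOf g = 5) (hc : Commute g Y) : False := by
  classical
  have hg5 : (g : Equiv.Perm GolayPt) ^ 5 = 1 := by
    have h : g ^ 5 = 1 := by rw [← hg, pow_orderOf_eq_one]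
    exact congrArg Subtype.val h
  have hD : ∀ p ∈ Spor.squareDodecad, (g : Equiv.Perm GolayPt) p ∈ Spor.squareDodecad := by
    intro p hp
    have h := MulAction.mem_stabilizer_iff.1 g.2.2
    rw [← h]
    exact Finset.smul_mem_smul_finset (a := (g : Equiv.Perm GolayPt)) hp
  have hY : ∀ p, (Y : Equiv.Perm GolayPt) p = pt (papp cy (idx p)) := fun p => el_smul_pt oky p
  have hF : ∀ p, p ∈ FF ↔ p ∈ Spor.squareDodecad ∧ (Y : Equiv.Perm GolayPt) p = p := by
    intro p
    rw [mem_FF, mem_dod, hY]
    constructor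
    · intro h
      have h1 := List.all_eq_true.1 fixY' _ h
      rw [Bool.and_eq_true, decide_eq_true_iff] at h1
      refine ⟨h1.1, ?_⟩
      rw [Nat.eq_of_beq_eq_true h1.2, pt_idx]
    · rintro ⟨h1, h2⟩
      have h3 : papp cy (idx p) = idx p := by
        rw [← idx_pt (papp_lt (ok_iff.1 oky).1 (idx_lt p)), h2]
      have h4 := List.all_eq_true.1 fixY (idx p) (List.mem_range.2 (idx_lt p))
      rw [Bool.or_eq_true, decide_eq_true_iff] at h4
      rcases h4 with h4 | h4
      · exfalso
        rw [decide_eq_true h1, h3, Nat.beq_refl] at h4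
        exact absurd h4 (by decide)
      · exact h4
  have hcomm : ∀ p, (g : Equiv.Perm GolayPt) ((Y : Equiv.Perm GolayPt) p) =
      (Y : Equiv.Perm GolayPt) ((g : Equiv.Perm GolayPt) p) := by
    intro p
    have h := congrArg (fun t : Spor.M12 => (t : Equiv.Perm GolayPt) p) hc.eq
    exact h
  have hinv : ∀ p ∈ FF, (g : Equiv.Perm GolayPt) p ∈ FF := by
    intro p hp
    rw [hF] at hp ⊢
    refine ⟨hD p hp.1, ?_⟩
    rw [← hcomm, hp.2]
  have hfix : ∀ p ∈ FF, (g : Equiv.Perm GolayPt) p = p :=
    fun p hp => fix_of_small hg5 (by decide) hinv hp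
  have h4 := Cfsg.Agent.LThreeM.FiveFix.fixed_le (σ := inc12 g)
    (by rw [orderOf_injective inc12 inc12_injective g, hg])
  have hfixF : ∀ p, (g : Equiv.Perm GolayPt) p = p → p ∈ FF := by
    have h5 : (FF : Set GolayPt) ⊆ MulAction.fixedBy GolayPt (inc12 g) := fun p hp => hfix p (Finset.mem_coe.1 hp)
    have h6 : (FF : Set GolayPt) = MulAction.fixedBy GolayPt (inc12 g) := by
      refine Set.eq_of_subset_of_ncard_le h5 ?_ (Set.toFinite _)
      rw [Set.ncard_coe_finset]
      exact h4.trans (by decide)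
    intro p hp
    have h7 : p ∈ MulAction.fixedBy GolayPt (inc12 g) := hp
    rw [← h6] at h7
    exact Finset.mem_coe.1 h7
  -- the action on the dodecad
  have hD' : ∀ p, p ∈ Spor.squareDodecad ↔ (g : Equiv.Perm GolayPt) p ∈ Spor.squareDodecad := by
    intro p
    refine ⟨hD p, fun h => ?_⟩
    have h1 : ∀ n : ℕ, ((g : Equiv.Perm GolayPt) ^ n) ((g : Equiv.Perm GolayPt) p) ∈ Spor.squareDodecad := by
      intro n
      induction n with
      | zero => exact h
      | succ n ih => rw [pow_succ', Equiv.Perm.mul_apply]; exact hD _ ih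
    have h2 := h1 4
    rw [← Equiv.Perm.mul_apply, ← pow_succ, hg5] at h2
    exact h2
  let τ : Equiv.Perm {p // p ∈ Spor.squareDodecad} := (g : Equiv.Perm GolayPt).subtypePerm (fun p => (hD' p).symm)
  have hτ5 : τ ^ 5 ^ 1 = 1 := by
    ext p
    rw [pow_one, Equiv.Perm.subtypePerm_pow]
    simp [hg5]
  have : Fact (Nat.Prime 5) := ⟨by norm_num⟩
  let f : Function.End {p // p ∈ Spor.squareDodecad} := fun p => τ p
  have hf5 : f ^ 5 ^ 1 = 1 := by
    funext p
    have h : τ (τ (τ (τ (τ p)))) = p :=
      congrArg (fun t : Equiv.Perm {p // p ∈ Spor.squareDodecad} => t p) hτ5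
    exact h
  have hmod := Equiv.Perm.card_fixedPoints_modEq (f := f) (p := 5) (n := 1) hf5
  have hcd : Fintype.card {p // p ∈ Spor.squareDodecad} = 12 := by
    rw [Fintype.card_coe]
    decide +kernel
  have hfx : Fintype.card (Function.fixedPoints f) = 4 := by
    have e : Fintype.card (Function.fixedPoints f) = FF.card := by
      rw [← Fintype.card_coe]
      refine Fintype.card_congr
        { toFun := fun p => ⟨p.1.1, hfixF _ (congrArg Subtype.val p.2)⟩
          invFun := fun p => ⟨⟨p.1, ((hF _).1 p.2).1⟩, Subtype.ext (hfix _ p.2)⟩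
          left_inv := fun _ => rfl
          right_inv := fun _ => rfl }
    rw [e]
    decide
  rw [hcd, hfx] at hmod
  exact absurd hmod (by decide)

theorem pairN12 : PairN Spor.M12 :=
  PairN.of_cent (r := 5) (by norm_num) (by norm_num) orderX
    (by intro h; have := orderY; rw [h, orderOf_one] at this; omega) ⟨1, by rw [orderY, pow_one]⟩
    (mem_normalizer_of_conj_pow (k := 4) (by
      rw [YXY]
      have h : X ^ 5 = 1 := by rw [← orderX, pow_orderOf_eq_one]
      exact inv_eq_of_mul_eq_one_left (by rw [← pow_succ, h])))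
    fun g hg hc => no_comm g hg hc

/-! ### up to isomorphism -/

variable {K : Type*} [Group K]

theorem m12 (h : Spor.IsoM12 K) : PairN K := by
  obtain ⟨e⟩ := h
  exact pairN12.congr e.symm

theorem m22 (h : Spor.IsoM22 K) : PairN K := by
  obtain ⟨e⟩ := h
  exact pairN22.congr e.symm

theorem m23 (h : Spor.IsoM23 K) : PairN K := by
  obtain ⟨e⟩ := h
  exact pairN23.congr e.symm

theorem m24 (h : Spor.IsoM24 K) : PairN K := by
  obtain ⟨e⟩ := h
  exact pairN24.congr e.symm

end Cfsg.Agent.H729.PairMathieu
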