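import Cfsg.Agent.H729.PairCoN
import Cfsg.Agent.MonsterN.ModelB
import Cfsg.Agent.H839.SeventeenMain
import Cfsg.Agent.LThreeM.FiPar
import Cfsg.Agent.MonsterU.NodesU
import Cfsg.Agent.MonsterP.Equiv
import Cfsg.Agent.S1704

/-!
# The Monster and the Baby Monster satisfy `PairN`

`r = 17`. The double cover `2.B = C(t)` of the Baby Monster contains `Fi23`, and `Fi23` contains a dihedral group of
order 34. An involution inverting an element of order 17 is not of class `2A` (products of two of these have order at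
most 6), hence of class `2B`, and `17 ∤ |2^(1+24).Co1|`.
-/

set_option autoImplicit false

namespace Cfsg.Agent.H729.PairMB

open Subgroup Cfsg Cfsg.Agent.H729.PairBase Cfsg.Agent.H463.Pair

universe u

/-- An involution normalizing but not centralizing a subgroup of prime order inverts it. -/
theorem inverts {G : Type*} [Group G] [Finite G] {p : ℕ} (hp : p.Prime) {x y : G} (hx : orderOf x = p) (hy : y * y = 1)
    (hn : y ∈ normalizer ((zpowers x : Subgroup G) : Set G)) (hc : y * x ≠ x * y) : y * x * y⁻¹ = x⁻¹ := by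
  have h1 : y * x * y⁻¹ ∈ zpowers x := (Subgroup.mem_normalizer_iff.1 hn x).1 (mem_zpowers x)
  obtain ⟨k, hk⟩ := mem_zpowers_iff.1 h1
  have h2 : x ^ (k * k) = x := by
    calc x ^ (k * k) = (x ^ k) ^ k := zpow_mul x k k
      _ = (y * x * y⁻¹) ^ k := by rw [hk]
      _ = y * x ^ k * y⁻¹ := conj_zpow
      _ = y * (y * x * y⁻¹) * y⁻¹ := by rw [hk]
      _ = (y * y) * x * (y * y)⁻¹ := by group
      _ = x := by rw [hy]; group
  have h3 : x ^ (k * k - 1) = 1 := by
    rw [zpow_sub, h2, zpow_one, mul_inv_cancel]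
  have h4 : ((p : ℕ) : ℤ) ∣ (k - 1) * (k + 1) := by
    rw [← hx]
    have := orderOf_dvd_iff_zpow_eq_one.2 h3
    rwa [show (k - 1) * (k + 1) = k * k - 1 by ring]
  rcases (Nat.prime_iff_prime_int.1 hp).dvd_or_dvd h4 with h5 | h5
  · exfalso
    rw [← hx] at h5
    have h6 := orderOf_dvd_iff_zpow_eq_one.1 h5
    rw [zpow_sub, zpow_one, mul_inv_eq_one] at h6
    rw [h6] at hk
    exact hc (by rw [eq_mul_inv_iff_mul_eq] at hk; exact hk.symm)
  · rw [← hx] at h5
    have h6 := orderOf_dvd_iff_zpow_eq_one.1 h5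
    rw [zpow_add, zpow_one] at h6
    rw [← hk]
    exact eq_inv_of_mul_eq_one_left h6

/-- A dihedral subgroup of order 34 of `Fi23`. -/
theorem exists_fi23 : ∃ s x : Spor.Fi23, s * s = 1 ∧ orderOf x = 17 ∧ s * x * s⁻¹ = x⁻¹ := by
  have : Fact (Nat.Prime 2) := ⟨Nat.prime_two⟩
  have hs : IsSimpleGroup Spor.Fi23 := LThreeFi23.nsimple
  obtain ⟨x, hx⟩ : ∃ x : Spor.Fi23, orderOf x = 17 :=
    ⟨_, by rw [← Nat.card_zpowers]; exact H839.Fi23.card_y17⟩
  obtain ⟨h1, h2⟩ := H839.Fi23.seventeen_main (zpowers x) (by rw [Nat.card_zpowers, hx])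
  have hfN : Finite ↥(normalizer ((zpowers x : Subgroup Spor.Fi23) : Set Spor.Fi23)) :=
    Nat.finite_of_card_ne_zero (by rw [h1]; norm_num)
  obtain ⟨y, hy⟩ := exists_prime_orderOf_dvd_card' 2
    (show 2 ∣ Nat.card ↥(normalizer ((zpowers x : Subgroup Spor.Fi23) : Set Spor.Fi23)) by rw [h1]; norm_num)
  have hyo : orderOf (y : Spor.Fi23) = 2 := by rw [Subgroup.orderOf_coe, hy]
  have hy2 : (y : Spor.Fi23) * y = 1 := by rw [← pow_two, ← hyo, pow_orderOf_eq_one]
  refine ⟨y, x, hy2, hx, inverts (p := 17) (by norm_num) hx hy2 y.2 fun hc => ?_⟩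
  have h3 : (y : Spor.Fi23) ∈ centralizer ((zpowers x : Subgroup Spor.Fi23) : Set Spor.Fi23) := by
    rw [centralizer_zpowers_eq]
    exact mem_centralizer_singleton_iff.2 hc
  rw [h2] at h3
  have h4 := Subgroup.orderOf_dvd_natCard _ h3
  rw [Nat.card_zpowers, hx, hyo] at h4
  norm_num at h4

/-- the centralizer of a conjugate -/
theorem card_cent_conj {G : Type*} [Group G] (g x : G) :
    Nat.card (centralizer ({g * x * g⁻¹} : Set G)) = Nat.card (centralizer ({x} : Set G)) := by
  have h3 : (centralizer ({x} : Set G)).map (MulAut.conj g).toMonoidHom = centralizer ({g * x * g⁻¹} : Set G) := by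
    ext w
    rw [mem_centralizer_singleton_iff]
    constructor
    · rintro ⟨a, ha, rfl⟩
      rw [SetLike.mem_coe, mem_centralizer_singleton_iff] at ha
      change g * a * g⁻¹ * (g * x * g⁻¹) = g * x * g⁻¹ * (g * a * g⁻¹)
      calc g * a * g⁻¹ * (g * x * g⁻¹) = g * (a * x) * g⁻¹ := by group
        _ = g * (x * a) * g⁻¹ := by rw [ha]
        _ = _ := by group
    · intro hw
      refine ⟨g⁻¹ * w * g, mem_centralizer_singleton_iff.2 ?_, ?_⟩
      · calc g⁻¹ * w * g * x = g⁻¹ * (w * (g * x * g⁻¹)) * g := by group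
          _ = g⁻¹ * (g * x * g⁻¹ * w) * g := by rw [hw]
          _ = _ := by group
      · change g * (g⁻¹ * w * g) * g⁻¹ = w
        group
  rw [← h3, card_map_of_injective (f := (MulAut.conj g).toMonoidHom) (MulAut.conj g).injective]

/-- An involution inverting an element of order 17 in a group with two classes of involutions, products of pairs of the
first one of order at most 6. -/
theorem not_dvd {G : Type*} [Group G] {t z : G} (six : ∀ g : G, orderOf (t * (g * t * g⁻¹)) ≤ 6)
    (hz : ¬ 17 ∣ Nat.card (centralizer ({z} : Set G)))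
    (cl : ∀ u : G, u * u = 1 → u ≠ 1 → (∃ h, h * z * h⁻¹ = u) ∨ ∃ h, h * t * h⁻¹ = u) {s x : G} (hs : s * s = 1)
    (hx : orderOf x = 17) (hinv : s * x * s⁻¹ = x⁻¹) : ¬ 17 ∣ Nat.card (centralizer ({s} : Set G)) := by
  have hs1 : s ≠ 1 := by
    rintro rfl
    rw [one_mul, inv_one, mul_one, eq_inv_iff_mul_eq_one] at hinv
    have h1 := orderOf_dvd_of_pow_eq_one ((pow_two x).trans hinv)
    rw [hx] at h1
    norm_num at h1
  rcases cl s hs hs1 with ⟨h, rfl⟩ | ⟨h, rfl⟩
  · rw [card_cent_conj]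
    exact hz
  · exfalso
    set s := h * t * h⁻¹ with hsd
    have h1 : s * x = x⁻¹ * s := by rw [← hinv]; group
    have hp : ∀ n : ℕ, s * x ^ n = (x⁻¹) ^ n * s := by
      intro n
      induction n with
      | zero => simp
      | succ n ih => rw [pow_succ, ← mul_assoc, ih, mul_assoc, h1, ← mul_assoc, ← pow_succ]
    -- `s x` is the conjugate of `s` by `x ^ 8`
    have h2 : x ^ 8 * s * (x ^ 8)⁻¹ = s * x := by
      have h3 : x ^ 17 = 1 := by rw [← hx, pow_orderOf_eq_one]
      have h4 : (x ^ 8)⁻¹ = x ^ 9 := by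
        rw [inv_eq_iff_mul_eq_one, ← pow_add]
        exact h3
      rw [h4, mul_assoc, hp 9, ← mul_assoc, h1]
      congr 1
      rw [inv_pow, mul_inv_eq_iff_eq_mul, eq_inv_mul_iff_mul_eq]
      rw [← pow_succ']
    have h5 := six (h⁻¹ * x ^ 8 * h)
    have h6 : h * (t * (h⁻¹ * x ^ 8 * h * t * (h⁻¹ * x ^ 8 * h)⁻¹)) * h⁻¹ = x := by
      calc h * (t * (h⁻¹ * x ^ 8 * h * t * (h⁻¹ * x ^ 8 * h)⁻¹)) * h⁻¹
          = s * (x ^ 8 * s * (x ^ 8)⁻¹) := by rw [hsd]; group
        _ = x := by rw [h2, ← mul_assoc, hs, one_mul]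
    have h7 : orderOf x = orderOf (t * (h⁻¹ * x ^ 8 * h * t * (h⁻¹ * x ^ 8 * h)⁻¹)) := by
      conv_lhs => rw [← h6]
      exact (MulAut.conj h).orderOf_eq _
    omega

/-- an element commuting with the image of `s` under a double cover lifts -/
theorem core {G : Type*} [Group G] [Finite G] {t z : G} (ht : orderOf t = 2)
    (hcov : IsNonsplitDoubleCover (centralizer ({t} : Set G)) Spor.BabyMonster)
    (six : ∀ g : G, orderOf (t * (g * t * g⁻¹)) ≤ 6) (hz : ¬ 17 ∣ Nat.card (centralizer ({z} : Set G)))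
    (cl : ∀ u : G, u * u = 1 → u ≠ 1 → (∃ h, h * z * h⁻¹ = u) ∨ ∃ h, h * t * h⁻¹ = u) :
    PairN G ∧ PairN Spor.BabyMonster := by
  have : Fact (Nat.Prime 17) := ⟨by norm_num⟩
  have hB : IsSimpleGroup Spor.BabyMonster := S1704.result.1
  have hBc := S1704.result.2
  have hBf : Finite Spor.BabyMonster := Nat.finite_of_card_ne_zero (by rw [hBc]; norm_num)
  have hs : IsSimpleGroup Spor.Fi23 := LThreeFi23.nsimple
  set C := centralizer ({t} : Set G) with hC
  have htC : t ∈ C := mem_centralizer_singleton_iff.2 rfl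
  have ht1 : t ≠ 1 := by
    rintro rfl
    rw [orderOf_one] at ht
    norm_num at ht
  have ht2 : t * t = 1 := by rw [← pow_two, ← ht, pow_orderOf_eq_one]
  have hnc : ∃ a b : Spor.BabyMonster, a * b ≠ b * a := by
    by_contra hcon
    push Not at hcon
    let _ : CommGroup Spor.BabyMonster := { (inferInstance : Group Spor.BabyMonster) with mul_comm := hcon }
    have h1 := IsSimpleGroup.prime_card (α := Spor.BabyMonster)
    rw [hBc] at h1
    norm_num at h1
  have hperf := MonsterN.ModelB.perf_of hnc hcov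
  have hcen : ∀ x : C, x * ⟨t, htC⟩ = ⟨t, htC⟩ * x := fun x => Subtype.ext (mem_centralizer_singleton_iff.1 x.2)
  have ht1' : (⟨t, htC⟩ : C) ≠ 1 := fun h => ht1 (congrArg Subtype.val h)
  obtain ⟨θ, u₀, hθ⟩ := LThreeM.FiPar.exists_theta hcov.1 hperf hcov.2.1 hcen ht1'
  have hinj : Function.Injective θ := by
    rw [← MonoidHom.ker_eq_bot_iff]
    rcases MonoidHom.normal_ker θ |>.eq_bot_or_eq_top with h | h
    · exact h
    · exfalso
      apply hθ
      rw [← MonoidHom.mem_ker, h]
      exact mem_top _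
  obtain ⟨s0, x0, hs0, hx0, hi0⟩ := exists_fi23
  set s := θ s0 with hsd
  set x := θ x0 with hxd
  have hs2 : s * s = 1 := by rw [hsd, ← map_mul, hs0, map_one]
  have hxo : orderOf x = 17 := by rw [hxd, orderOf_injective θ hinj, hx0]
  have hinv : s * x * s⁻¹ = x⁻¹ := by rw [hsd, hxd, ← map_mul, ← map_inv, ← map_mul, hi0, map_inv]
  have hs2' : (s : G) * s = 1 := congrArg Subtype.val hs2
  have hxo' : orderOf (x : G) = 17 := by rw [Subgroup.orderOf_coe, hxo]
  have hinv' : (s : G) * x * (s : G)⁻¹ = (x : G)⁻¹ := congrArg Subtype.val hinv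
  have hnd := not_dvd six hz cl hs2' hxo' hinv'
  refine ⟨PairCoN.of_inv_card (r := 17) (by norm_num) (by norm_num) hs2' hxo' hinv' hnd, ?_⟩
  -- the Baby Monster
  obtain ⟨q, hq⟩ : ∃ q : C →* Spor.BabyMonster, Function.Surjective q ∧ ∀ c, q c = 1 → c = 1 ∨ (c : G) = t := by
    obtain ⟨h2, ⟨e⟩, -⟩ := hcov
    refine ⟨e.toMonoidHom.comp (QuotientGroup.mk' (center C)), e.surjective.comp (QuotientGroup.mk'_surjective _), ?_⟩
    intro c hc
    have h3 : QuotientGroup.mk' (center C) c = 1 := e.injective (by rw [map_one]; exact hc)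
    have h4 : c ∈ center C := (QuotientGroup.eq_one_iff c).1 h3
    by_contra hcon
    push Not at hcon
    have htm : (⟨t, htC⟩ : C) ∈ center C := mem_center_iff.2 hcen
    have h5 : 2 < Nat.card (center C) := by
      have hf : Finite (center C) := Nat.finite_of_card_ne_zero (by rw [h2]; norm_num)
      have h6 : ({1, ⟨c, h4⟩, ⟨⟨t, htC⟩, htm⟩} : Set (center C)).ncard = 3 := by
        rw [Set.ncard_eq_three]
        refine ⟨_, _, _, ?_, ?_, ?_, rfl⟩
        · intro h; exact hcon.1 (congrArg Subtype.val h).symm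
        · intro h; exact ht1' (congrArg Subtype.val h).symm
        · intro h; exact hcon.2 (congrArg (fun v : center C => ((v : C) : G)) h)
      have h7 := Set.ncard_le_card ({1, ⟨c, h4⟩, ⟨⟨t, htC⟩, htm⟩} : Set (center C))
      omega
    omega
  obtain ⟨hqs, hqk⟩ := hq
  have hxq : orderOf (q x) = 17 := by
    refine orderOf_eq_prime (by rw [← map_pow, ← hxo, pow_orderOf_eq_one, map_one]) fun h => ?_
    rcases hqk _ h with h1 | h1
    · rw [h1, orderOf_one] at hxo
      norm_num at hxo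
    · rw [h1, ht] at hxo'
      norm_num at hxo'
  refine PairCoN.of_inv_card (r := 17) (by norm_num) (by norm_num) (s := q s) (x := q x)
    (by rw [← map_mul, hs2, map_one]) hxq (by rw [← map_mul, ← map_inv, ← map_mul, hinv, map_inv]) ?_
  intro hd
  obtain ⟨k, hk⟩ := exists_prime_orderOf_dvd_card' 17 hd
  have hko : orderOf (k : Spor.BabyMonster) = 17 := by rw [Subgroup.orderOf_coe, hk]
  have hkc : (k : Spor.BabyMonster) * q s = q s * k := mem_centralizer_singleton_iff.1 k.2
  obtain ⟨g, hg⟩ := hqs k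
  -- `g ^ 2` commutes with `s`
  have h1 : q (g * s * g⁻¹ * s⁻¹) = 1 := by
    rw [map_mul, map_mul, map_mul, map_inv, map_inv, hg, hkc]
    group
  have h2 : (g : G) * g * s = s * (g * g) := by
    rcases hqk _ h1 with h | h
    · have h3 : g * s = s * g := by
        have h4 : g * s * g⁻¹ = s := by rwa [mul_inv_eq_one] at h
        rwa [mul_inv_eq_iff_eq_mul] at h4
      have h5 : (g : G) * s = s * g := congrArg Subtype.val h3
      rw [mul_assoc, h5, ← mul_assoc, h5, mul_assoc]
    · have h3 : (g : G) * s * (g : G)⁻¹ * (s : G)⁻¹ = t := h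
      have h4 : (g : G) * s = t * s * g := by
        rw [← h3]
        group
      have h5 : (g : G) * t = t * g := mem_centralizer_singleton_iff.1 g.2
      calc (g : G) * g * s = g * (t * s * g) := by rw [mul_assoc, h4]
        _ = (g * t) * s * g := by group
        _ = t * (g * s) * g := by rw [h5]; group
        _ = (t * t) * s * g * g := by rw [h4]; group
        _ = s * (g * g) := by rw [ht2, one_mul, mul_assoc]
  -- the order of `g ^ 2` is divisible by 17
  have h6 : 17 ∣ orderOf (g * g) := by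
    have h7 : orderOf (q (g * g)) = 17 := by
      rw [map_mul, hg, ← pow_two]
      have h8 := orderOf_pow' (k : Spor.BabyMonster) (n := 2) (by norm_num)
      rw [hko] at h8
      rw [h8]
      norm_num
    rw [← h7]
    exact orderOf_map_dvd q _
  apply hnd
  have h9 : ((g * g : C) : G) ∈ centralizer ({(s : G)} : Set G) := mem_centralizer_singleton_iff.2 h2
  have h10 := Subgroup.orderOf_dvd_natCard _ h9
  rw [Subgroup.orderOf_coe] at h10
  exact h6.trans h10

section

open Cfsg.Agent.MonsterX Cfsg.Agent.MonsterX.Model Cfsg.Agent.MonsterX.MainPack Cfsg.Agent.MonsterX.MainSimple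
open Cfsg.Agent.MonsterX.MainBasic

theorem card_cent_z {W : Type} [AddCommGroup W] [Module ℚ W] {M : MData W} {K₀ : Type} [Group K₀]
    (A : MonsterU.Assembly.All M K₀) :
    Nat.card (centralizer ({zG A.hG} : Set M.G)) = 2 ^ 25 * 4157776806543360000 := by
  rw [← card_C A.hG]
  refine Nat.card_congr ⟨fun g => ⟨((g : M.G) : W ≃ₗ[ℚ] W), (mem_cent_iff A.hG A.hR A.hL A.hO A.hT g).1 g.2⟩,
    fun c => ⟨⟨(c : W ≃ₗ[ℚ] W), C_le c.2⟩, (mem_cent_iff A.hG A.hR A.hL A.hO A.hT _).2 c.2⟩, fun g => rfl,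
    fun c => rfl⟩

end

/-- **`PairN` for the Monster and the Baby Monster.** -/
theorem both : PairN Spor.Monster ∧ PairN Spor.BabyMonster := by
  obtain ⟨e⟩ := MonsterP.Equiv.equiv
  have A := MonsterU.Uncond.all
  have hfin : Finite MonsterX.InstData.M.G := MonsterX.MainBasic.G_finite A.hO
  obtain ⟨x, hx, hcov⟩ := MonsterU.Assembly.All.cover A (MonsterP.NodesGrp.prel MonsterU.NodesU.hyp)
    (MonsterP.NodesNe.ne MonsterU.NodesU.hyp) MonsterU.NodesU.conj_ten S1704.result
  have hx2 : x * x = 1 := by rw [← pow_two, ← hx, pow_orderOf_eq_one]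
  have hx1 : x ≠ 1 := by
    rintro rfl
    rw [orderOf_one] at hx
    norm_num at hx
  have hcx : Nat.card (centralizer ({x} : Set MonsterX.InstData.M.G)) = 2 * 4154781481226426191177580544000000 := by
    obtain ⟨h1, ⟨f⟩, -⟩ := hcov
    rw [Subgroup.card_eq_card_quotient_mul_card_subgroup (center _), h1, Nat.card_congr f.toEquiv, S1704.result.2,
      mul_comm]
  have hcz := card_cent_z A
  have hxt : ∃ h, h * MonsterX.MainPack.tG A.hG A.hR * h⁻¹ = x := by
    rcases A.classes x hx2 hx1 with ⟨h, hh⟩ | h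
    · exfalso
      rw [← hh, card_cent_conj, hcz] at hcx
      norm_num at hcx
    · exact h
  obtain ⟨h, hh⟩ := hxt
  have key := core (t := x) (z := MonsterX.MainSimple.zG A.hG) hx hcov ?_ ?_ ?_
  · exact ⟨PairN.congr e.symm key.1, key.2⟩
  · intro g
    have h6 := MonsterX.MainPack.six A.hG A.hR A.hL A.hO A.hT MonsterX.InstanceFinal.mExtra.order_le (h⁻¹ * g * h)
    have h7 : orderOf (x * (g * x * g⁻¹)) = orderOf (MonsterX.MainPack.tG A.hG A.hR *
        (h⁻¹ * g * h * MonsterX.MainPack.tG A.hG A.hR * (h⁻¹ * g * h)⁻¹)) := by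
      rw [← (MulAut.conj h).orderOf_eq (MonsterX.MainPack.tG A.hG A.hR *
        (h⁻¹ * g * h * MonsterX.MainPack.tG A.hG A.hR * (h⁻¹ * g * h)⁻¹)), MulAut.conj_apply, ← hh]
      congr 1
      group
    rw [h7]
    exact h6
  · rw [hcz]
    norm_num
  · intro u hu hu1
    rcases A.classes u hu hu1 with h1 | ⟨k, hk⟩
    · exact Or.inl h1
    · refine Or.inr ⟨k * h⁻¹, ?_⟩
      rw [← hk, ← hh]
      group

/-- The Monster. -/
theorem m {K : Type u} [Group K] (h : Spor.IsoM K) : PairN K := by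
  obtain ⟨e⟩ := h
  exact PairN.congr e.symm both.1

/-- The Baby Monster. -/
theorem b {K : Type u} [Group K] (h : Spor.IsoB K) : PairN K := by
  obtain ⟨e⟩ := h
  exact PairN.congr e.symm both.2

end Cfsg.Agent.H729.PairMB
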