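import Cfsg.Prelude.Def_CaseTheorems
import Cfsg.Agent.Blocks.UniqueBlock
import Cfsg.Agent.Blocks.Basic
import Cfsg.Agent.S0906
import Cfsg.Agent.S0908
import Cfsg.Agent.S0955
import Cfsg.Agent.S0973
import Cfsg.Agent.S0936

/-!
# Blocks with small centralizers of the defect group

* `eq_principal_of_centralizer`: a `p`-block with a defect group `D` such that `C_G(D)` is a `p`-group is the
  principal block.
* `card_dvd_of_defect_bot`: the members of a block with trivial defect group have degree divisible by the full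
  `p`-part of the group order.
* `sameBlock_of_charTwoType`: a group of characteristic 2 type without irreducible characters of degree divisible
  by the full 2-part of its order has a single 2-block.
-/

set_option autoImplicit false

namespace Cfsg.Agent.H729.CharTwoBlock

open Cfsg Subgroup
open Cfsg.Agent.Blocks.Basic

variable {G : Type*} [Group G]

/-- A block induced by a block of a `p`-subgroup is the principal block. -/
theorem eq_principal_of_induced [Finite G] {p : ℕ} [Fact p.Prime] {M : Ideal AlgInt} (hM : IsPModular p M)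
    {B : Set (IrrCharacter G)} (hB : IsPBlock M B) {H : Subgroup G} (hHp : IsPGroup p H)
    {b : Set (IrrCharacter H)} (hb : IsInducedBlock M H b B) : B = principalBlock M G := by
  have : M.IsPrime := hM.2.1.isPrime
  have hall : ∀ χ ψ : IrrCharacter H, SameBlock M (χ : H → ℂ) (ψ : H → ℂ) := by
    intro χ ψ
    refine Cfsg.Agent.Blocks.UniqueBlock.sameBlock_of_centralizer_le hM (⊤ : Subgroup H) ?_ le_top χ ψ
    exact hHp.to_subgroup ⊤
  have hone : IsIrrCharacter H (fun _ : H => (1 : ℂ)) := Characters.Core.isIrr_one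
  have hbp : b = principalBlock M H := by
    obtain ⟨χ, hχ⟩ := hb.1
    rw [hχ]
    exact blockOf_eq_of_sameBlock (hall χ ⟨_, hone⟩)
  have h1 := (S0936.result p M hM H b ⟨B, hb⟩).2 hbp
  have hone' : IsIrrCharacter G (fun _ : G => (1 : ℂ)) := Characters.Core.isIrr_one
  obtain ⟨χ, hχ⟩ := hB
  have hχB : χ ∈ B := by rw [hχ]; exact mem_blockOf_self χ
  have h1B : (⟨_, hone'⟩ : IrrCharacter G) ∈ principalBlock M G := mem_blockOf_self (M := M) (⟨_, hone'⟩ : IrrCharacter G)
  have h1b : (⟨_, hone⟩ : IrrCharacter H) ∈ b := by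
    rw [hbp]
    exact mem_blockOf_self (M := M) (⟨_, hone⟩ : IrrCharacter H)
  rw [hχ]
  refine blockOf_eq_of_sameBlock (ψ := fun _ : G => (1 : ℂ)) fun g => ?_
  have h2 := hb.2.2 _ h1b _ hχB g
  have h3 := h1.2.2 _ h1b _ h1B g
  exact Cfsg.Agent.Blocks.Local.memLocalIdeal_sub_trans
    (Cfsg.Agent.Blocks.Local.memLocalIdeal_sub_comm h2) h3

theorem isPGroup_of_isDefectGroup {p : ℕ} {M : Ideal AlgInt} {B : Set (IrrCharacter G)} {D : Subgroup G}
    (hD : IsDefectGroup p M B D) : IsPGroup p D := by
  obtain ⟨g, -, Q, hQ⟩ := id hD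
  rw [hQ]
  exact Q.isPGroup'.map _

/-- **A `p`-block whose defect group has a `p`-group as centralizer is the principal block.** -/
theorem eq_principal_of_centralizer [Finite G] {p : ℕ} [Fact p.Prime] {M : Ideal AlgInt} (hM : IsPModular p M)
    {B : Set (IrrCharacter G)} (hB : IsPBlock M B) {D : Subgroup G} (hD : IsDefectGroup p M B D)
    (hC : IsPGroup p (centralizer (D : Set G))) : B = principalBlock M G := by
  have hDp : IsPGroup p D := isPGroup_of_isDefectGroup hD
  obtain ⟨⟨b, -, hb⟩, -⟩ := S0973.result p M hM B hB D hD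
  refine eq_principal_of_induced hM hB ?_ hb
  exact hDp.to_sup_of_normal_left' hC (Subgroup.centralizer_le_normalizer _)

theorem exists_isDefectGroup [Finite G] {p : ℕ} [Fact p.Prime] {M : Ideal AlgInt} (hM : IsPModular p M)
    {B : Set (IrrCharacter G)} (hB : IsPBlock M B) : ∃ D : Subgroup G, IsDefectGroup p M B D := by
  obtain ⟨g, hg⟩ := S0906.result p M hM B hB
  obtain ⟨Q⟩ : Nonempty (Sylow p (centralizer ({g} : Set G))) := inferInstance
  exact ⟨_, g, hg, Q, rfl⟩

/-- The members of a block with trivial defect group have degree divisible by the full `p`-part of `|G|`. -/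
theorem card_dvd_of_defect_bot [Finite G] {p : ℕ} [Fact p.Prime] {M : Ideal AlgInt} (hM : IsPModular p M)
    {B : Set (IrrCharacter G)} (hB : IsPBlock M B) (hD : IsDefectGroup p M B ⊥) {χ : IrrCharacter G}
    (hχ : χ ∈ B) : p ^ (Nat.card G).factorization p ∣ charDegree (χ : G → ℂ) := by
  have h1 := S0908.result p M hM B hB ⊥ hD
  rw [Subgroup.card_bot] at h1
  have h2 : blockDefect p B = 0 := by
    by_contra h
    have h3 : 1 < p ^ blockDefect p B := Nat.one_lt_pow h (Fact.out : p.Prime).one_lt
    omega
  unfold blockDefect at h2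
  have h3 : sInf ((fun χ : IrrCharacter G => (charDegree (χ : G → ℂ)).factorization p) '' B) ≤
      (charDegree (χ : G → ℂ)).factorization p := Nat.sInf_le ⟨χ, hχ, rfl⟩
  exact (pow_dvd_pow p (by omega)).trans (Nat.ordProj_dvd _ _)

/-- **Single 2-block in characteristic 2 type.** -/
theorem sameBlock_of_charTwoType [Finite G] {M : Ideal AlgInt} (hM : IsPModular 2 M)
    (h : IsCharacteristicTwoType G)
    (h0 : ∀ χ : IrrCharacter G, ¬ 2 ^ (Nat.card G).factorization 2 ∣ charDegree (χ : G → ℂ))
    (χ ψ : IrrCharacter G) : SameBlock M (χ : G → ℂ) (ψ : G → ℂ) := by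
  have : M.IsPrime := hM.2.1.isPrime
  have : Fact (Nat.Prime 2) := ⟨Nat.prime_two⟩
  have key : ∀ χ : IrrCharacter G, SameBlock M (χ : G → ℂ) (fun _ : G => (1 : ℂ)) := by
    intro χ
    have hB : IsPBlock M (blockOf M (χ : G → ℂ)) := isPBlock_blockOf χ
    obtain ⟨D, hD⟩ := exists_isDefectGroup hM hB
    have hDp : IsPGroup 2 D := isPGroup_of_isDefectGroup hD
    have hD1 : D ≠ ⊥ := by
      rintro rfl
      exact h0 χ (card_dvd_of_defect_bot hM hB hD (mem_blockOf_self χ))
    have h1 := h.2 D hDp hD1
    have h2 := S0955.result 2 M hM _ hB D hD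
    have hCD : centralizer (D : Set G) ≤ D := by
      intro c hc
      have hcN : c ∈ normalizer (D : Set G) := Subgroup.centralizer_le_normalizer _ hc
      have h3 : (⟨c, hcN⟩ : normalizer (D : Set G)) ∈
          centralizer (pCore 2 (normalizer (D : Set G)) : Set (normalizer (D : Set G))) := by
        rw [mem_centralizer_iff]
        intro y hy
        apply Subtype.ext
        rw [mem_centralizer_iff] at hc
        refine hc (y : G) ?_
        have h4 : (y : G) ∈ (pCore 2 (normalizer (D : Set G))).map (normalizer (D : Set G)).subtype :=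
          ⟨y, hy, rfl⟩
        rw [h2] at h4
        exact h4
      have h5 : c ∈ (pCore 2 (normalizer (D : Set G))).map (normalizer (D : Set G)).subtype :=
        ⟨⟨c, hcN⟩, h1 h3, rfl⟩
      rwa [h2] at h5
    have h6 := eq_principal_of_centralizer hM hB hD (hDp.to_le hCD)
    have hone : IsIrrCharacter G (fun _ : G => (1 : ℂ)) := Characters.Core.isIrr_one
    have h7 : (⟨_, hone⟩ : IrrCharacter G) ∈ blockOf M (χ : G → ℂ) := by
      rw [h6]
      exact mem_blockOf_self (M := M) (⟨_, hone⟩ : IrrCharacter G)
    exact h7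
  exact sameBlock_trans (key χ) (sameBlock_symm (key ψ))

end Cfsg.Agent.H729.CharTwoBlock
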