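import Cfsg.Agent.H453.OddM.RealOrth

/-!
# TEAM ODDM (S4785): the characteristic prime is real in the orthogonal groups, `q` odd (helper729)

* `ut F t`     : the unipotent isometry `(a, b, c) ↦ (a, b + t a, c - 2 t b - t² a)` of `2 (b² + a c)`
* `rq_char`    : `RQ Q p`, dimension at least five
* `realP_char` : `RealP (POmega F Q) p`, dimension at least five
-/

set_option autoImplicit false
set_option linter.unusedSectionVars false
set_option linter.style.haveILetI false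

namespace Cfsg.Agent.H729.OdmChar

open QuadraticMap Module
open Cfsg.Agent.LieClassical.OrthCore Cfsg.Agent.LieClassical.OrthFinite Cfsg.Agent.LieClassical.OrthForms
open Cfsg.Agent.H160.QSpin Cfsg.Agent.H160.QDisc Cfsg.Agent.H160.QModel Cfsg.Agent.H160.QFinal
open Cfsg.Agent.H160.QReal Cfsg.Agent.H160.QSemi
open Cfsg.Agent.H453.OddM

section three

variable (F : Type*) [Field F]

/-- the unipotent isometries -/
def ut (t : F) : (F × F × F) ≃ₗ[F] (F × F × F) where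
  toFun x := (x.1, x.2.1 + t * x.1, x.2.2 - 2 * t * x.2.1 - t ^ 2 * x.1)
  invFun x := (x.1, x.2.1 - t * x.1, x.2.2 + 2 * t * x.2.1 - t ^ 2 * x.1)
  map_add' x y := by
    refine Prod.ext rfl (Prod.ext ?_ ?_)
    · show x.2.1 + y.2.1 + t * (x.1 + y.1) = (x.2.1 + t * x.1) + (y.2.1 + t * y.1)
      ring
    · show x.2.2 + y.2.2 - 2 * t * (x.2.1 + y.2.1) - t ^ 2 * (x.1 + y.1) =
        (x.2.2 - 2 * t * x.2.1 - t ^ 2 * x.1) + (y.2.2 - 2 * t * y.2.1 - t ^ 2 * y.1)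
      ring
  map_smul' c x := by
    refine Prod.ext rfl (Prod.ext ?_ ?_)
    · show c * x.2.1 + t * (c * x.1) = c * (x.2.1 + t * x.1)
      ring
    · show c * x.2.2 - 2 * t * (c * x.2.1) - t ^ 2 * (c * x.1) = c * (x.2.2 - 2 * t * x.2.1 - t ^ 2 * x.1)
      ring
  left_inv x := by
    refine Prod.ext rfl (Prod.ext ?_ ?_)
    · show x.2.1 + t * x.1 - t * x.1 = x.2.1
      ring
    · show (x.2.2 - 2 * t * x.2.1 - t ^ 2 * x.1) + 2 * t * (x.2.1 + t * x.1) - t ^ 2 * x.1 = x.2.2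
      ring
  right_inv x := by
    refine Prod.ext rfl (Prod.ext ?_ ?_)
    · show x.2.1 - t * x.1 + t * x.1 = x.2.1
      ring
    · show (x.2.2 + 2 * t * x.2.1 - t ^ 2 * x.1) - 2 * t * (x.2.1 - t * x.1) - t ^ 2 * x.1 = x.2.2
      ring

theorem ut_apply (t : F) (x : F × F × F) :
    ut F t x = (x.1, x.2.1 + t * x.1, x.2.2 - 2 * t * x.2.1 - t ^ 2 * x.1) := rfl

/-- the inverting reflection -/
def yt : (F × F × F) ≃ₗ[F] (F × F × F) where
  toFun x := (x.1, -x.2.1, x.2.2)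
  invFun x := (x.1, -x.2.1, x.2.2)
  map_add' x y := by
    refine Prod.ext rfl (Prod.ext ?_ rfl)
    show -(x.2.1 + y.2.1) = -x.2.1 + -y.2.1
    ring
  map_smul' c x := by
    refine Prod.ext rfl (Prod.ext ?_ rfl)
    show -(c * x.2.1) = c * -x.2.1
    ring
  left_inv x := by
    refine Prod.ext rfl (Prod.ext ?_ rfl)
    exact neg_neg _
  right_inv x := by
    refine Prod.ext rfl (Prod.ext ?_ rfl)
    exact neg_neg _

theorem yt_apply (x : F × F × F) : yt F x = (x.1, -x.2.1, x.2.2) := rfl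

theorem ut_add (s t : F) : ut F (s + t) = ut F s * ut F t := by
  apply LinearEquiv.ext
  intro x
  rw [LinearEquiv.mul_apply, ut_apply, ut_apply, ut_apply]
  refine Prod.ext rfl (Prod.ext ?_ ?_)
  · show x.2.1 + (s + t) * x.1 = (x.2.1 + t * x.1) + s * x.1
    ring
  · show x.2.2 - 2 * (s + t) * x.2.1 - (s + t) ^ 2 * x.1 =
      (x.2.2 - 2 * t * x.2.1 - t ^ 2 * x.1) - 2 * s * (x.2.1 + t * x.1) - s ^ 2 * x.1
    ring

theorem ut_zero : ut F 0 = 1 := by
  apply LinearEquiv.ext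
  intro x
  rw [ut_apply]
  refine Prod.ext rfl (Prod.ext ?_ ?_)
  · show x.2.1 + 0 * x.1 = x.2.1
    ring
  · show x.2.2 - 2 * 0 * x.2.1 - 0 ^ 2 * x.1 = x.2.2
    ring

theorem ut_pow (k : ℕ) : ut F 1 ^ k = ut F k := by
  induction k with
  | zero => rw [pow_zero, Nat.cast_zero, ut_zero]
  | succ k ih => rw [pow_succ, ih, Nat.cast_succ, ut_add]

theorem ut_eq_one {t : F} (h : ut F t = 1) : t = 0 := by
  have h1 := congrArg (fun f : (F × F × F) ≃ₗ[F] (F × F × F) => (f (1, 0, 0)).2.1) h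
  simpa [ut_apply] using h1

theorem orderOf_ut (p : ℕ) [CharP F p] : orderOf (ut F 1) = p := by
  apply Nat.dvd_antisymm
  · apply orderOf_dvd_of_pow_eq_one
    rw [ut_pow, CharP.cast_eq_zero, ut_zero]
  · have h := pow_orderOf_eq_one (ut F 1)
    rw [ut_pow] at h
    exact (CharP.cast_eq_zero_iff F p _).1 (ut_eq_one F h)

theorem yt_ut (t : F) : yt F * ut F t * (yt F)⁻¹ = (ut F t)⁻¹ := by
  have h1 : (ut F t)⁻¹ = ut F (-t) := by
    rw [inv_eq_iff_mul_eq_one, ← ut_add, add_neg_cancel, ut_zero]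
  rw [h1, mul_inv_eq_iff_eq_mul]
  apply LinearEquiv.ext
  intro x
  rw [LinearEquiv.mul_apply, LinearEquiv.mul_apply, ut_apply, ut_apply, yt_apply, yt_apply]
  refine Prod.ext rfl (Prod.ext ?_ ?_)
  · show -(x.2.1 + t * x.1) = -x.2.1 + -t * x.1
    ring
  · show x.2.2 - 2 * t * x.2.1 - t ^ 2 * x.1 = x.2.2 - 2 * (-t) * -x.2.1 - (-t) ^ 2 * x.1
    ring

/-- the bilinear form `2 b b' + a c' + c a'` -/
def B3 : LinearMap.BilinForm F (F × F × F) :=
  LinearMap.mk₂ F (fun x y => 2 * x.2.1 * y.2.1 + x.1 * y.2.2 + x.2.2 * y.1)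
    (fun x x' y => by
      show 2 * (x.2.1 + x'.2.1) * y.2.1 + (x.1 + x'.1) * y.2.2 + (x.2.2 + x'.2.2) * y.1 = _
      ring)
    (fun c x y => by
      show 2 * (c * x.2.1) * y.2.1 + (c * x.1) * y.2.2 + (c * x.2.2) * y.1 = c * _
      ring)
    (fun x y y' => by
      show 2 * x.2.1 * (y.2.1 + y'.2.1) + x.1 * (y.2.2 + y'.2.2) + x.2.2 * (y.1 + y'.1) = _
      ring)
    (fun c x y => by
      show 2 * x.2.1 * (c * y.2.1) + x.1 * (c * y.2.2) + x.2.2 * (c * y.1) = c * _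
      ring)

theorem B3_apply (x y : F × F × F) : B3 F x y = 2 * x.2.1 * y.2.1 + x.1 * y.2.2 + x.2.2 * y.1 := rfl

theorem nondeg_B3 (h2 : (2 : F) ≠ 0) : Nondeg (qf (B3 F)) := by
  refine nondeg_qf h2 (fun x y => by rw [B3_apply, B3_apply]; ring) ?_
  intro x hx
  have h1 := hx (0, 0, 1)
  have h3 := hx (0, 1, 0)
  have h4 := hx (1, 0, 0)
  rw [B3_apply] at h1 h3 h4
  simp only [mul_zero, mul_one, add_zero, zero_add, mul_eq_zero, h2, false_or] at h1 h3 h4
  exact Prod.ext h1 (Prod.ext h3 h4)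

theorem ut_mem (t : F) : ut F t ∈ O (qf (B3 F)) := by
  apply mem_O_qf
  intro x y
  rw [B3_apply, B3_apply, ut_apply, ut_apply]
  ring

theorem yt_mem : yt F ∈ O (qf (B3 F)) := by
  apply mem_O_qf
  intro x y
  rw [B3_apply, B3_apply, yt_apply, yt_apply]
  ring

end three

section main

variable {F : Type*} [Field F] [Fintype F] [DecidableEq F]

/-- **the characteristic is real**, dimension at least five -/
theorem rq_char (h2 : (2 : F) ≠ 0) {p : ℕ} [CharP F p] (hp : Odd p)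
    {V : Type*} [AddCommGroup V] [Module F V] [FiniteDimensional F V] [Finite V] {Q : QuadraticForm F V}
    (hQ : Nondeg Q) (hd : 5 ≤ finrank F V) : RQ Q p := by
  obtain ⟨m, hm⟩ : ∃ m, finrank F V = 3 + (m + 1 + 1) := ⟨finrank F V - 5, by omega⟩
  have hQ₁ := nondeg_B3 F h2
  obtain ⟨Q₀, hQ₀, hdc₀⟩ := exists_form h2 (cls_mul (dc_cases hQ) (dc_cases hQ₁)) (m + 1)
  have hnd := nondeg_prod hQ₁ hQ₀
  have hdc1 : dc (qf (B3 F)) * dc (qf (B3 F)) = 1 := by
    rcases dc_cases hQ₁ with h | h <;> rw [h] <;> norm_num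
  obtain ⟨e, he⟩ := exists_iso h2 hnd hQ (by rw [hm]; simp) (by
    rw [dc_prod, hdc₀, mul_comm (dc Q), ← mul_assoc, hdc1, one_mul])
  refine RQ.cj ?_ he
  obtain ⟨⟨w, hw⟩, w', hw', hw''⟩ := Cfsg.Agent.ClassicalGeometry.Universal.exists_isSquare_and_not h2 Q₀
    (nondeg_bilin hQ₀) (by simp)
  have hw0 : Q₀ w ≠ 0 := by rw [hw]; exact one_ne_zero
  classical
  refine rq_adjust hnd (x := pr (ut F 1) 1) (y := pr (yt F) 1) hp (pr_mem_O (ut_mem F 1) (O Q₀).one_mem)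
    (pr_mem_O (yt_mem F) (O Q₀).one_mem) (by rw [orderOf_pr, orderOf_ut F p, orderOf_one, Nat.lcm_one_right])
    ?_ (Or.inr ?_) ?_
  · have h1 := congrArg (fun t => pr t (1 : (Fin (m + 1 + 1) → F) ≃ₗ[F] (Fin (m + 1 + 1) → F))) (yt_ut F 1)
    exact h1
  · refine ⟨pr 1 (refl Q₀ w hw0), pr_mem_O (O _).one_mem (refl_mem_O hw0), ?_, ?_⟩
    · rw [det_pr, map_one, one_mul, det_refl]
    · rw [← pr_mul, ← pr_mul, one_mul, mul_one, one_mul, mul_one]
  · refine ⟨pr 1 (refl Q₀ w hw0 * refl Q₀ w' hw'), ?_, ?_⟩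
    · have h1 : El Q₀ (-1) (refl Q₀ w hw0 * refl Q₀ w' hw') := by
        refine ⟨(O Q₀).mul_mem (refl_mem_O hw0) (refl_mem_O hw'), ?_, ?_⟩
        · rw [map_mul, det_refl, det_refl, neg_mul_neg, one_mul]
        · have h3 : (⟨refl Q₀ w hw0 * refl Q₀ w' hw', (O Q₀).mul_mem (refl_mem_O hw0) (refl_mem_O hw')⟩ : O Q₀) =
              ⟨refl Q₀ w hw0, refl_mem_O hw0⟩ * ⟨refl Q₀ w' hw', refl_mem_O hw'⟩ := rfl
          rw [h3, map_mul, spin_refl h2, spin_refl h2, if_pos (by rw [hw]; exact IsSquare.one), if_neg hw'', mul_one]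
      have h3 := El.pr h2 hQ₁ hQ₀ (El.one (qf (B3 F))) h1
      rwa [one_mul] at h3
    · rw [← pr_mul, ← pr_mul, one_mul, mul_one, one_mul, mul_one]

end main

/-- **`RealP (POmega F Q) p`** in odd characteristic `p`, dimension at least five -/
theorem realP_char {ι : Type} [Fintype ι] [DecidableEq ι] {F : Type*} [Field F] [Fintype F] (h2 : (2 : F) ≠ 0)
    {p : ℕ} [CharP F p] (hp : Odd p) {Q : QuadraticForm F (ι → F)} (hQ : Nondeg Q) (h5 : 5 ≤ Fintype.card ι) :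
    RealP (Cfsg.POmega F ⇑Q) p := by
  classical
  exact realP_pomega h2 hQ h5 hp (rq_char h2 hp hQ (by rw [finrank_fintype_fun_eq_card]; omega))

end Cfsg.Agent.H729.OdmChar
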