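import Cfsg.Agent.H729.MData

/-!
# Bounds for normalizers and centralizers in groups embedded in `M24`
-/

set_option autoImplicit false

namespace Cfsg.Agent.H729.Count

open Cfsg Finset
open Cfsg.Agent.SporadicA.GolayBase Cfsg.Agent.SporadicA.GolayPerm
open Cfsg.Agent.SporadicStructure.M24El Cfsg.Agent.H729.Trans Cfsg.Agent.H729.MData

theorem ok_ppow {c : ℕ} (hc : ok c = true) (k : ℕ) : ok (ppow c k) = true := by
  induction k with
  | zero => exact ok_idP
  | succ k ih => exact ok_pcomp hc ih

theorem el_ppow {c : ℕ} (hc : ok c = true) (k : ℕ) : el (ppow c k) = el c ^ k := by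
  induction k with
  | zero => rw [pow_zero]; exact el_idP
  | succ k ih =>
    show el (pcomp c (ppow c k)) = _
    rw [el_pcomp hc (ok_ppow hc k), ih, pow_succ']

theorem ok_of_pre {p c : ℕ} {wd : List (ℕ × ℕ)} {sts : List (ℕ × List ℕ × List (List (ℕ × ℕ)))}
    (h : pre p c wd sts = true) : ok c = true := by
  unfold pre at h
  rw [Bool.and_eq_true] at h
  exact h.1

variable {G : Type*} [Group G]

/-- The number of the elements normalising `⟨x⟩`, `x` of order `p`. -/
theorem card_norm_le (φ : G →* M24) (hφ : Function.Injective φ) {x : G} {p c : ℕ}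
    {wd : List (ℕ × ℕ)} {sts : List (ℕ × List ℕ × List (List (ℕ × ℕ)))}
    (h : pre p c wd sts = true) (hx : φ x = el c) (hst : ∀ g : G, ∀ st ∈ sts, im (φ g) st.1 ∈ st.2.1) :
    Nat.card {z : G // ∃ j ∈ Ico 1 p, z * x = x ^ j * z} ≤ tot p c wd sts := by
  have hc := ok_of_pre h
  set L : List ℕ := (List.range (p - 1)).flatMap fun k => tl p c (ppow c (k + 1)) wd sts with hL
  have key : ∀ z : {z : G // ∃ j ∈ Ico 1 p, z * x = x ^ j * z},
      packOf (φ z.1 : Equiv.Perm GolayPt) ∈ L.toFinset := by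
    rintro ⟨z, j, hj, hz⟩
    rw [mem_Ico] at hj
    rw [List.mem_toFinset, hL, List.mem_flatMap]
    refine ⟨j - 1, List.mem_range.2 (by omega), ?_⟩
    rw [Nat.sub_add_cancel hj.1]
    refine packOf_mem_tl h (ok_ppow hc j) (φ z) ?_ (hst z)
    rw [el_ppow hc, ← hx, ← map_pow, ← map_mul, ← map_mul, hz]
  have h1 : Nat.card {z : G // ∃ j ∈ Ico 1 p, z * x = x ^ j * z} ≤ Nat.card L.toFinset := by
    refine Nat.card_le_card_of_injective (fun z => ⟨_, key z⟩) ?_
    intro a b hab
    have h2 := congrArg Subtype.val hab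
    exact Subtype.ext (hφ (packOf_inj h2))
  refine h1.trans ?_
  rw [Nat.card_eq_fintype_card, Fintype.card_coe]
  refine (List.toFinset_card_le L).trans ?_
  rw [hL, List.length_flatMap]
  exact le_rfl

/-- The order of the centralizer of `x`. -/
theorem card_cent_le (φ : G →* M24) (hφ : Function.Injective φ) {x : G} {p c : ℕ}
    {wd : List (ℕ × ℕ)} {sts : List (ℕ × List ℕ × List (List (ℕ × ℕ)))}
    (h : pre p c wd sts = true) (hx : φ x = el c) (hst : ∀ g : G, ∀ st ∈ sts, im (φ g) st.1 ∈ st.2.1) :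
    Nat.card (Subgroup.centralizer ({x} : Set G)) ≤ (tl p c c wd sts).length := by
  have hc := ok_of_pre h
  set L : List ℕ := tl p c c wd sts with hL
  have key : ∀ z : Subgroup.centralizer ({x} : Set G), packOf (φ z.1 : Equiv.Perm GolayPt) ∈ L.toFinset := by
    rintro ⟨z, hz⟩
    rw [List.mem_toFinset, hL]
    refine packOf_mem_tl h hc (φ z) ?_ (hst z)
    rw [← hx, ← map_mul, ← map_mul, Subgroup.mem_centralizer_singleton_iff.1 hz]
  have h1 : Nat.card (Subgroup.centralizer ({x} : Set G)) ≤ Nat.card L.toFinset := by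
    refine Nat.card_le_card_of_injective (fun z => ⟨_, key z⟩) ?_
    intro a b hab
    have h2 := congrArg Subtype.val hab
    exact Subtype.ext (hφ (packOf_inj h2))
  refine h1.trans ?_
  rw [Nat.card_eq_fintype_card, Fintype.card_coe]
  exact List.toFinset_card_le L

open Classical in
/-- The crude bound for the normaliser. -/
theorem card_norm_le_mul [Finite G] (x : G) (p : ℕ) :
    Nat.card {z : G // ∃ j ∈ Ico 1 p, z * x = x ^ j * z} ≤
      (p - 1) * Nat.card (Subgroup.centralizer ({x} : Set G)) := by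
  have : Fintype G := Fintype.ofFinite G
  have h1 : Nat.card {z : G // ∃ j ∈ Ico 1 p, z * x = x ^ j * z} =
      ((Ico 1 p).biUnion fun j => univ.filter fun z : G => z * x = x ^ j * z).card := by
    rw [Nat.card_eq_fintype_card, Fintype.card_subtype]
    congr 1
    ext z
    simp only [mem_filter, mem_univ, true_and, mem_biUnion]
  rw [h1]
  refine Finset.card_biUnion_le.trans ?_
  have h2 : ∀ j ∈ Ico 1 p, (univ.filter fun z : G => z * x = x ^ j * z).card ≤
      Nat.card (Subgroup.centralizer ({x} : Set G)) := by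
    intro j _
    rcases (univ.filter fun z : G => z * x = x ^ j * z).eq_empty_or_nonempty with h | ⟨z₀, h0⟩
    · rw [h, Finset.card_empty]
      exact Nat.zero_le _
    · have h0' : z₀ * x = x ^ j * z₀ := (mem_filter.1 h0).2
      rw [← Fintype.card_coe, ← Nat.card_eq_fintype_card]
      refine Nat.card_le_card_of_injective (fun z => ⟨z₀⁻¹ * z.1, ?_⟩) ?_
      · have hz : z.1 * x = x ^ j * z.1 := (mem_filter.1 z.2).2
        rw [Subgroup.mem_centralizer_singleton_iff]
        have h3 : z₀⁻¹ * x ^ j = x * z₀⁻¹ := by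
          have h4 : x ^ j = z₀ * x * z₀⁻¹ := by rw [h0']; group
          rw [h4]; group
        rw [mul_assoc, hz, ← mul_assoc, h3, mul_assoc]
      · intro a b hab
        exact Subtype.ext (mul_left_cancel (congrArg Subtype.val hab))
  refine (Finset.sum_le_sum h2).trans ?_
  rw [Finset.sum_const, Nat.card_Ico, smul_eq_mul]

/-! ### explicit subgroups of centralizers in `M24` -/

/-- The check for a list: a group of elements commuting with `c`. -/
def grpOk (c : ℕ) (L : List ℕ) : Bool :=
  L.all ok && ((L.any (Nat.beq idP)) && ((L.all fun a => L.all fun b => L.any (Nat.beq (pcomp a b))) &&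
    ((L.all fun a => Nat.beq (pcomp a c) (pcomp c a)) && (decide L.Nodup && L.all fun a => Nat.beq (pcomp a idP) a))))

theorem pcomp_idP_congr {P Q : ℕ} (h : ∀ i < 24, papp P i = papp Q i) : pcomp P idP = pcomp Q idP := by
  have h1 : ∀ k < 24, papp P (papp idP k) = papp Q (papp idP k) :=
    fun k hk => h _ (papp_lt (ok_iff.1 ok_idP).1 hk)
  unfold pcomp
  rw [h1 0 (by norm_num), h1 1 (by norm_num), h1 2 (by norm_num), h1 3 (by norm_num), h1 4 (by norm_num),
    h1 5 (by norm_num), h1 6 (by norm_num), h1 7 (by norm_num), h1 8 (by norm_num), h1 9 (by norm_num),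
    h1 10 (by norm_num), h1 11 (by norm_num), h1 12 (by norm_num), h1 13 (by norm_num), h1 14 (by norm_num),
    h1 15 (by norm_num), h1 16 (by norm_num), h1 17 (by norm_num), h1 18 (by norm_num), h1 19 (by norm_num),
    h1 20 (by norm_num), h1 21 (by norm_num), h1 22 (by norm_num), h1 23 (by norm_num)]

/-- The order of a group given by a list divides the order of the centralizer. -/
theorem length_dvd_card_centralizer {c : ℕ} (hc : ok c = true) {L : List ℕ} (h : grpOk c L = true) :
    L.length ∣ Nat.card (Subgroup.centralizer ({el c} : Set M24)) := by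
  unfold grpOk at h
  rw [Bool.and_eq_true, Bool.and_eq_true, Bool.and_eq_true, Bool.and_eq_true, Bool.and_eq_true] at h
  obtain ⟨h1, h2, h3, h4, h5, h7⟩ := h
  have hok : ∀ P ∈ L, ok P = true := fun P hP => List.all_eq_true.1 h1 P hP
  let S : Submonoid M24 :=
    { carrier := {g | ∃ P ∈ L, g = el P}
      one_mem' := by
        obtain ⟨P, hP, hPe⟩ := List.any_eq_true.1 h2
        rw [← Nat.eq_of_beq_eq_true hPe] at hP
        exact ⟨idP, hP, el_idP.symm⟩
      mul_mem' := by
        rintro _ _ ⟨P, hP, rfl⟩ ⟨Q, hQ, rfl⟩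
        obtain ⟨R, hR, hRe⟩ := List.any_eq_true.1 (List.all_eq_true.1 (List.all_eq_true.1 h3 P hP) Q hQ)
        rw [← Nat.eq_of_beq_eq_true hRe] at hR
        exact ⟨_, hR, (el_pcomp (hok P hP) (hok Q hQ)).symm⟩ }
  let K : Subgroup M24 :=
    { S with
      inv_mem' := by
        intro g hg
        have h6 : g⁻¹ = g ^ (orderOf g - 1) := by
          rw [inv_eq_iff_mul_eq_one, ← pow_succ', Nat.sub_add_cancel (orderOf_pos g), pow_orderOf_eq_one]
        rw [h6]
        exact S.pow_mem hg _ }
  have hK : K ≤ Subgroup.centralizer ({el c} : Set M24) := by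
    rintro g ⟨P, hP, rfl⟩
    rw [Subgroup.mem_centralizer_singleton_iff]
    have h6 := Nat.eq_of_beq_eq_true (List.all_eq_true.1 h4 P hP)
    rw [← el_pcomp (hok P hP) hc, ← el_pcomp hc (hok P hP), h6]
  have hinj : ∀ P ∈ L, ∀ Q ∈ L, el P = el Q → P = Q := by
    intro P hP Q hQ hPQ
    rw [← Nat.eq_of_beq_eq_true (List.all_eq_true.1 h7 P hP), ← Nat.eq_of_beq_eq_true (List.all_eq_true.1 h7 Q hQ)]
    refine pcomp_idP_congr fun i hi => ?_
    rw [← idx_pt hi, ← idx_el_smul (hok P hP), ← idx_el_smul (hok Q hQ), hPQ]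
  have hcard : Nat.card K = L.length := by
    have h6 : Nat.card K = Nat.card {P : ℕ // P ∈ L.toFinset} := by
      refine (Nat.card_congr (Equiv.ofBijective
        (fun P : {P : ℕ // P ∈ L.toFinset} => (⟨el P.1, P.1, List.mem_toFinset.1 P.2, rfl⟩ : K)) ⟨?_, ?_⟩)).symm
      · intro P Q hPQ
        exact Subtype.ext (hinj _ (List.mem_toFinset.1 P.2) _ (List.mem_toFinset.1 Q.2) (congrArg Subtype.val hPQ))
      · rintro ⟨g, P, hP, rfl⟩
        exact ⟨⟨P, List.mem_toFinset.2 hP⟩, rfl⟩
    rw [h6, Nat.card_eq_fintype_card, Fintype.card_coe, List.toFinset_card_of_nodup (of_decide_eq_true h5)]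
  rw [← hcard]
  exact Subgroup.card_dvd_of_le hK

end Cfsg.Agent.H729.Count
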