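import Cfsg.Agent.H729.Trans

/-!
# Elements of order 23, 11, 5, 3 of `M24` and of order 11, 7, 5 of `M22` (data)
-/

set_option autoImplicit false
set_option Elab.async false

namespace Cfsg.Agent.H729.MData

open Cfsg.Agent.H729.Trans
open Cfsg.Agent.SporadicStructure.M24El Cfsg.Agent.SporadicA.GolayPerm

/-- packed powers -/
def ppow (c : ℕ) : ℕ → ℕ
  | 0 => idP
  | k + 1 => pcomp c (ppow c k)

/-- sum of the lengths of the lists of conjugating elements -/
def tot (p c : ℕ) (wd : List (ℕ × ℕ)) (sts : List (ℕ × List ℕ × List (List (ℕ × ℕ)))) : ℕ :=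
  ((List.range (p - 1)).map fun k => (tl p c (ppow c (k + 1)) wd sts).length).sum

def c23 : ℕ := 956302485175575353788796878166559809

def wd23 : List (ℕ × ℕ) := [(1, 0), (1, 1), (1, 2), (1, 3), (1, 4), (1, 5), (1, 6), (1, 7), (1, 8), (1, 9), (1, 10), (1, 11), (1, 12), (1, 13), (1, 14), (1, 15), (1, 16), (1, 17), (1, 18), (1, 19), (1, 20), (1, 21), (1, 22), (0, 0)]

def st23 : List (ℕ × List ℕ × List (List (ℕ × ℕ))) := [(23, List.range 24, []),
  (0, List.range 24, [[(1, 10), (1, 11), (1, 12), (1, 13), (1, 14), (1, 17), (1, 20), (1, 22)]])]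

def c11 : ℕ := 983435072843990828779021698901151808

def wd11 : List (ℕ × ℕ) := [(3, 0), (0, 0), (0, 1), (0, 8), (0, 2), (1, 6), (0, 9), (1, 4), (0, 3), (0, 5), (1, 7), (1, 10), (0, 10), (0, 7), (1, 5), (1, 3), (0, 4), (1, 9), (0, 6), (1, 2), (1, 8), (1, 1), (1, 0), (2, 0)]

def st11 : List (ℕ × List ℕ × List (List (ℕ × ℕ))) := [(1, List.range 24, []),
  (22, List.range 24, [[(1, 7), (1, 10), (0, 10), (0, 7), (1, 5), (1, 9), (1, 8), (1, 0)]]),
  (23, List.range 24, [[(0, 5), (1, 10), (0, 7), (1, 5), (1, 3), (1, 2), (1, 8), (2, 0)]]),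
  (0, List.range 24, [])]

def c5 : ℕ := 974380510768821363662145534143076928

def wd5 : List (ℕ × ℕ) := [(0, 0), (4, 0), (4, 3), (1, 0), (4, 2), (5, 0), (4, 4), (5, 4), (6, 0), (6, 3), (5, 3), (7, 0), (6, 4), (6, 2), (7, 3), (2, 0), (6, 1), (7, 4), (4, 1), (7, 1), (5, 2), (5, 1), (7, 2), (3, 0)]

def st5 : List (ℕ × List ℕ × List (List (ℕ × ℕ))) := [(0, List.range 24, []),
  (3, List.range 24, []),
  (15, List.range 24, []),
  (23, List.range 24, []),
  (1, List.range 24, [[(4, 0), (4, 3), (1, 0), (4, 2), (4, 4), (2, 0), (4, 1), (3, 0)]]),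
  (5, List.range 24, [[(0, 0), (1, 0), (5, 0), (5, 4), (5, 3), (5, 2), (5, 1), (3, 0)]]),
  (8, List.range 24, [[(0, 0), (4, 0), (4, 3), (6, 3), (5, 3), (2, 0), (5, 2), (3, 0)]]),
  (11, List.range 24, [[(0, 0), (7, 0), (6, 4), (6, 2), (7, 3), (2, 0), (4, 1), (5, 1)]])]

def cM11 : ℕ := 983435072843990828779021698901151808

def wdM11 : List (ℕ × ℕ) := [(1, 0), (2, 0), (2, 1), (2, 8), (2, 2), (3, 6), (2, 9), (3, 4), (2, 3), (2, 5), (3, 7), (3, 10), (2, 10), (2, 7), (3, 5), (3, 3), (2, 4), (3, 9), (2, 6), (3, 2), (3, 8), (3, 1), (3, 0), (0, 0)]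

def stM11 : List (ℕ × List ℕ × List (List (ℕ × ℕ))) := [(23, [23], []),
  (0, [0], []),
  (1, List.range 24, [[(1, 0), (2, 0), (2, 1), (2, 8), (2, 2), (2, 9), (2, 3), (2, 5), (2, 10), (2, 7), (2, 4), (2, 6)]]),
  (22, List.range 24, [[(1, 0), (3, 7), (3, 10), (2, 7), (2, 4), (2, 6), (3, 8), (0, 0)]])]

def cM5 : ℕ := 974380510768821363662145534143076928

def wdM5 : List (ℕ × ℕ) := [(0, 0), (4, 0), (4, 3), (1, 0), (4, 2), (5, 0), (4, 4), (5, 4), (6, 0), (6, 3), (5, 3), (7, 0), (6, 4), (6, 2), (7, 3), (2, 0), (6, 1), (7, 4), (4, 1), (7, 1), (5, 2), (5, 1), (7, 2), (3, 0)]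

def stM5 : List (ℕ × List ℕ × List (List (ℕ × ℕ))) := [(0, [0], []),
  (3, List.range 24, []),
  (15, List.range 24, []),
  (23, [23], []),
  (1, List.range 24, [[(4, 0), (4, 3), (1, 0), (4, 2), (4, 4), (2, 0), (4, 1), (3, 0)]]),
  (5, List.range 24, [[(0, 0), (1, 0), (5, 0), (5, 4), (5, 3), (5, 2), (5, 1), (3, 0)]]),
  (8, List.range 24, [[(0, 0), (4, 0), (4, 3), (6, 3), (5, 3), (2, 0), (5, 2), (3, 0)]]),
  (11, List.range 24, [[(0, 0), (7, 0), (6, 4), (6, 2), (7, 3), (2, 0), (4, 1), (5, 1)]])]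

def cM7 : ℕ := 979000667864044571709392574875844096

def wdM7 : List (ℕ × ℕ) := [(0, 0), (3, 0), (4, 0), (3, 3), (3, 4), (3, 2), (3, 6), (5, 0), (4, 5), (5, 5), (5, 2), (4, 3), (4, 4), (4, 6), (5, 1), (4, 1), (3, 1), (1, 0), (5, 4), (4, 2), (5, 6), (3, 5), (5, 3), (2, 0)]

def stM7 : List (ℕ × List ℕ × List (List (ℕ × ℕ))) := [(0, [0], []),
  (17, List.range 24, []),
  (23, [23], []),
  (1, List.range 24, [[(0, 0), (3, 0), (3, 3), (3, 4), (3, 2), (3, 6), (3, 1), (3, 5)]]),
  (2, List.range 24, [[(0, 0), (3, 0), (3, 3), (4, 3), (4, 4), (4, 6), (3, 1), (1, 0)]]),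
  (7, List.range 24, [[(0, 0), (5, 2), (4, 1), (1, 0), (5, 4), (5, 6), (3, 5), (5, 3)]])]

/-- a subgroup of order 4 of the centralizer of `c5` -/
def l4 : List ℕ := [984818244535754528103549039458486304, 651245563028962197159478659450418563, 140255779635515492312832132057374383, 1795248432537898728475572672376535]

/-- elements conjugating `c5` to its powers -/
def t5 : List ℕ := [984818244535754528103549039458486304, 651249440069770165527960730430720032, 651241951111604451145371934521399328, 984799016615329826603595760505294880]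

/-- packed form of `x ↦ 1/(1-x)` -/
def c3 : ℕ := 15909574972934138282974354882288353

/-- a subgroup of order 8 of the centralizer of `c3` -/
def l8 : List ℕ := [984818244535754528103549039458486304, 513162236689625742091329313856523970, 840492131032736215164369345958983974, 688569334304326868771736179441679715, 551697393219622783281150627734296853, 795847181375985258785542135488358638, 167719735538664309520225572506108495, 716638546562224766199225499769853098]

/-- an element inverting `c3` -/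
def t3 : List ℕ := [984818244535754528103549039458486304, 57978817960277333718310054598380256]


theorem pre23 : pre 23 c23 wd23 st23 = true := by decide +kernel
theorem tot23 : tot 23 c23 wd23 st23 = 253 := by decide +kernel

theorem pre11 : pre 11 c11 wd11 st11 = true := by decide +kernel
theorem len11 : (tl 11 c11 c11 wd11 st11).length = 11 := by decide +kernel

theorem pre5 : pre 5 c5 wd5 st5 = true := by decide +kernel
theorem len5 : (tl 5 c5 c5 wd5 st5).length = 60 := by decide +kernel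

theorem preM11 : pre 11 cM11 wdM11 stM11 = true := by decide +kernel
theorem totM11 : tot 11 cM11 wdM11 stM11 = 55 := by decide +kernel

theorem preM5 : pre 5 cM5 wdM5 stM5 = true := by decide +kernel
theorem totM5 : tot 5 cM5 wdM5 stM5 = 20 := by decide +kernel

theorem preM7 : pre 7 cM7 wdM7 stM7 = true := by decide +kernel
theorem totM7 : tot 7 cM7 wdM7 stM7 = 21 := by decide +kernel

end Cfsg.Agent.H729.MData
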