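import Cfsg.Agent.H729.PairCo2
import Cfsg.Agent.H729.PairHN
import Cfsg.Agent.H729.Count
import Cfsg.Agent.H729.MData

/-!
# Elements of order 11 of the Conway groups

`x` the permutation `i ↦ 2 i`, of order 11:
* `false_of_sq_neg`: no `t` with `t ^ 2 = -1` commutes with `x`;
* `eq_one_of_fix`: no involution fixing the vector `(4, 4, 0, ..)` commutes with `x`.
Hence `Co1` (`r = 11`, `y` of class 2B) and `Co2` (`r = 11`) satisfy `PairN`.
-/

set_option autoImplicit false

namespace Cfsg.Agent.H729.PairEleven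

open Subgroup hiding mk
open Cfsg Cfsg.Agent.H729.PairBase Cfsg.Agent.H463.Pair
open Cfsg.Agent.SporadicA.GolayBase Cfsg.Agent.SporadicA.GolayPerm
open Cfsg.Agent.SporadicA.Co0Mono hiding mk
open Cfsg.Agent.SporadicA.Co1Simple Cfsg.Agent.Co2Type.Mono
open Cfsg.Agent.CoOneType.SignFacts Cfsg.Agent.SporadicStructure.M24El
open Cfsg.Agent.SporadicStructure.Co0Base (e8 e8_coe co0_dotInt)
open Cfsg.Agent.H729.MData Cfsg.Agent.H729.Count Cfsg.Agent.H729.Trans

universe u

/-! ### `M24` -/

theorem okc : ok c11 = true := ok_of_pre pre11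

/-- the permutation of order 11 -/
noncomputable def mu : M24 := el c11

theorem mu_pow : mu ^ 11 = 1 := by
  unfold mu
  rw [← el_ppow okc, Nat.eq_of_beq_eq_true (show Nat.beq (ppow c11 11) idP = true by decide +kernel), el_idP]

theorem mu_ne : mu ≠ 1 := by
  intro e
  have h1 := idx_el_smul okc (pt 1)
  rw [show el c11 = 1 from e, one_smul, idx_pt (by norm_num)] at h1
  exact absurd h1 (by decide +kernel)

theorem orderOf_mu : orderOf mu = 11 := orderOf_eq_prime (hp := ⟨by norm_num⟩) mu_pow mu_ne

/-- No involution of `M24` commutes with an element of order 11. -/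
theorem eq_one_of_comm {σ : M24} (h2 : σ * σ = 1) (hc : σ * mu = mu * σ) : σ = 1 := by
  have hfin : Finite M24 := Nat.finite_of_card_ne_zero (by rw [Cfsg.Agent.S0364.result]; norm_num)
  have h1 := card_cent_le (MonoidHom.id M24) Function.injective_id pre11 (x := el c11) rfl
    (fun g => by
      intro st hst
      have h3 : (st11.all fun st => decide (st.2.1 = List.range 24)) = true := by decide +kernel
      have h4 := of_decide_eq_true (List.all_eq_true.1 h3 st hst)
      rw [h4]
      exact List.mem_range.2 (im_lt g _))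
  rw [len11] at h1
  set C := centralizer ({el c11} : Set M24) with hC
  have hmu : mu ∈ C := mem_centralizer_singleton_iff.2 rfl
  have hσ : σ ∈ C := mem_centralizer_singleton_iff.2 hc
  have hd1 := Subgroup.orderOf_dvd_natCard C hmu
  rw [orderOf_mu] at hd1
  have h11 : Nat.card C = 11 := by
    have := Nat.le_of_dvd Nat.card_pos hd1
    omega
  have hd2 := Subgroup.orderOf_dvd_natCard C hσ
  have hd3 : orderOf σ ∣ 2 := orderOf_dvd_of_pow_eq_one (by rw [pow_two, h2])
  rw [h11] at hd2
  have hd4 := Nat.dvd_gcd hd2 hd3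
  rw [show Nat.gcd 11 2 = 1 from by norm_num] at hd4
  exact orderOf_eq_one_iff.1 (Nat.dvd_one.1 hd4)

/-! ### `Co0` -/

/-- the element of order 11 -/
noncomputable def xx : Co0 := permCo0 mu

theorem xx_pow : xx ^ 11 = 1 := by
  unfold xx
  rw [← map_pow, mu_pow, map_one]

/-- fixed vectors are constant on the cycles -/
theorem const_of_fix {v : leechLattice} (h : xx • v = v) (n : ℕ) (hn : n < 24) :
    (v : GolayPt → ℤ) (pt (papp c11 n)) = (v : GolayPt → ℤ) (pt n) := by
  have h1 : ((xx • v : leechLattice) : GolayPt → ℤ) (pt (papp c11 n)) = (v : GolayPt → ℤ) (pt n) := by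
    unfold xx
    rw [permCo0_smul, permMap_apply]
    have h2 := el_smul_pt okc (pt n)
    rw [idx_pt hn] at h2
    have h3 : (mu : Equiv.Perm GolayPt).symm (pt (papp c11 n)) = pt n := by
      rw [Equiv.symm_apply_eq]
      exact h2.symm
    rw [h3]
  rw [h] at h1
  exact h1

theorem vals {A : Type*} {f : GolayPt → A} (h : ∀ n < 24, f (pt (papp c11 n)) = f (pt n)) :
    (∀ n ∈ [1, 2, 3, 4, 6, 8, 9, 12, 13, 16, 18], f (pt n) = f (pt 1)) ∧
    (∀ n ∈ [5, 7, 10, 11, 14, 15, 17, 19, 20, 21, 22], f (pt n) = f (pt 5)) := by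
  have hp : ∀ a b : ℕ, a < 24 → papp c11 a = b → f (pt b) = f (pt a) := by
    intro a b ha hb
    rw [← hb]
    exact h a ha
  have h2 := hp 1 2 (by norm_num) (by decide +kernel)
  have h4 := hp 2 4 (by norm_num) (by decide +kernel)
  have h8 := hp 4 8 (by norm_num) (by decide +kernel)
  have h16 := hp 8 16 (by norm_num) (by decide +kernel)
  have h9 := hp 16 9 (by norm_num) (by decide +kernel)
  have h18 := hp 9 18 (by norm_num) (by decide +kernel)
  have h13 := hp 18 13 (by norm_num) (by decide +kernel)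
  have h3 := hp 13 3 (by norm_num) (by decide +kernel)
  have h6 := hp 3 6 (by norm_num) (by decide +kernel)
  have h12 := hp 6 12 (by norm_num) (by decide +kernel)
  have k10 := hp 5 10 (by norm_num) (by decide +kernel)
  have k20 := hp 10 20 (by norm_num) (by decide +kernel)
  have k17 := hp 20 17 (by norm_num) (by decide +kernel)
  have k11 := hp 17 11 (by norm_num) (by decide +kernel)
  have k22 := hp 11 22 (by norm_num) (by decide +kernel)
  have k21 := hp 22 21 (by norm_num) (by decide +kernel)
  have k19 := hp 21 19 (by norm_num) (by decide +kernel)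
  have k15 := hp 19 15 (by norm_num) (by decide +kernel)
  have k7 := hp 15 7 (by norm_num) (by decide +kernel)
  have k14 := hp 7 14 (by norm_num) (by decide +kernel)
  constructor
  · intro n hn
    simp only [List.mem_cons, List.not_mem_nil, or_false] at hn
    rcases hn with rfl | rfl | rfl | rfl | rfl | rfl | rfl | rfl | rfl | rfl | rfl <;>
      simp only [h2, h4, h8, h16, h9, h18, h13, h3, h6, h12]
  · intro n hn
    simp only [List.mem_cons, List.not_mem_nil, or_false] at hn
    rcases hn with rfl | rfl | rfl | rfl | rfl | rfl | rfl | rfl | rfl | rfl | rfl <;>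
      simp only [k10, k20, k17, k11, k22, k21, k19, k15, k7, k14]

theorem U_pt (n : ℕ) (hn : n < 24) : ((Spor.leechU : leechLattice) : GolayPt → ℤ) (pt n) = if n = 0 ∨ n = 23 then 4 else 0 := by
  rw [leechU_apply, idx_pt hn]

theorem U'_pt : ∀ n < 24, ((Spor.leechU' : leechLattice) : GolayPt → ℤ) (pt n) =
    if n = 0 then -4 else if n = 23 then 4 else 0 := by
  show ∀ n < 24, Spor.vecU' (pt n) = _
  decide

/-- The fixed vectors of norm 32 orthogonal to `leechU`. -/
theorem eq_U' {v : leechLattice} (h : xx • v = v) (hn : sqNorm (v : GolayPt → ℤ) = 32)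
    (hd : dotInt (v : GolayPt → ℤ) (Spor.leechU : leechLattice) = 0) : v = Spor.leechU' ∨ v = -Spor.leechU' := by
  obtain ⟨h1, h2⟩ := vals (const_of_fix h)
  set a : ℕ → ℤ := fun n => (v : GolayPt → ℤ) (pt n) with ha
  have hsum : sqNorm (v : GolayPt → ℤ) = a 0 ^ 2 + a 23 ^ 2 + 11 * (a 1) ^ 2 + 11 * (a 5) ^ 2 := by
    unfold sqNorm
    rw [sum_pt]
    simp only [Finset.sum_range_succ, Finset.sum_range_zero]
    have e1 := h1
    have e2 := h2
    simp only [List.mem_cons, List.not_mem_nil, or_false, forall_eq_or_imp, forall_eq] at e1 e2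
    obtain ⟨-, e2', e3, e4, e6, e8', e9, e12, e13, e16, e18⟩ := e1
    obtain ⟨-, f7, f10, f11, f14, f15, f17, f19, f20, f21, f22⟩ := e2
    rw [e2', e3, e4, e6, e8', e9, e12, e13, e16, e18, f7, f10, f11, f14, f15, f17, f19, f20, f21, f22]
    ring
  have hdot : dotInt (v : GolayPt → ℤ) (Spor.leechU : leechLattice) = 4 * (a 0 + a 23) := by
    unfold dotInt
    rw [sum_pt]
    have : ∀ i ∈ Finset.range 24, (v : GolayPt → ℤ) (pt i) * ((Spor.leechU : leechLattice) : GolayPt → ℤ) (pt i) =
        a i * (if i = 0 ∨ i = 23 then 4 else 0) := by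
      intro i hi
      rw [U_pt i (Finset.mem_range.1 hi)]
    rw [Finset.sum_congr rfl this]
    simp only [Finset.sum_range_succ, Finset.sum_range_zero]
    norm_num
    ring
  rw [hsum] at hn
  rw [hdot] at hd
  have h23 : a 23 = -a 0 := by linarith
  rw [h23] at hn
  -- the values on the cycles vanish
  have hc : a 1 = 0 ∧ a 5 = 0 ∧ (a 0 = 4 ∨ a 0 = -4) := by
    have hn' : 2 * a 0 ^ 2 + 11 * a 1 ^ 2 + 11 * a 5 ^ 2 = 32 := by nlinarith
    have b0 : a 0 ≤ 4 ∧ -4 ≤ a 0 := ⟨by nlinarith [sq_nonneg (a 1), sq_nonneg (a 5)],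
      by nlinarith [sq_nonneg (a 1), sq_nonneg (a 5)]⟩
    have b1 : a 1 ≤ 1 ∧ -1 ≤ a 1 := ⟨by nlinarith [sq_nonneg (a 0), sq_nonneg (a 5)],
      by nlinarith [sq_nonneg (a 0), sq_nonneg (a 5)]⟩
    have b5 : a 5 ≤ 1 ∧ -1 ≤ a 5 := ⟨by nlinarith [sq_nonneg (a 0), sq_nonneg (a 1)],
      by nlinarith [sq_nonneg (a 0), sq_nonneg (a 1)]⟩
    obtain ⟨b01, b02⟩ := b0
    obtain ⟨b11, b12⟩ := b1
    obtain ⟨b51, b52⟩ := b5
    generalize a 0 = p at *
    generalize a 1 = q at *
    generalize a 5 = r at *
    interval_cases p <;> interval_cases q <;> interval_cases r <;> first | (exfalso; omega) | simp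
  obtain ⟨c1, c5, c0⟩ := hc
  have hall : ∀ n < 24, a n = if n = 0 then a 0 else if n = 23 then -a 0 else 0 := by
    intro n hn
    have e1 := h1
    have e2 := h2
    simp only [List.mem_cons, List.not_mem_nil, or_false, forall_eq_or_imp, forall_eq] at e1 e2
    obtain ⟨-, e2', e3, e4, e6, e8', e9, e12, e13, e16, e18⟩ := e1
    obtain ⟨-, f7, f10, f11, f14, f15, f17, f19, f20, f21, f22⟩ := e2
    have hb : ∀ m, (v : GolayPt → ℤ) (pt m) = a m := fun m => rfl
    simp only [hb] at *
    interval_cases n <;> simp <;> linarith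
  rcases c0 with c0 | c0
  · right
    apply Subtype.ext
    funext p
    have hp := hall (idx p) (idx_lt p)
    have hq := U'_pt (idx p) (idx_lt p)
    rw [pt_idx] at hq
    have hv : a (idx p) = (v : GolayPt → ℤ) p := by
      show (v : GolayPt → ℤ) (pt (idx p)) = _
      rw [pt_idx]
    rw [hv] at hp
    show (v : GolayPt → ℤ) p = -((Spor.leechU' : leechLattice) : GolayPt → ℤ) p
    rw [hp, hq, c0]
    split_ifs <;> norm_num
  · left
    apply Subtype.ext
    funext p
    have hp := hall (idx p) (idx_lt p)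
    have hq := U'_pt (idx p) (idx_lt p)
    rw [pt_idx] at hq
    have hv : a (idx p) = (v : GolayPt → ℤ) p := by
      show (v : GolayPt → ℤ) (pt (idx p)) = _
      rw [pt_idx]
    rw [hv] at hp
    rw [hp, hq, c0]
    split_ifs <;> norm_num

theorem U_add : Spor.leechU + Spor.leechU' = e8 none := by
  apply Subtype.ext
  show Spor.vecU + Spor.vecU' = ((e8 none : leechLattice) : GolayPt → ℤ)
  rw [e8_coe]
  funext p
  revert p
  decide

theorem U_sub : Spor.leechU - Spor.leechU' = e8 (some 0) := by
  apply Subtype.ext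
  show Spor.vecU - Spor.vecU' = ((e8 (some 0) : leechLattice) : GolayPt → ℤ)
  rw [e8_coe]
  funext p
  revert p
  decide

theorem norm_U : sqNorm ((Spor.leechU : leechLattice) : GolayPt → ℤ) = 32 := by
  show sqNorm Spor.vecU = 32
  decide

theorem norm_U' : sqNorm ((Spor.leechU' : leechLattice) : GolayPt → ℤ) = 32 := by
  show sqNorm Spor.vecU' = 32
  decide

theorem dot_U : dotInt ((Spor.leechU' : leechLattice) : GolayPt → ℤ) (Spor.leechU : leechLattice) = 0 := by
  show dotInt Spor.vecU' Spor.vecU = 0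
  decide

/-- a vector with the right coordinates is fixed -/
theorem fix_of {v : leechLattice} (h : ∀ n < 24, (v : GolayPt → ℤ) (pt (papp c11 n)) = (v : GolayPt → ℤ) (pt n)) :
    xx • v = v := by
  apply Subtype.ext
  funext p
  unfold xx
  rw [permCo0_smul, permMap_apply]
  obtain ⟨q, rfl⟩ := (mu : Equiv.Perm GolayPt).surjective p
  rw [Equiv.symm_apply_apply]
  have h2 := el_smul_pt okc q
  have h3 : (mu : Equiv.Perm GolayPt) q = pt (papp c11 (idx q)) := h2
  rw [h3, h _ (idx_lt q), pt_idx]

theorem fix_U : xx • Spor.leechU = Spor.leechU := by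
  apply fix_of
  show ∀ n < 24, Spor.vecU (pt (papp c11 n)) = Spor.vecU (pt n)
  decide +kernel

theorem fix_U' : xx • Spor.leechU' = Spor.leechU' := by
  apply fix_of
  show ∀ n < 24, Spor.vecU' (pt (papp c11 n)) = Spor.vecU' (pt n)
  decide +kernel

/-- An element mapping one frame vector to a frame vector is monomial. -/
theorem mem_N_of_one {t : Co0} {i j : GolayPt} (h : t • e8 i = e8 j ∨ t • e8 i = -e8 j) : t ∈ N := by
  apply mem_N_of_e8
  intro k
  obtain ⟨u, hu⟩ := e8_sub k i
  have hn : sqNorm ((t • e8 k : leechLattice) : GolayPt → ℤ) = 64 := by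
    rw [sqNorm_smul, sqNorm_e8]
  rcases h with h | h
  · refine mem_crossSet_of_congr (t • e8 k) (t • u) j hn ?_
    rw [hu, smul_add, h, smul_nsmul]
  · refine mem_crossSet_of_congr (t • e8 k) (t • u - e8 j) j hn ?_
    rw [hu, smul_add, h, smul_nsmul]
    rw [two_nsmul, two_nsmul]
    abel

theorem sign_of_mem {t : Co0} (hN : t ∈ N) (hc : t * xx = xx * t)
    (h2 : t * t = 1 ∨ t * t = signCo0 allOne) : ∃ c, t = signCo0 c := by
  obtain ⟨c, σ, rfl⟩ := exists_sign_perm hN
  obtain ⟨d, hd⟩ := sign_perm_pow c σ 2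
  rw [pow_two] at hd
  have hσ2 : σ ^ 2 = 1 := by
    rcases h2 with h | h
    · rw [hd] at h
      exact perm_eq_one h
    · rw [hd] at h
      refine perm_eq_one (d := allOne + d) ?_
      rw [signCo0_add, mul_assoc, h, signCo0_mul_self]
  have hcomm : σ * mu = mu * σ := by
    unfold xx at hc
    have e1 : permCo0 mu * (signCo0 c * permCo0 σ) = signCo0 (wordPerm mu c) * permCo0 (mu * σ) := by
      rw [← mul_assoc, perm_mul_sign, mul_assoc, map_mul]
    have e2 : signCo0 c * permCo0 σ * permCo0 mu = signCo0 c * permCo0 (σ * mu) := by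
      rw [mul_assoc, map_mul]
    rw [e1, e2] at hc
    have e3 : signCo0 (wordPerm mu c + c) * permCo0 (σ * mu * (mu * σ)⁻¹) = 1 := by
      rw [signCo0_add, mul_assoc, map_mul permCo0 (σ * mu), ← mul_assoc (signCo0 c), hc, map_inv]
      calc signCo0 (wordPerm mu c) * (signCo0 (wordPerm mu c) * permCo0 (mu * σ) * (permCo0 (mu * σ))⁻¹)
          = signCo0 (wordPerm mu c) * signCo0 (wordPerm mu c) := by group
        _ = 1 := signCo0_mul_self _
    exact mul_inv_eq_one.1 (perm_eq_one e3)
  have h1 := eq_one_of_comm (by rw [← pow_two, hσ2]) hcomm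
  exact ⟨c, by rw [h1, map_one, mul_one]⟩

/-- No element with square `-1` commutes with `xx`. -/
theorem false_of_sq_neg {t : Co0} (hc : t * xx = xx * t) (h2 : t * t = signCo0 allOne) : False := by
  set v : leechLattice := Spor.leechU with hv
  set w : leechLattice := Spor.leechU' with hw
  have htt : ∀ u : leechLattice, t • (t • u) = -u := fun u => by
    rw [← mul_smul, h2, allOne_smul]
  have hfix : xx • (t • v) = t • v := by
    rw [← mul_smul, ← hc, mul_smul, fix_U]
  have hn : sqNorm ((t • v : leechLattice) : GolayPt → ℤ) = 32 := by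
    rw [sqNorm_smul]
    exact norm_U
  have hd : dotInt ((t • v : leechLattice) : GolayPt → ℤ) (v : leechLattice) = 0 := by
    have h3 := co0_dotInt t (t • v) v
    rw [htt] at h3
    have h4 : dotInt ((-v : leechLattice) : GolayPt → ℤ) ((t • v : leechLattice) : GolayPt → ℤ) =
        - dotInt ((t • v : leechLattice) : GolayPt → ℤ) (v : leechLattice) := by
      unfold dotInt
      rw [← Finset.sum_neg_distrib]
      refine Finset.sum_congr rfl fun i _ => ?_
      show -((v : leechLattice) : GolayPt → ℤ) i * _ = _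
      ring
    rw [h4] at h3
    linarith
  have hkey : t • e8 none = e8 (some 0) ∨ t • e8 none = -e8 (some 0) := by
    rw [← U_add, ← U_sub, smul_add]
    rcases eq_U' hfix hn hd with h | h
    · right
      have h5 : t • w = -v := by rw [hw, ← h, htt]
      rw [h, h5]
      abel
    · left
      have h5 : t • w = v := by
        have h6 : w = -(t • v) := by rw [h, neg_neg]
        rw [h6, smul_neg, htt, neg_neg]
      rw [h, h5]
      abel
  obtain ⟨c, rfl⟩ := sign_of_mem (mem_N_of_one hkey) hc (Or.inr h2)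
  rw [signCo0_mul_self] at h2
  exact Cfsg.Agent.CoOneType.CoOneE.allOne_ne h2.symm

/-- No involution fixing `leechU` commutes with `xx`. -/
theorem eq_one_of_fix {t : Co0} (hc : t * xx = xx * t) (h2 : t * t = 1) (hfx : t • Spor.leechU = Spor.leechU) :
    t = 1 := by
  set v : leechLattice := Spor.leechU with hv
  set w : leechLattice := Spor.leechU' with hw
  have hfix : xx • (t • w) = t • w := by
    rw [← mul_smul, ← hc, mul_smul, fix_U']
  have hn : sqNorm ((t • w : leechLattice) : GolayPt → ℤ) = 32 := by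
    rw [sqNorm_smul]
    exact norm_U'
  have hd : dotInt ((t • w : leechLattice) : GolayPt → ℤ) (v : leechLattice) = 0 := by
    have h3 := co0_dotInt t w v
    rw [hfx] at h3
    rw [h3]
    exact dot_U
  have hkey : t • e8 none = e8 none ∨ t • e8 none = e8 (some 0) := by
    rw [← U_add, ← U_sub, smul_add]
    rcases eq_U' hfix hn hd with h | h
    · left
      rw [h, hfx]
    · right
      rw [h, hfx]
      abel
  have hN : t ∈ N := by
    rcases hkey with h | h
    · exact mem_N_of_one (Or.inl h)
    · exact mem_N_of_one (Or.inl h)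
  obtain ⟨c, rfl⟩ := sign_of_mem hN hc (Or.inl h2)
  -- the word is zero on the two fixed points
  have hval : ∀ p, sgn ((c : GolayPt → ZMod 2) p) * Spor.vecU p = Spor.vecU p := by
    intro p
    have h4 := congrArg (fun z : leechLattice => (z : GolayPt → ℤ) p) hfx
    simp only [signCo0_smul, signMap_apply] at h4
    exact h4
  have h0 : (c : GolayPt → ZMod 2) (pt 0) = 0 := by
    rcases Cfsg.Agent.SporadicStructure.LeechBase.zmod2_cases ((c : GolayPt → ZMod 2) (pt 0)) with h | h
    · exact h
    · exfalso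
      have h5 := hval (pt 0)
      rw [h, sgn_one] at h5
      have h6 : Spor.vecU (pt 0) = 4 := by decide
      rw [h6] at h5
      norm_num at h5
  have h23 : (c : GolayPt → ZMod 2) (pt 23) = 0 := by
    rcases Cfsg.Agent.SporadicStructure.LeechBase.zmod2_cases ((c : GolayPt → ZMod 2) (pt 23)) with h | h
    · exact h
    · exfalso
      have h5 := hval (pt 23)
      rw [h, sgn_one] at h5
      have h6 : Spor.vecU (pt 23) = 4 := by decide
      rw [h6] at h5
      norm_num at h5
  have hinv : wordPerm mu c = c := by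
    unfold xx at hc
    rw [perm_mul_sign] at hc
    have h5 := mul_right_cancel hc
    rcases (Cfsg.Agent.CoOneType.CoOneE.pr_sign_eq_iff c (wordPerm mu c)).1 (by rw [h5]) with h | h
    · exact h
    · exfalso
      rw [h, signCo0_add] at h5
      have h6 : signCo0 allOne = 1 := by
        have := congrArg (fun z => signCo0 c * z) h5
        simp only [← mul_assoc, signCo0_mul_self, one_mul] at this
        exact this.symm
      exact Cfsg.Agent.CoOneType.CoOneE.allOne_ne h6
  have hconst : ∀ n < 24, (c : GolayPt → ZMod 2) (pt (papp c11 n)) = (c : GolayPt → ZMod 2) (pt n) := by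
    intro n hn
    have h5 : ((wordPerm mu c : golayCode) : GolayPt → ZMod 2) (pt (papp c11 n)) = (c : GolayPt → ZMod 2) (pt n) := by
      rw [wordPerm_apply]
      have h2 := el_smul_pt okc (pt n)
      rw [idx_pt hn] at h2
      have h3 : (mu : Equiv.Perm GolayPt).symm (pt (papp c11 n)) = pt n := by
        rw [Equiv.symm_apply_eq]
        exact h2.symm
      rw [h3]
    rw [hinv] at h5
    exact h5
  obtain ⟨e1, e2⟩ := vals hconst
  have hwt : wt c = 11 * (if (c : GolayPt → ZMod 2) (pt 1) = 1 then 1 else 0) +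
      11 * (if (c : GolayPt → ZMod 2) (pt 5) = 1 then 1 else 0) := by
    have h5 : wt c = ∑ p : GolayPt, if (c : GolayPt → ZMod 2) p = 1 then 1 else 0 := by
      have h6 : sup c = Finset.univ.filter fun p => (c : GolayPt → ZMod 2) p = 1 := by
        ext p
        rw [mem_sup, Finset.mem_filter]
        exact ⟨fun h => ⟨Finset.mem_univ _, h⟩, fun h => h.2⟩
      show (sup c).card = _
      rw [h6, Finset.card_filter]
    rw [h5, sum_pt]
    simp only [Finset.sum_range_succ, Finset.sum_range_zero]
    simp only [List.mem_cons, List.not_mem_nil, or_false, forall_eq_or_imp, forall_eq] at e1 e2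
    obtain ⟨-, e2', e3, e4, e6, e8', e9, e12, e13, e16, e18⟩ := e1
    obtain ⟨-, f7, f10, f11, f14, f15, f17, f19, f20, f21, f22⟩ := e2
    rw [e2', e3, e4, e6, e8', e9, e12, e13, e16, e18, f7, f10, f11, f14, f15, f17, f19, f20, f21, f22, h0, h23]
    rw [if_neg (by decide : ¬ (0 : ZMod 2) = 1)]
    ring
  have hwt0 : wt c = 0 := by
    rcases wt_cases c with h | h | h | h | h
    · exact h
    all_goals
      exfalso
      rw [h] at hwt
      split_ifs at hwt <;> omega
  rw [Cfsg.Agent.CoOneType.ClosingFacts.eq_zero_of_wt hwt0, signCo0_zero]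

end Cfsg.Agent.H729.PairEleven
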