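import Cfsg.Agent.H729.PairBase
import Cfsg.Agent.OddHalf.Table.OutJ2
import Cfsg.Agent.OddHalf.Table.OutRu
import Cfsg.Agent.OddHalf.Table.OutSuz

/-! # The coprime pairs in `J2`, `Ru`, `Suz` -/

set_option autoImplicit false

namespace Cfsg.Agent.H729.PairTable

open Cfsg PairBase Subgroup

variable {K : Type*} [Group K]

theorem j2_hundred : PairN Cfsg.Agent.SporadicA.J2Hundred.G :=
  PairN.of_gen (r := 7) (k := 3) (m := 3) (by norm_num) (by norm_num)
    (x := ⟨OddHalf.Table.OutJ2.x, OddHalf.Table.OutJ2.x_mem⟩)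
    (f := ⟨OddHalf.Table.OutJ2.f, OddHalf.Table.OutJ2.f_mem⟩)
    (by rw [Subgroup.orderOf_mk]; exact OddHalf.Table.OutJ2.order_x)
    (Subtype.ext OddHalf.Table.OutJ2.f6) (fun h => OddHalf.Table.OutJ2.f3_ne (congrArg Subtype.val h))
    (Subtype.ext OddHalf.Table.OutJ2.fx)
    (by
      rintro ⟨c, hc⟩ h
      obtain ⟨i, hi⟩ := OddHalf.Table.OutJ2.cent_x hc (congrArg Subtype.val h)
      exact ⟨i, Subtype.ext hi⟩)

theorem j2 (h : Spor.IsoJ2 K) : PairN K := by
  obtain ⟨e⟩ := h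
  obtain ⟨f⟩ := Cfsg.Agent.J2.HundredGens.J2_iso Cfsg.Agent.S1619.result.2.2.2
  exact j2_hundred.congr (e.trans f).symm

open OddHalf.Table.OutRu in
theorem ru_model : PairN Cfsg.Agent.SporadicB.RuOrder.H :=
  PairN.of_gen (r := 29) (k := 4) (m := 7) (by norm_num) (by norm_num) orderOf_x f_pow f_pow7 conj_fx cent_x'

theorem ru (h : Spor.IsoRu K) : PairN K := by
  obtain ⟨e⟩ := h
  exact ru_model.congr (e.trans RuLat.Main.equiv).symm

open OddHalf.Table.OutSuz OddHalf.Table.SuzRep in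
theorem suz_model : PairN Spor.Suz :=
  PairN.of_gen (r := 11) (k := 2) (m := 5) (by norm_num) (by norm_num) order_x f10 f5_ne fx cent_x

theorem suz (h : Spor.IsoSuz K) : PairN K := by
  obtain ⟨e⟩ := h
  exact suz_model.congr e.symm

end Cfsg.Agent.H729.PairTable
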