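import Cfsg.Agent.H176.NFBase
import Cfsg.Agent.H728.DghpArith
import Cfsg.Agent.H149.Sp.Base
import Cfsg.Agent.H14.KnownSimple

/-!
# Tools for S5773 (rows SPOR1, SPOR2; helper729)

* `sep` : two primes which are not adjacent in the prime graph, with a numerical condition, are separated (no solvable
  subgroup of order divisible by both);
* `nf3` : three such primes in a sporadic group;
* `bd_of_sep` : `p`-parts of solvable subgroups.
-/

set_option autoImplicit false

namespace Cfsg.Agent.H729.NFTool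

open Cfsg Cfsg.Agent.H518.Dghp Cfsg.Agent.H176.NF Cfsg.Agent.H728.DghpLem Cfsg.Agent.H728.DghpMat
open Cfsg.Agent.H728.DghpArith Cfsg.Agent.H163.PG Cfsg.Agent.H149.Sp

universe u

section

variable {G : Type u} [Group G]

theorem nonAdj_of_not_adj [Finite G] {r s : ℕ} (hr : r.Prime) (hs : s.Prime) (hrs : r ≠ s) (h : ¬ Adj G r s) :
    NonAdj G r s := by
  intro x y hx hy hxy
  apply h
  refine ⟨x * y, ?_⟩
  rw [(show Commute x y from hxy).orderOf_mul_eq_mul_orderOf_of_coprime (by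
    rw [hx, hy]; exact (Nat.coprime_primes hr hs).2 hrs), hx, hy]

/-- **Separation** of two primes which are not adjacent. -/
theorem sep_of_nonAdj [Finite G] {r s : ℕ} (hr : r.Prime) (hs : s.Prime) (hna : NonAdj G r s)
    (h1 : ∀ k, 0 < k → s ^ k ∣ Nat.card G → ¬ r ∣ s ^ k - 1)
    (h2 : ∀ k, 0 < k → r ^ k ∣ Nat.card G → ¬ s ∣ r ^ k - 1) : Sep G r s := by
  refine Sep.of_hall hr hs fun K hK hrs hrK hsK => ?_
  have : Fact r.Prime := ⟨hr⟩
  have : Fact s.Prime := ⟨hs⟩
  obtain ⟨x, hx⟩ := exists_prime_orderOf_dvd_card' r hrK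
  obtain ⟨y, hy⟩ := exists_prime_orderOf_dvd_card' s hsK
  have hx' : orderOf (x : G) = r := by rw [Subgroup.orderOf_coe, hx]
  have hy' : orderOf (y : G) = s := by rw [Subgroup.orderOf_coe, hy]
  have hK1 : K ≠ ⊥ := by
    rintro rfl
    rw [Subgroup.card_bot] at hrK
    exact hr.one_lt.ne' (Nat.dvd_one.1 hrK)
  obtain ⟨P, hP | hP, hKP⟩ := exists_elem_of_solvable hr hs hK hK1 hrs
  · exact no_elem_one hs hr (fun a b ha hb hab => hna b a hb ha hab.symm) P hP
      (fun k hk hc => h2 k hk (hc ▸ Subgroup.card_subgroup_dvd_card P)) y hy' (hKP y.2)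
  · exact no_elem_one hr hs hna P hP
      (fun k hk hc => h1 k hk (hc ▸ Subgroup.card_subgroup_dvd_card P)) x hx' (hKP x.2)

theorem Sep.symm {r s : ℕ} (h : Sep G r s) : Sep G s r := fun K hK h1 h2 => h K hK h2 h1

end

/-- The numerical condition. -/
def okSep (N r s a b : ℕ) : Bool :=
  (N % r ^ (a + 1) != 0) && (N % s ^ (b + 1) != 0) && ((List.range a).all fun i => (r ^ (i + 1) - 1) % s != 0) &&
    ((List.range b).all fun i => (s ^ (i + 1) - 1) % r != 0)

theorem of_okSep_aux {N r s a : ℕ} (h1 : (N % r ^ (a + 1) != 0) = true)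
    (h2 : ((List.range a).all fun i => (r ^ (i + 1) - 1) % s != 0) = true) :
    ∀ k, 0 < k → r ^ k ∣ N → ¬ s ∣ r ^ k - 1 := by
  intro k hk hd hs
  simp only [bne_iff_ne, ne_eq] at h1
  have hka : k ≤ a := by
    by_contra h
    push Not at h
    exact h1 (Nat.mod_eq_zero_of_dvd ((pow_dvd_pow r h).trans hd))
  rw [List.all_eq_true] at h2
  have h3 := h2 (k - 1) (List.mem_range.2 (by omega))
  rw [show k - 1 + 1 = k by omega, Nat.mod_eq_zero_of_dvd hs] at h3
  simp at h3

section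

variable {G : Type u} [Group G] [Finite G]

theorem sep {N r s : ℕ} (a b : ℕ) (hN : Nat.card G = N) (hr : r.Prime) (hs : s.Prime) (hok : okSep N r s a b = true)
    (hna : NonAdj G r s) : Sep G r s := by
  simp only [okSep, Bool.and_eq_true] at hok
  obtain ⟨⟨⟨h1, h2⟩, h3⟩, h4⟩ := hok
  exact sep_of_nonAdj hr hs hna (hN ▸ of_okSep_aux h2 h4) (hN ▸ of_okSep_aux h1 h3)

theorem sep' {N r s : ℕ} (a b : ℕ) (hN : Nat.card G = N) (hr : r.Prime) (hs : s.Prime) (hrs : r ≠ s)
    (hok : okSep N r s a b = true) (hna : ¬ Adj G r s) : Sep G r s :=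
  sep a b hN hr hs hok (nonAdj_of_not_adj hr hs hrs hna)

theorem outN_dvd_two (h : IsSporadicGroup G) : outN G ∣ 2 := card_out_dvd_two h

theorem not_dvd_outN (h : IsSporadicGroup G) {r : ℕ} (hr : 2 < r) : ¬ r ∣ outN G := fun hd =>
  absurd (Nat.le_of_dvd (by norm_num) (hd.trans (outN_dvd_two h))) (by omega)

theorem conj_inj (hS : IsSimpleGroup G) {r s : ℕ} (h : Sep G r s) (hr : r ∣ Nat.card G) (hs : s ∣ Nat.card G) :
    Function.Injective (MulAut.conj : G →* MulAut G) := by
  rw [← MonoidHom.ker_eq_bot_iff]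
  refine (hS.eq_bot_or_eq_top_of_normal (MulAut.conj : G →* MulAut G).ker inferInstance).resolve_right fun h2 => ?_
  refine h ⊤ ?_ (by rwa [Subgroup.card_top]) (by rwa [Subgroup.card_top])
  have hc : ∀ a b : G, a * b = b * a := by
    intro a b
    have h3 : a ∈ (MulAut.conj : G →* MulAut G).ker := by rw [h2]; exact Subgroup.mem_top a
    have h4 := DFunLike.congr_fun (MonoidHom.mem_ker.1 h3) b
    rw [MulAut.conj_apply, MulAut.one_apply] at h4
    rw [← mul_inv_eq_iff_eq_mul.1 h4]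
  have : Group.IsSolvable G := Group.isSolvable_of_comm hc
  infer_instance

/-- **Three separated odd primes.** -/
theorem nf3 (hS : IsSimpleGroup G) (ho : outN G ∣ 2) {r s t : ℕ} (hr : r.Prime) (hs : s.Prime) (ht : t.Prime)
    (hr2 : 2 < r) (hs2 : 2 < s) (ht2 : 2 < t) (hrT : r ∣ Nat.card G) (hsT : s ∣ Nat.card G) (htT : t ∣ Nat.card G)
    (hrs : Sep G r s) (hrt : Sep G r t) (hst : Sep G s t) : NF G := by
  have ho' : ∀ l, 2 < l → ¬ l ∣ outN G := fun l hl hd => absurd (Nat.le_of_dvd (by norm_num) (hd.trans ho)) (by omega)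
  exact (nf0_triple hr hs ht hrT hsT htT (ho' r hr2) (ho' s hs2) (ho' t ht2) hrs hrt hst).nf
    (conj_inj hS hrs hrT hsT)

/-- **Two separated odd primes and bounds for the `p`-parts.** -/
theorem nf2 (hS : IsSimpleGroup G) (ho : outN G ∣ 2) {r s p a b : ℕ} (hr : r.Prime) (hs : s.Prime)
    (hr2 : 2 < r) (hs2 : 2 < s) (hrT : r ∣ Nat.card G) (hsT : s ∣ Nat.card G)
    (hrs : Sep G r s) (hra : Bd G r p a) (hsb : Bd G s p b)
    (hlt : a + b + (outN G).factorization p < (Nat.card G).factorization p) : NF G := by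
  have ho' : ∀ l, 2 < l → ¬ l ∣ outN G := fun l hl hd => absurd (Nat.le_of_dvd (by norm_num) (hd.trans ho)) (by omega)
  exact (nf0_pair hr hs hrT hsT (ho' r hr2) (ho' s hs2) hrs hra hsb hlt).nf (conj_inj hS hrs hrT hsT)

/-- no element of order `s` in the centralizers of the elements of order `r` -/
theorem nonAdj_of_not_dvd {r s : ℕ} (h : ∀ x : G, orderOf x = r → ¬ s ∣ Nat.card (Subgroup.centralizer ({x} : Set G))) :
    NonAdj G r s := by
  intro x y hx hy hxy
  apply h x hx
  have h1 : orderOf (⟨y, Subgroup.mem_centralizer_singleton_iff.2 hxy.symm⟩ : Subgroup.centralizer ({x} : Set G)) = s := by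
    rw [Subgroup.orderOf_mk, hy]
  rw [← h1]
  exact orderOf_dvd_natCard _

end

end Cfsg.Agent.H729.NFTool
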