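import Cfsg.Agent.H729.NFTool
import Cfsg.Agent.H176.NFAbs
import Cfsg.Agent.H393.Iso.Base

/-!
# Bounds for `p`-parts from nonadjacency (S5773, helper729)

`bd_nonAdj` : `r² ∤ |G|`, `r`, `p` not adjacent in the prime graph: the `p`-subgroups normalized by an element of order
`r` have order `p ^ u` with `p ^ u ≡ 1 mod r`, which gives a bound `Bd G r p`.
-/

set_option autoImplicit false

namespace Cfsg.Agent.H729.NFTwo

open Cfsg Cfsg.Agent.H176.NF Cfsg.Agent.H729.NFTool Cfsg.Agent.H518.Dghp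
open Cfsg.Agent.H728.DghpMat

universe u

variable {G : Type u} [Group G] [Finite G]

/-- a `p`-subgroup normalized by an element of order `r` has order congruent to 1 modulo `r` -/
theorem modEq_one {r p : ℕ} (hr : r.Prime) (hp : p.Prime) (hna : NonAdj G r p) {x : G} (hx : orderOf x = r)
    {U : Subgroup G} (hU : IsPGroup p U) (hn : x ∈ Subgroup.normalizer (U : Set G)) : Nat.card U ≡ 1 [MOD r] := by
  have : Fact r.Prime := ⟨hr⟩
  have : Fact p.Prime := ⟨hp⟩
  have hxn : Subgroup.zpowers x ≤ Subgroup.normalizer (U : Set G) := by rwa [Subgroup.zpowers_le]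
  let act : MulAction ↥(Subgroup.zpowers x) ↥U :=
    { smul := fun g u => ⟨g.1 * u.1 * g.1⁻¹, (Subgroup.mem_normalizer_iff.1 (hxn g.2) u.1).1 u.2⟩
      one_smul := fun u => Subtype.ext (by
        show (1 : G) * u.1 * (1 : G)⁻¹ = u.1
        group)
      mul_smul := fun g g' u => Subtype.ext (by
        show (g.1 * g'.1) * u.1 * (g.1 * g'.1)⁻¹ = g.1 * (g'.1 * u.1 * g'.1⁻¹) * g.1⁻¹
        group) }
  have hpg : IsPGroup r ↥(Subgroup.zpowers x) := IsPGroup.of_card (n := 1) (by
    rw [Nat.card_zpowers, hx, pow_one])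
  have h1 := hpg.card_modEq_card_fixedPoints ↥U
  have h4 : MulAction.fixedPoints ↥(Subgroup.zpowers x) ↥U = {1} := by
    ext u
    constructor
    · intro hu
      by_contra hne
      obtain ⟨n, hn⟩ := (IsPGroup.iff_orderOf.1 hU) u
      have hn0 : n ≠ 0 := by
        rintro rfl
        rw [pow_zero, orderOf_eq_one_iff] at hn
        exact hne hn
      obtain ⟨m, rfl⟩ := Nat.exists_eq_succ_of_ne_zero hn0
      have h6 := hu ⟨x, Subgroup.mem_zpowers x⟩
      have h7 : x * u.1 * x⁻¹ = u.1 := congrArg Subtype.val h6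
      have h8 : Commute x u.1 := by
        show x * u.1 = u.1 * x
        calc x * u.1 = x * u.1 * x⁻¹ * x := by group
          _ = u.1 * x := by rw [h7]
      have h9 : orderOf (u.1 ^ p ^ m) = p := by
        have h10 : orderOf u.1 = p ^ (m + 1) := by rw [Subgroup.orderOf_coe, hn]
        rw [orderOf_pow_of_dvd (pow_ne_zero _ hp.ne_zero) (by rw [h10]; exact pow_dvd_pow p (Nat.le_succ m)), h10,
          Nat.pow_div (Nat.le_succ m) hp.pos]
        simp
      exact hna x (u.1 ^ p ^ m) hx h9 (h8.pow_right _)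
    · rintro rfl
      intro g
      exact Subtype.ext (by
        show g.1 * (1 : G) * g.1⁻¹ = 1
        group)
  rw [h4] at h1
  simpa using h1

theorem bd_nonAdj {r p : ℕ} (n a : ℕ) (hr : r.Prime) (hp : p.Prime) (hrp : r ≠ p) (hna : NonAdj G r p)
    (hr2 : ¬ r ^ 2 ∣ Nat.card G) (hn : (Nat.card G).factorization p ≤ n)
    (h : ∀ u, u ≤ n → r ∣ p ^ u - 1 → u ≤ a) : Bd G r p (a + (r - 1).factorization p) := by
  have : Fact r.Prime := ⟨hr⟩
  refine bdAbs G r p (r - 1) a hr hp hrp (by have := hr.two_le; omega) ?_ ?_ ?_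
  · intro R hR
    obtain ⟨k, hk⟩ := IsPGroup.iff_card.1 hR
    have hk1 : k < 2 := by
      by_contra h1
      push Not at h1
      exact hr2 ((pow_dvd_pow r h1).trans (hk ▸ Subgroup.card_subgroup_dvd_card R))
    have hk2 : k = 0 ∨ k = 1 := by omega
    rcases hk2 with rfl | rfl
    · rw [pow_zero] at hk
      rw [Subgroup.eq_bot_of_card_eq R hk]
      infer_instance
    · rw [pow_one] at hk
      exact isCyclic_of_prime_card hk
  · intro x y hx k j hy hxy
    apply ZMod.orderOf_dvd_card_sub_one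
    intro h0
    rw [ZMod.natCast_eq_zero_iff] at h0
    have h1 : y * x * y⁻¹ = 1 := by
      rw [hxy, ← orderOf_dvd_iff_pow_eq_one, hx]
      exact h0
    have h2 : x = 1 := by
      have h3 : x = y⁻¹ * (y * x * y⁻¹) * y := by group
      rw [h3, h1]
      group
    rw [h2, orderOf_one] at hx
    exact hr.one_lt.ne hx
  · intro x hx U hU hxU
    obtain ⟨k, hk⟩ := (@IsPGroup.iff_card p U _ ⟨hp⟩ _).1 hU
    rw [hk, hp.factorization_pow, Finsupp.single_eq_same]
    have h1 := modEq_one hr hp hna hx hU hxU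
    rw [hk] at h1
    have h2 : r ∣ p ^ k - 1 := (Nat.modEq_iff_dvd' (Nat.one_le_pow _ _ hp.pos)).1 h1.symm
    refine h k ?_ h2
    refine le_trans ?_ hn
    rw [← hp.pow_dvd_iff_le_factorization Nat.card_pos.ne', ← hk]
    exact Subgroup.card_subgroup_dvd_card U

omit [Finite G] in
open Cfsg.Agent.H393.Iso in
theorem nonAdj_two {r : ℕ} (h : NA r G) : NonAdj G r 2 := fun x t hx ht hc => h x t hx ht hc

/-- decidable form of the numerical condition -/
theorem le_of_all {r p n a : ℕ} (h : ((List.range (n + 1)).all fun u => ((p ^ u - 1) % r != 0) || (decide (u ≤ a))) = true) :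
    ∀ u, u ≤ n → r ∣ p ^ u - 1 → u ≤ a := by
  intro u hu hd
  rw [List.all_eq_true] at h
  have h1 := h u (List.mem_range.2 (by omega))
  rw [Nat.mod_eq_zero_of_dvd hd] at h1
  simpa using h1

theorem fac_eq {N p k : ℕ} (hp : p.Prime) (h0 : N ≠ 0) (h1 : p ^ k ∣ N) (h2 : ¬ p ^ (k + 1) ∣ N) :
    N.factorization p = k := by
  rw [hp.pow_dvd_iff_le_factorization h0] at h1 h2
  omega

omit [Finite G] in
theorem outN_fac_le (ho : outN G ∣ 2) (p : ℕ) : (outN G).factorization p ≤ 1 := by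
  have h1 : (outN G).factorization p ≤ (Nat.factorization 2) p :=
    (Nat.factorization_le_iff_dvd (fun h => by rw [h] at ho; simp at ho) (by norm_num)).2 ho p
  refine h1.trans ?_
  rw [Nat.Prime.factorization Nat.prime_two, Finsupp.single_apply]
  split_ifs <;> omega

/-- **Two separated odd primes not adjacent to 2.** -/
theorem nf_two (hS : IsSimpleGroup G) (ho : outN G ∣ 2) {N r s : ℕ} (n a b c d : ℕ) (hN : Nat.card G = N)
    (hr : r.Prime) (hs : s.Prime) (hr2 : 2 < r) (hs2 : 2 < s) (hrT : r ∣ N) (hsT : s ∣ N) (hr3 : ¬ r ^ 2 ∣ N)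
    (hs3 : ¬ s ^ 2 ∣ N) (hrs : Sep G r s) (hnr : NonAdj G r 2) (hns : NonAdj G s 2)
    (h1 : 2 ^ n ∣ N) (h2 : ¬ 2 ^ (n + 1) ∣ N)
    (h3 : ((List.range (n + 1)).all fun u => ((2 ^ u - 1) % r != 0) || (decide (u ≤ a))) = true)
    (h4 : ((List.range (n + 1)).all fun u => ((2 ^ u - 1) % s != 0) || (decide (u ≤ b))) = true)
    (h5 : ¬ 2 ^ (c + 1) ∣ r - 1) (h6 : ¬ 2 ^ (d + 1) ∣ s - 1) (h7 : a + c + (b + d) + 1 < n) : NF G := by
  have hN0 : N ≠ 0 := hN ▸ Nat.card_pos.ne'
  have hf : (Nat.card G).factorization 2 = n := by rw [hN]; exact fac_eq Nat.prime_two hN0 h1 h2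
  have hc : (r - 1).factorization 2 ≤ c := by
    rw [Nat.prime_two.pow_dvd_iff_le_factorization (by omega)] at h5
    omega
  have hd : (s - 1).factorization 2 ≤ d := by
    rw [Nat.prime_two.pow_dvd_iff_le_factorization (by omega)] at h6
    omega
  have hbr := bd_nonAdj n a hr Nat.prime_two (by omega) hnr (by rwa [hN]) hf.le (le_of_all h3)
  have hbs := bd_nonAdj n b hs Nat.prime_two (by omega) hns (by rwa [hN]) hf.le (le_of_all h4)
  refine nf2 hS ho hr hs hr2 hs2 (hN ▸ hrT) (hN ▸ hsT) hrs hbr hbs ?_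
  have h8 := outN_fac_le ho 2
  rw [hf]
  omega

end Cfsg.Agent.H729.NFTwo
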