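import Cfsg.Agent.H729.NFTool
import Cfsg.Agent.H587.NR.He
import Cfsg.Agent.H478.SporHe
import Cfsg.Agent.H547.SelfCent.He

/-!
# `NF` for the Held group (helper729)

`no35` : elements of order 5 have exactly 8 fixed points in the action of degree 2058, elements of order 7 none, so
they do not commute.
-/

set_option autoImplicit false
set_option maxRecDepth 100000

namespace Cfsg.Agent.H729.NFHe

open Cfsg Cfsg.Agent.H176.NF Cfsg.Agent.H729.NFTool Cfsg.Agent.H518.Dghp
open Cfsg.Agent.H728.DghpMat Subgroup Cfsg.Agent.H587.NR Cfsg.Agent.H587.NR.He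
open Cfsg.Spor.He (Gen)
open Cfsg.Agent.SporadicB.HePerm (act wd phi phi_wd_apply allBelow of_allBelow)
open Cfsg.Agent.FixBN.HeStab Cfsg.Agent.KFacts.He.Lv Cfsg.Agent.CpAutHe.Cnt
open Cfsg.Agent.H839.Rad Cfsg.Agent.H459.Rad

universe u

/-- the fixed points of the word `Y` are the points in the list `L` -/
def fixB (Y : List Gen) (L : List ℕ) : Bool := allBelow 2058 fun i => (Nat.beq (act Y i) i) == (L.any (Nat.beq i))

theorem fixB_spec {Y : List Gen} {L : List ℕ} (h : fixB Y L = true) (i : Fin 2058) :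
    phi (wd Y) i = i ↔ (i : ℕ) ∈ L := by
  have h1 := of_allBelow h i i.2
  have h2 : (phi (wd Y) i = i) ↔ act Y i = i := by
    rw [← phi_wd_apply, Fin.ext_iff]
  rw [h2]
  rw [beq_iff_eq] at h1
  constructor
  · intro h3
    rw [h3, Nat.beq_refl] at h1
    have h4 := h1.symm
    rw [List.any_eq_true] at h4
    obtain ⟨j, hj, hij⟩ := h4
    rwa [Nat.eq_of_beq_eq_true hij]
  · intro h3
    have h4 : L.any (Nat.beq (i : ℕ)) = true := List.any_eq_true.2 ⟨i, h3, Nat.beq_refl _⟩
    rw [h4] at h1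
    exact Nat.eq_of_beq_eq_true h1

/-- an element of order 7 does not commute with an element with 8 fixed points -/
theorem false_of_fixB {Y : List Gen} {L : List ℕ} (h : fixB Y L = true) (hl : ∀ i ∈ L, i < 2058) (hnd : L.Nodup)
    (hL : ¬ 7 ∣ L.length) {x : Cfsg.Spor.He} (hx : orderOf x = 7) (hc : x * wd Y = wd Y * x) : False := by
  classical
  have h7 : Fact (Nat.Prime 7) := ⟨by norm_num⟩
  let F : Finset (Fin 2058) := Finset.univ.filter fun i => phi (wd Y) i = i
  have hF : ∀ i, i ∈ F ↔ (i : ℕ) ∈ L := fun i => by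
    rw [Finset.mem_filter, fixB_spec h]
    simp
  have hcard : F.card = L.length := by
    rw [← List.toFinset_card_of_nodup hnd, ← Finset.card_map Fin.valEmbedding]
    congr 1
    ext j
    rw [Finset.mem_map, List.mem_toFinset]
    constructor
    · rintro ⟨i, hi, rfl⟩
      exact (hF i).1 hi
    · intro hj
      exact ⟨⟨j, hl j hj⟩, (hF _).2 hj, rfl⟩
  have hinv : ∀ i, i ∈ F → phi x i ∈ F := by
    intro i hi
    rw [Finset.mem_filter] at hi ⊢
    refine ⟨Finset.mem_univ _, ?_⟩
    rw [← Equiv.Perm.mul_apply, ← map_mul, ← hc, map_mul, Equiv.Perm.mul_apply, hi.2]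
  let f : Function.End F := fun i => ⟨phi x i, hinv i i.2⟩
  have hfp : ∀ (n : ℕ) (i : F), (((f ^ n : Function.End F) i : F) : Fin 2058) = (phi x ^ n) i := by
    intro n
    induction n with
    | zero => intro i; rfl
    | succ n ih =>
      intro i
      rw [pow_succ', pow_succ', Equiv.Perm.mul_apply]
      show phi x ((((f ^ n : Function.End F) i : F)) : Fin 2058) = _
      rw [ih]
  have hf7 : f ^ 7 ^ 1 = 1 := by
    funext i
    apply Subtype.ext
    rw [hfp, pow_one, ← map_pow, ← hx, pow_orderOf_eq_one, map_one]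
    rfl
  have h1 := Equiv.Perm.card_fixedPoints_modEq hf7
  have h2 : Fintype.card ↑(Function.fixedPoints f) = 0 := by
    rw [Fintype.card_eq_zero_iff]
    refine ⟨fun i => ?_⟩
    have h3 : f i.1 = i.1 := i.2
    exact H478.SporHe.no_fix hx i.1.1 (congrArg Subtype.val h3)
  rw [h2, Fintype.card_coe, hcard] at h1
  exact hL ((Nat.modEq_zero_iff_dvd).1 h1)

/-- commuting with an element of order 7 -/
def Sv (y : Cfsg.Spor.He) : Prop := ∃ x : Cfsg.Spor.He, orderOf x = 7 ∧ x * y = y * x

theorem f_b : fixB B5 [0, 274, 374, 697, 883, 1140, 1141, 2025] = true := by decide +kernel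
theorem f_0 : fixB X5_0 [0, 139, 207, 883, 973, 989, 2025, 2026] = true := by decide +kernel
theorem f_1 : fixB X5_1 [0, 740, 776, 883, 1454, 1846, 1847, 2025] = true := by decide +kernel
theorem f_2 : fixB X5_2 [0, 373, 382, 717, 720, 883, 911, 2025] = true := by decide +kernel
theorem f_3 : fixB X5_3 [0, 738, 777, 788, 883, 1483, 1833, 2025] = true := by decide +kernel
theorem f_4 : fixB X5_4 [0, 883, 981, 982, 985, 994, 2000, 2025] = true := by decide +kernel

theorem no35 : NonAdj Cfsg.Spor.He 5 7 := by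
  intro x z hx hz hxz
  have h5 : Fact (Nat.Prime 5) := ⟨by norm_num⟩
  have hfin : Finite Cfsg.Spor.He := Nat.finite_of_card_ne_zero (by rw [card_he]; norm_num)
  have r1 : wd B5 * wd A5 = wd A5 * wd B5 := by
    have h1 := eq_of_chkB (show chkB (B5 ++ A5) (A5 ++ B5) = true by decide +kernel)
    rwa [wd_append, wd_append] at h1
  have r4 : wd A5 ^ 5 = 1 := by
    have h1 := eq_of_chkB (show chkB (pw A5 5) [] = true by decide +kernel)
    rwa [wd_pw, wd_nil] at h1
  have r5 : wd B5 ^ 5 = 1 := by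
    have h1 := eq_of_chkB (show chkB (pw B5 5) [] = true by decide +kernel)
    rwa [wd_pw, wd_nil] at h1
  have r6 : wd A5 ≠ 1 := by
    rw [← wd_nil]
    exact ne_of_chkB (by decide +kernel)
  have r7 : ∀ j < 5, wd B5 ≠ wd A5 ^ j := by
    intro j hj
    rw [← wd_pw]
    apply ne_of_chkB
    interval_cases j <;> decide +kernel
  have key : ∀ (j : ℕ) (X : List Gen), chkB (A5 ++ pw B5 j) X = true → wd A5 * wd B5 ^ j = wd X := by
    intro j X hj
    have h1 := eq_of_chkB hj
    rwa [wd_append, wd_pw] at h1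
  have kill : ∀ (Y : List Gen) (L : List ℕ), fixB Y L = true → (∀ i ∈ L, i < 2058) → L.Nodup → ¬ 7 ∣ L.length →
      Sv (wd Y) → False := fun Y L h1 h2 h3 h4 ⟨x, hx, hc⟩ => false_of_fixB h1 h2 h3 h4 hx hc
  rcases exists_abel (p := 5) r1 r4 r5 r6 r7 (by rw [card_he]; norm_num) (S := Sv)
    (fun y k ⟨x, hx, hc⟩ => ⟨x, hx, ((show Commute x y from hc).pow_right k).eq⟩)
    (fun y u ⟨x, hx, hc⟩ => ⟨u * x * u⁻¹, by rw [← hx]; exact MulEquiv.orderOf_eq (MulAut.conj u) x, by
      calc u * x * u⁻¹ * (u * y * u⁻¹) = u * (x * y) * u⁻¹ := by group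
        _ = u * (y * x) * u⁻¹ := by rw [hc]
        _ = u * y * u⁻¹ * (u * x * u⁻¹) := by group⟩) hx ⟨z, hz, hxz.symm⟩ with h | ⟨j, hj, h⟩
  · exact kill _ _ f_b (by decide) (by decide) (by decide) h
  · interval_cases j
    · exact kill _ _ f_0 (by decide) (by decide) (by decide) (key _ _ eq5_0 ▸ h)
    · exact kill _ _ f_1 (by decide) (by decide) (by decide) (key _ _ eq5_1 ▸ h)
    · exact kill _ _ f_2 (by decide) (by decide) (by decide) (key _ _ eq5_2 ▸ h)
    · exact kill _ _ f_3 (by decide) (by decide) (by decide) (key _ _ eq5_3 ▸ h)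
    · exact kill _ _ f_4 (by decide) (by decide) (by decide) (key _ _ eq5_4 ▸ h)

theorem he_model [Finite Spor.He] : NF Spor.He := by
  have hI : Spor.IsoHe Spor.He := ⟨MulEquiv.refl _⟩
  have hN := NotCT.Orders.he hI
  have hS : IsSporadicGroup Spor.He := by unfold IsSporadicGroup; tauto
  have hs := Cfsg.Agent.H14.KnownSimple.sporadic hS
  have c17 : ∀ x : Spor.He, orderOf x = 17 → Nat.card (centralizer ({x} : Set Spor.He)) = 17 := fun x hx =>
    H547.SelfCent.HeRow.he hI hN hx
  have h2 : NonAdj Spor.He 17 5 := nonAdj_of_not_dvd fun x hx => by rw [c17 x hx]; norm_num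
  have h3 : NonAdj Spor.He 17 7 := nonAdj_of_not_dvd fun x hx => by rw [c17 x hx]; norm_num
  exact nf3 hs (outN_dvd_two hS) (r := 5) (s := 7) (t := 17) (by norm_num) (by norm_num) (by norm_num)
    (by norm_num) (by norm_num) (by norm_num) (by rw [hN]; norm_num) (by rw [hN]; norm_num) (by rw [hN]; norm_num)
    (sep 2 3 hN (by norm_num) (by norm_num) (by decide +kernel) no35)
    (sep 2 1 hN (by norm_num) (by norm_num) (by decide +kernel) h2.symm)
    (sep 3 1 hN (by norm_num) (by norm_num) (by decide +kernel) h3.symm)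

theorem he {S : Type u} [Group S] [Finite S] (h : Spor.IsoHe S) : NF S := by
  obtain ⟨e⟩ := h
  have : Finite Spor.He := Finite.of_equiv _ e.toEquiv
  exact NF.congr e.symm he_model

end Cfsg.Agent.H729.NFHe
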