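import Mathlib
import Cfsg.Agent.Lib.SolvableNormalP

/-!
# Solvable groups on twelve points whose nontrivial elements have at most four fixed points (helper729)

`no_solv` : such a group does not have order divisible by 864.
-/

set_option autoImplicit false

namespace Cfsg.Agent.H729.TwelvePts

open MulAction
open scoped Pointwise

universe u v

section

variable {K : Type u} [Group K] {α : Type v} [MulAction K α]

/-- elements with at least five fixed points are trivial -/
def Few (K : Type u) [Group K] (α : Type v) [MulAction K α] : Prop :=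
  ∀ (k : K) (s : Finset α), 5 ≤ s.card → (∀ x ∈ s, k • x = x) → k = 1

theorem Few.sub (h : Few K α) (L : Subgroup K) : Few L α := fun k s hs hk => Subtype.ext (h k s hs hk)

/-- the action on an invariant set -/
theorem exists_hom (A : Set α) (hA : ∀ k : K, ∀ a ∈ A, k • a ∈ A) :
    ∃ φ : K →* Equiv.Perm A, ∀ (k : K) (a : A), ((φ k a : A) : α) = k • (a : α) := by
  let S : SubMulAction K α := ⟨A, fun k a => hA k a⟩
  exact ⟨MulAction.toPermHom K S, fun k a => rfl⟩

theorem card_dvd [Finite K] {A : Type*} [Finite A] (φ : K →* Equiv.Perm A) :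
    Nat.card K ∣ Nat.card φ.ker * (Nat.card A).factorial := by
  have h1 := φ.ker.card_mul_index
  rw [← h1, Subgroup.index_ker]
  refine mul_dvd_mul_left _ ?_
  have := Subgroup.card_subgroup_dvd_card φ.range
  rwa [Nat.card_perm] at this

theorem exists_fix [Finite K] {p : ℕ} [Fact p.Prime] {g : K} (hg : orderOf g = p) (B : Set α)
    (hB : ∀ x ∈ B, g • x ∈ B) (hp : ¬ p ∣ B.ncard) : ∃ x ∈ B, g • x = x := by
  have hz : ∀ k : Subgroup.zpowers g, ∀ x ∈ B, (k : K) • x ∈ B := by
    rintro ⟨k, hk⟩ x hx
    obtain ⟨n, rfl⟩ := (mem_powers_iff_mem_zpowers.2 hk)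
    show g ^ n • x ∈ B
    clear hk
    induction n with
    | zero => simpa using hx
    | succ n ih => rw [pow_succ', mul_smul]; exact hB _ ih
  let S : SubMulAction (Subgroup.zpowers g) α := ⟨B, fun k x => hz k x⟩
  have hpg : IsPGroup p (Subgroup.zpowers g) := IsPGroup.of_card (n := 1) (by rw [Nat.card_zpowers, hg, pow_one])
  obtain ⟨x, hx⟩ := hpg.nonempty_fixed_point_of_prime_not_dvd_card S (by
    have : Nat.card S = B.ncard := rfl
    rwa [this])
  exact ⟨x, x.2, congrArg Subtype.val (hx ⟨g, Subgroup.mem_zpowers g⟩)⟩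

theorem Few.faithful [Finite α] (hF : Few K α) (hα : Nat.card α = 12) {k : K} (h : ∀ x : α, k • x = x) : k = 1 := by
  have := Fintype.ofFinite α
  refine hF k Finset.univ ?_ fun x _ => h x
  rw [Finset.card_univ, ← Nat.card_eq_fintype_card, hα]
  norm_num

/-- a 3-subgroup of order at least 27 has no fixed points -/
theorem no_fix [Finite K] [Finite α] (hα : Nat.card α = 12) (hF : Few K α) {P : Subgroup K} (hP : IsPGroup 3 P)
    (h27 : 27 ≤ Nat.card P) (a : α) (ha : ∀ g ∈ P, g • a = a) : False := by
  classical
  have h3 : Fact (Nat.Prime 3) := ⟨Nat.prime_three⟩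
  have := Fintype.ofFinite α
  have hF0 : Nat.card (fixedPoints P α) % 3 = 0 := by
    have := hP.card_modEq_card_fixedPoints α
    rw [hα] at this
    exact this.symm
  have ha' : a ∈ fixedPoints P α := fun g => ha g g.2
  have hpos : 0 < Nat.card (fixedPoints P α) := by
    have : Nonempty (fixedPoints P α) := ⟨⟨a, ha'⟩⟩
    exact Nat.card_pos
  -- a point which is not fixed
  obtain ⟨b, hb⟩ : ∃ b, b ∉ fixedPoints P α := by
    by_contra hne
    push Not at hne
    have hP1 : ∀ g : P, g = 1 := fun g => Subtype.ext (hF.faithful hα fun x => hne x g)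
    have : Nat.card P = 1 := by
      have : Subsingleton P := ⟨fun g h => (hP1 g).trans (hP1 h).symm⟩
      exact Nat.card_of_subsingleton 1
    omega
  have horb : Nat.card (orbit P b) ≤ 9 := by
    obtain ⟨n, hn⟩ := hP.card_orbit b
    have h1 : Nat.card (orbit P b) ≤ 12 := by
      rw [← hα]
      exact Nat.card_le_card_of_injective _ Subtype.val_injective
    rw [hn] at h1 ⊢
    have h2 : n ≤ 2 := by
      by_contra h
      push Not at h
      have := Nat.pow_le_pow_right (show 0 < 3 by norm_num) h
      omega
    calc 3 ^ n ≤ 3 ^ 2 := Nat.pow_le_pow_right (by norm_num) h2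
      _ = 9 := by norm_num
  have hst : 3 ≤ Nat.card (stabilizer P b) := by
    have h1 := Nat.card_congr (MulAction.orbitProdStabilizerEquivGroup P b)
    rw [Nat.card_prod] at h1
    by_contra h
    push Not at h
    have : Nat.card (orbit P b) * Nat.card (stabilizer P b) ≤ 9 * 2 := Nat.mul_le_mul horb (by omega)
    omega
  have hQ : IsPGroup 3 (stabilizer P b) := hP.to_subgroup _
  have hQ0 : Nat.card (fixedPoints (stabilizer P b) α) % 3 = 0 := by
    have := hQ.card_modEq_card_fixedPoints α
    rw [hα] at this
    exact this.symm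
  have hsub : fixedPoints P α ⊆ fixedPoints (stabilizer P b) α := fun x hx g => hx (g : P)
  have hbQ : b ∈ fixedPoints (stabilizer P b) α := fun g => g.2
  have hlt : Nat.card (fixedPoints P α) < Nat.card (fixedPoints (stabilizer P b) α) := by
    show (fixedPoints P α).ncard < (fixedPoints (stabilizer P b) α).ncard
    exact Set.ncard_lt_ncard ⟨hsub, fun h => hb (h hbQ)⟩ (Set.toFinite _)
  have h5 : 5 ≤ (fixedPoints (stabilizer P b) α).toFinset.card := by
    rw [← Set.ncard_eq_toFinset_card']
    show 5 ≤ Nat.card (fixedPoints (stabilizer P b) α)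
    omega
  have hQ1 : ∀ g : stabilizer P b, g = 1 := fun g => Subtype.ext (Subtype.ext (hF _ _ h5 fun x hx => by
    rw [Set.mem_toFinset] at hx
    exact hx g))
  have : Nat.card (stabilizer P b) = 1 := by
    have : Subsingleton (stabilizer P b) := ⟨fun g h => (hQ1 g).trans (hQ1 h).symm⟩
    exact Nat.card_of_subsingleton 1
  omega

/-- a group of order divisible by 27: all orbits have lengths divisible by 3 -/
theorem three_dvd_orbit [Finite K] [Finite α] (hα : Nat.card α = 12) (hF : Few K α) (h27 : 27 ∣ Nat.card K) (x : α) :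
    3 ∣ Nat.card (orbit K x) := by
  have h3 : Fact (Nat.Prime 3) := ⟨Nat.prime_three⟩
  obtain ⟨P, hP⟩ := Sylow.exists_subgroup_card_pow_prime (G := K) 3 (n := 3) (by norm_num; exact h27)
  have hPp : IsPGroup 3 P := IsPGroup.of_card hP
  have h1 := hPp.card_modEq_card_fixedPoints (orbit K x)
  have h2 : Nat.card (fixedPoints P (orbit K x)) = 0 := by
    rw [Nat.card_eq_zero]
    left
    refine ⟨fun y => ?_⟩
    refine no_fix hα hF hPp (by rw [hP]; norm_num) (y.1 : α) fun g hg => ?_
    exact congrArg Subtype.val (y.2 ⟨g, hg⟩)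
  rw [h2] at h1
  exact (Nat.modEq_zero_iff_dvd).1 h1

/-- orbits of length 6 or 3 are impossible -/
theorem no_small [Finite K] [Finite α] (hα : Nat.card α = 12) (hF : Few K α) (hd : 864 ∣ Nat.card K) (x : α)
    (hx : Nat.card (orbit K x) = 6 ∨ Nat.card (orbit K x) = 3) : False := by
  classical
  have := Fintype.ofFinite α
  obtain ⟨φ, hφ⟩ := exists_hom (K := K) (orbit K x) (fun k a ha => by
    obtain ⟨g, rfl⟩ := ha
    exact ⟨k * g, mul_smul _ _ _⟩)
  have hker : ∀ k ∈ φ.ker, ∀ a ∈ orbit K x, k • a = a := by
    intro k hk a ha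
    have h1 := hφ k ⟨a, ha⟩
    rw [MonoidHom.mem_ker.1 hk] at h1
    exact h1.symm
  have h1 := card_dvd φ
  rcases hx with hx | hx <;> rw [hx] at h1
  · have h2 : Nat.card φ.ker = 1 := by
      have hall : ∀ k : φ.ker, k = 1 := fun k => Subtype.ext (hF k (orbit K x).toFinset (by
        rw [← Set.ncard_eq_toFinset_card']
        show 5 ≤ Nat.card (orbit K x)
        omega) fun a ha => hker k k.2 a (by rwa [Set.mem_toFinset] at ha))
      have : Subsingleton φ.ker := ⟨fun g h => (hall g).trans (hall h).symm⟩
      exact Nat.card_of_subsingleton 1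
    rw [h2] at h1
    have h3 := hd.trans h1
    rw [show Nat.factorial 6 = 720 by rfl] at h3
    norm_num at h3
  · have h3 := hd.trans h1
    rw [show Nat.factorial 3 = 6 by rfl] at h3
    have h4 : 144 ∣ Nat.card φ.ker := Nat.dvd_of_mul_dvd_mul_right (by norm_num : 0 < 6) (by norm_num; exact h3)
    have h5 : 144 ≤ Nat.card φ.ker := Nat.le_of_dvd Nat.card_pos h4
    -- a fourth point
    have hcard : (orbit K x).toFinset.card = 3 := by
      rw [← Set.ncard_eq_toFinset_card']
      exact hx
    have hcu : Fintype.card α = 12 := by rw [← Nat.card_eq_fintype_card, hα]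
    obtain ⟨y, hy⟩ : ∃ y, y ∉ (orbit K x).toFinset := by
      by_contra hne
      push Not at hne
      have : (orbit K x).toFinset = Finset.univ := Finset.eq_univ_of_forall hne
      rw [this, Finset.card_univ] at hcard
      omega
    have hyc : (insert y (orbit K x).toFinset).card = 4 := by rw [Finset.card_insert_of_notMem hy, hcard]
    obtain ⟨z, hz⟩ : ∃ z, z ∉ insert y (orbit K x).toFinset := by
      by_contra hne
      push Not at hne
      have : insert y (orbit K x).toFinset = Finset.univ := Finset.eq_univ_of_forall hne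
      rw [this, Finset.card_univ] at hyc
      omega
    have ho1 : Nat.card (orbit φ.ker y) ≤ 12 := by
      rw [← hα]
      exact Nat.card_le_card_of_injective _ Subtype.val_injective
    have hs1 : 12 ≤ Nat.card (stabilizer φ.ker y) := by
      have h6 := Nat.card_congr (MulAction.orbitProdStabilizerEquivGroup φ.ker y)
      rw [Nat.card_prod] at h6
      by_contra h
      push Not at h
      have : Nat.card (orbit φ.ker y) * Nat.card (stabilizer φ.ker y) ≤ 12 * 11 := Nat.mul_le_mul ho1 (by omega)
      omega
    have ho2 : Nat.card (orbit (stabilizer φ.ker y) z) ≤ 8 := by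
      have h7 : Disjoint (orbit (stabilizer φ.ker y) z) (insert y (orbit K x)) := by
        rw [Set.disjoint_left]
        rintro w ⟨g, rfl⟩ hw
        apply hz
        rw [Finset.mem_insert, Set.mem_toFinset]
        rcases hw with hw | hw
        · left
          have h8 : (g : φ.ker) • y = y := g.2
          have h9 : (g : φ.ker) • z = (g : φ.ker) • y := by rw [h8]; exact hw
          exact smul_left_cancel _ h9
        · right
          obtain ⟨k, hk⟩ := hw
          refine ⟨(((g : φ.ker) : K))⁻¹ * k, ?_⟩
          show ((((g : φ.ker) : K))⁻¹ * k) • x = z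
          rw [mul_smul, inv_smul_eq_iff]
          exact hk
      have h8 : (orbit (stabilizer φ.ker y) z ∪ insert y (orbit K x)).ncard ≤ 12 := by
        rw [← hα, ← Set.ncard_univ]
        exact Set.ncard_le_ncard (Set.subset_univ _) (Set.toFinite _)
      rw [Set.ncard_union_eq h7 (Set.toFinite _) (Set.toFinite _)] at h8
      have h9 : (insert y (orbit K x)).ncard = 4 := by
        rw [Set.ncard_insert_of_notMem (by rwa [Set.mem_toFinset] at hy) (Set.toFinite _)]
        show Nat.card (orbit K x) + 1 = 4
        omega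
      have h10 : Nat.card (orbit (stabilizer φ.ker y) z) = (orbit (stabilizer φ.ker y) z).ncard := rfl
      omega
    have hs2 : 2 ≤ Nat.card (stabilizer (stabilizer φ.ker y) z) := by
      have h6 := Nat.card_congr (MulAction.orbitProdStabilizerEquivGroup (stabilizer φ.ker y) z)
      rw [Nat.card_prod] at h6
      by_contra h
      push Not at h
      have : Nat.card (orbit (stabilizer φ.ker y) z) * Nat.card (stabilizer (stabilizer φ.ker y) z) ≤ 8 * 1 :=
        Nat.mul_le_mul ho2 (by omega)
      omega
    have hall : ∀ k : stabilizer (stabilizer φ.ker y) z, k = 1 := by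
      intro k
      apply Subtype.ext; apply Subtype.ext; apply Subtype.ext
      refine hF _ (insert z (insert y (orbit K x).toFinset)) ?_ ?_
      · rw [Finset.card_insert_of_notMem hz, hyc]
      · intro w hw
        rw [Finset.mem_insert, Finset.mem_insert, Set.mem_toFinset] at hw
        rcases hw with rfl | rfl | hw
        · exact k.2
        · exact (k : stabilizer φ.ker w).2
        · exact hker _ ((k : stabilizer φ.ker y) : φ.ker).2 w hw
    have : Nat.card (stabilizer (stabilizer φ.ker y) z) = 1 := by
      have : Subsingleton (stabilizer (stabilizer φ.ker y) z) := ⟨fun g h => (hall g).trans (hall h).symm⟩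
      exact Nat.card_of_subsingleton 1
    omega

/-- the transitive case: no block system with blocks of length 2, 3, 4 -/
theorem no_block [Finite K] [Finite α] [IsPretransitive K α] (hα : Nat.card α = 12) (hF : Few K α)
    (hd : 864 ∣ Nat.card K) {B : Set α} (hB : IsBlock K B) (hne : B.Nonempty) (hb : B.ncard = 2 ∨ B.ncard = 3 ∨ B.ncard = 4) :
    False := by
  classical
  have := Fintype.ofFinite α
  have hn := hB.ncard_block_mul_ncard_orbit_eq hne
  rw [hα] at hn
  -- the action on the blocks
  obtain ⟨φ, hφ⟩ := exists_hom (K := K) (orbit K B) (fun k a ha => by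
    obtain ⟨g, rfl⟩ := ha
    exact ⟨k * g, mul_smul _ _ _⟩)
  have hker : ∀ k ∈ φ.ker, ∀ C ∈ orbit K B, k • C = C := by
    intro k hk C hC
    have h1 := hφ k ⟨C, hC⟩
    rw [MonoidHom.mem_ker.1 hk] at h1
    exact h1.symm
  have hkerB : ∀ k : φ.ker, ∀ a ∈ B, k • a ∈ B := by
    intro k a ha
    have h1 := hker k k.2 B (mem_orbit_self B)
    have h2 : (k : K) • a ∈ (k : K) • B := Set.smul_mem_smul_set ha
    rwa [h1] at h2
  have h1 := card_dvd φ
  have h1' : Nat.card (orbit K B) = (orbit K B).ncard := rfl
  rw [h1'] at h1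
  obtain ⟨ψ, hψ⟩ := exists_hom (K := φ.ker) B hkerB
  have h2 := card_dvd ψ
  have h2' : Nat.card B = B.ncard := rfl
  rw [h2'] at h2
  -- it is enough to find an element of suitable prime order
  have key : ∀ q : ℕ, q.Prime → ¬ q ∣ B.ncard → q ∣ Nat.card ψ.ker → False := by
    intro q hq hqb hqd
    have hqf : Fact q.Prime := ⟨hq⟩
    obtain ⟨g, hg⟩ := exists_prime_orderOf_dvd_card' q hqd
    have hgo : orderOf ((g : φ.ker) : K) = q := by rw [Subgroup.orderOf_coe, Subgroup.orderOf_coe, hg]
    have hgB : ∀ a ∈ B, ((g : φ.ker) : K) • a = a := by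
      intro a ha
      have h3 := hψ g ⟨a, ha⟩
      rw [MonoidHom.mem_ker.1 g.2] at h3
      exact h3.symm
    have hfix : ∀ C : orbit K B, ∃ x ∈ (C : Set α), ((g : φ.ker) : K) • x = x := by
      intro C
      refine exists_fix hgo (C : Set α) (fun x hx => ?_) ?_
      · have h3 := hker (g : φ.ker) (g : φ.ker).2 C C.2
        have h4 : ((g : φ.ker) : K) • x ∈ ((g : φ.ker) : K) • (C : Set α) := Set.smul_mem_smul_set hx
        rwa [h3] at h4
      · obtain ⟨k, hk⟩ := C.2
        have h3 : (C : Set α) = k • B := hk.symm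
        rw [h3, Set.ncard_smul_set]
        exact hqb
    choose f hf1 hf2 using hfix
    have hdisj : ∀ C D : orbit K B, C ≠ D → Disjoint (C : Set α) (D : Set α) := by
      intro C D hCD
      obtain ⟨k, hk⟩ := C.2
      obtain ⟨l, hl⟩ := D.2
      have h3 : (C : Set α) = k • B := hk.symm
      have h4 : (D : Set α) = l • B := hl.symm
      rw [h3, h4]
      rcases isBlock_iff_smul_eq_smul_or_disjoint.1 hB k l with h | h
      · exact absurd (Subtype.ext (by rw [h3, h4, h])) hCD
      · exact h
    have hinj : Function.Injective f := by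
      intro C D h
      by_contra hne
      exact Set.disjoint_left.1 (hdisj C D hne) (hf1 C) (h ▸ hf1 D)
    have hfin := Fintype.ofFinite (orbit K B)
    let s : Finset α := Finset.univ.image f
    have hs : s.card = (orbit K B).ncard := by
      rw [Finset.card_image_of_injective _ hinj, Finset.card_univ, ← Nat.card_eq_fintype_card]
      rfl
    have hint : (s ∩ B.toFinset).card ≤ 1 := by
      rw [Finset.card_le_one]
      intro x hx y hy
      rw [Finset.mem_inter, Set.mem_toFinset] at hx hy
      obtain ⟨C, -, rfl⟩ := Finset.mem_image.1 hx.1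
      obtain ⟨D, -, rfl⟩ := Finset.mem_image.1 hy.1
      have hC : C = ⟨B, mem_orbit_self B⟩ := by
        by_contra hne
        exact Set.disjoint_left.1 (hdisj _ _ hne) (hf1 C) hx.2
      have hD : D = ⟨B, mem_orbit_self B⟩ := by
        by_contra hne
        exact Set.disjoint_left.1 (hdisj _ _ hne) (hf1 D) hy.2
      rw [hC, hD]
    have hu : (s ∪ B.toFinset).card + (s ∩ B.toFinset).card = s.card + B.toFinset.card :=
      Finset.card_union_add_card_inter _ _
    have hBc : B.toFinset.card = B.ncard := (Set.ncard_eq_toFinset_card' B).symm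
    have h5 : 5 ≤ (s ∪ B.toFinset).card := by
      rw [hs, hBc] at hu
      rcases hb with hb | hb | hb <;> rw [hb] at hn hu <;> omega
    have h6 := hF ((g : φ.ker) : K) _ h5 (by
      intro x hx
      rw [Finset.mem_union, Set.mem_toFinset] at hx
      rcases hx with hx | hx
      · obtain ⟨C, -, rfl⟩ := Finset.mem_image.1 hx
        exact hf2 C
      · exact hgB x hx)
    rw [h6, orderOf_one] at hgo
    exact hq.one_lt.ne hgo
  rcases hb with hb | hb | hb
  · have h3 : (orbit K B).ncard = 6 := by rw [hb] at hn; omega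
    rw [h3, show Nat.factorial 6 = 720 by rfl] at h1
    rw [hb, show Nat.factorial 2 = 2 by rfl] at h2
    have h4 : 864 ∣ (Nat.card ψ.ker * 2) * 720 := hd.trans (h1.trans (mul_dvd_mul_right h2 _))
    refine key 3 Nat.prime_three (by rw [hb]; norm_num) ?_
    have h5 : 3 ∣ Nat.card ψ.ker * 5 := by
      refine Nat.dvd_of_mul_dvd_mul_right (by norm_num : 0 < 288) ?_
      have : Nat.card ψ.ker * 5 * 288 = Nat.card ψ.ker * 2 * 720 := by ring
      rw [this]
      exact h4
    exact (Nat.Coprime.dvd_of_dvd_mul_right (by norm_num) h5)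
  · have h3 : (orbit K B).ncard = 4 := by rw [hb] at hn; omega
    rw [h3, show Nat.factorial 4 = 24 by rfl] at h1
    rw [hb, show Nat.factorial 3 = 6 by rfl] at h2
    have h4 : 864 ∣ (Nat.card ψ.ker * 6) * 24 := hd.trans (h1.trans (mul_dvd_mul_right h2 _))
    refine key 2 Nat.prime_two (by rw [hb]; norm_num) ?_
    refine Nat.dvd_of_mul_dvd_mul_right (by norm_num : 0 < 144) ?_
    have : Nat.card ψ.ker * 144 = Nat.card ψ.ker * 6 * 24 := by ring
    rw [this]
    exact (by norm_num : 2 * 144 ∣ 864).trans h4
  · have h3 : (orbit K B).ncard = 3 := by rw [hb] at hn; omega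
    rw [h3, show Nat.factorial 3 = 6 by rfl] at h1
    rw [hb, show Nat.factorial 4 = 24 by rfl] at h2
    have h4 : 864 ∣ (Nat.card ψ.ker * 24) * 6 := hd.trans (h1.trans (mul_dvd_mul_right h2 _))
    refine key 3 Nat.prime_three (by rw [hb]; norm_num) ?_
    refine Nat.dvd_of_mul_dvd_mul_right (by norm_num : 0 < 144) ?_
    have : Nat.card ψ.ker * 144 = Nat.card ψ.ker * 24 * 6 := by ring
    rw [this]
    exact (by norm_num : 3 * 144 ∣ 864).trans h4

/-- **Main theorem.** -/
theorem no_solv [Finite K] [Group.IsSolvable K] [Finite α] (hα : Nat.card α = 12) (hF : Few K α)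
    (hd : 864 ∣ Nat.card K) : False := by
  classical
  have := Fintype.ofFinite α
  have h27 : 27 ∣ Nat.card K := (by norm_num : 27 ∣ 864).trans hd
  -- transitivity
  have htr : ∀ x y : α, y ∈ orbit K x := by
    intro x y
    by_contra hxy
    have h1 : Disjoint (orbit K x) (orbit K y) := by
      rcases orbit.eq_or_disjoint (G := K) x y with h | h
      · exact absurd (h ▸ mem_orbit_self y) hxy
      · exact h
    have h2 : (orbit K x ∪ orbit K y).ncard ≤ 12 := by
      rw [← hα, ← Set.ncard_univ]
      exact Set.ncard_le_ncard (Set.subset_univ _) (Set.toFinite _)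
    rw [Set.ncard_union_eq h1 (Set.toFinite _) (Set.toFinite _)] at h2
    have hx3 := three_dvd_orbit hα hF h27 x
    have hy3 := three_dvd_orbit hα hF h27 y
    have hxp : 0 < Nat.card (orbit K x) := by
      have : Nonempty (orbit K x) := ⟨⟨x, mem_orbit_self x⟩⟩
      exact Nat.card_pos
    have hyp : 0 < Nat.card (orbit K y) := by
      have : Nonempty (orbit K y) := ⟨⟨y, mem_orbit_self y⟩⟩
      exact Nat.card_pos
    have hx' : Nat.card (orbit K x) = (orbit K x).ncard := rfl
    have hy' : Nat.card (orbit K y) = (orbit K y).ncard := rfl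
    have h3 : (Nat.card (orbit K x) = 6 ∨ Nat.card (orbit K x) = 3) ∨
        (Nat.card (orbit K y) = 6 ∨ Nat.card (orbit K y) = 3) := by omega
    rcases h3 with h3 | h3
    · exact no_small hα hF hd x h3
    · exact no_small hα hF hd y h3
  have hpre : IsPretransitive K α := ⟨fun x y => htr x y⟩
  have hK1 : Nontrivial K := by
    rw [← Finite.one_lt_card_iff_nontrivial]
    have := Nat.le_of_dvd Nat.card_pos hd
    omega
  obtain ⟨p, N, hp, hNn, hNp, -, hN1⟩ := Cfsg.Agent.Lib.SolvableNormalP.exists_normal_pSubgroup K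
  have hpf : Fact p.Prime := ⟨hp⟩
  have hne : Nonempty α := by
    rw [← Finite.card_pos_iff, hα]
    norm_num
  obtain ⟨x⟩ := hne
  have hB : IsBlock K (orbit N x) := IsBlock.orbit_of_normal x
  have hBne : (orbit N x).Nonempty := ⟨x, mem_orbit_self x⟩
  obtain ⟨n, hn⟩ := hNp.card_orbit x
  have hdvd : (orbit N x).ncard ∣ 12 := by
    rw [← hα]
    exact hB.ncard_dvd_card hBne
  have hn' : (orbit N x).ncard = p ^ n := hn
  -- the orbit is not a point
  have hn0 : n ≠ 0 := by
    rintro rfl
    rw [pow_zero] at hn'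
    apply hN1
    rw [Subgroup.eq_bot_iff_forall]
    intro g hg
    apply hF.faithful hα
    intro y
    obtain ⟨k, rfl⟩ := htr x y
    have h1 : k⁻¹ * g * k ∈ N := by
      have := hNn.conj_mem g hg k⁻¹
      rwa [inv_inv] at this
    have h2 : (k⁻¹ * g * k) • x ∈ orbit N x := ⟨⟨_, h1⟩, rfl⟩
    obtain ⟨a, ha⟩ := Set.ncard_eq_one.1 hn'
    have h3 : x ∈ orbit N x := mem_orbit_self x
    rw [ha, Set.mem_singleton_iff] at h2 h3
    have h4 : (k⁻¹ * g * k) • x = x := h2.trans h3.symm
    have h5 : k • ((k⁻¹ * g * k) • x) = k • x := by rw [h4]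
    rw [← mul_smul] at h5
    have h6 : k * (k⁻¹ * g * k) = g * k := by group
    rw [h6, mul_smul] at h5
    exact h5
  refine no_block hα hF hd hB hBne ?_
  rw [hn'] at hdvd ⊢
  have hle : p ^ n ≤ 12 := Nat.le_of_dvd (by norm_num) hdvd
  have hp12 : p ∣ 12 := (dvd_pow_self p hn0).trans hdvd
  have hp23 : p = 2 ∨ p = 3 := by
    have h1 : p ∣ 2 ^ 2 * 3 := by norm_num; exact hp12
    rcases (hp.dvd_mul).1 h1 with h | h
    · left
      exact (Nat.prime_dvd_prime_iff_eq hp Nat.prime_two).1 (hp.dvd_of_dvd_pow h)
    · right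
      exact (Nat.prime_dvd_prime_iff_eq hp Nat.prime_three).1 h
  rcases hp23 with rfl | rfl
  · have hn3 : n < 4 := by
      by_contra h
      push Not at h
      have := Nat.pow_le_pow_right (show 0 < 2 by norm_num) h
      omega
    interval_cases n
    · exact absurd rfl hn0
    · left; norm_num
    · right; right; norm_num
    · norm_num at hdvd
  · have hn3 : n < 3 := by
      by_contra h
      push Not at h
      have := Nat.pow_le_pow_right (show 0 < 3 by norm_num) h
      omega
    interval_cases n
    · exact absurd rfl hn0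
    · right; left; norm_num
    · norm_num at hdvd

end

end Cfsg.Agent.H729.TwelvePts
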