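import Cfsg.Agent.H729.NFTool
import Cfsg.Agent.H729.TwelvePts
import Cfsg.Agent.H149.Sp.Quot
import Cfsg.Agent.H393.Iso.Mathieu
import Cfsg.Agent.CoThreeStd.M12.Out
import Cfsg.Agent.NotCT.Orders

/-!
# `NF` for the Mathieu group `M12` (helper729)

A solvable subgroup of order divisible by 11 has order dividing 55, and there is no solvable subgroup of order divisible
by 864.
-/

set_option autoImplicit false
set_option maxRecDepth 100000

namespace Cfsg.Agent.H729.NFM12

open Cfsg Cfsg.Agent.H176.NF Cfsg.Agent.H729.NFTool Cfsg.Agent.H518.Dghp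
open Cfsg.Agent.H149.Sp Cfsg.Agent.H149.Sp.Eng Cfsg.Agent.H393.Iso
open Cfsg.Agent.CoThreeStd.M12

universe u

/-- no solvable subgroup of `M12` has order divisible by 864 -/
theorem no_864 (K : Subgroup Spor.M12) (hK : Group.IsSolvable K) (hd : 864 ∣ Nat.card K) : False := by
  have hfin : Finite K := Nat.finite_of_card_ne_zero (fun h0 => by
    have : Finite Spor.M12 := Finite.of_equiv _ equiv.symm.toEquiv
    exact Nat.card_pos.ne' h0)
  let f : K →* Equiv.Perm (Fin 12) := (G12.subtype.comp equiv.toMonoidHom).comp K.subtype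
  have hf : Function.Injective f := fun a b h => Subtype.ext (equiv.injective (Subtype.ext h))
  let act : MulAction K (Fin 12) := MulAction.compHom (Fin 12) f
  refine TwelvePts.no_solv (K := K) (α := Fin 12) ?_ ?_ hd
  · rw [Nat.card_eq_fintype_card, Fintype.card_fin]
  · intro k s hs hk
    apply hf
    rw [map_one]
    exact Out.fix_five (equiv (k : Spor.M12)).2 s hs hk

/-- a solvable subgroup of `M12` of order divisible by 11 has order dividing 55 -/
theorem dvd_55 {G : Type u} [Group G] [Finite G] [IsSimpleGroup G] (h : Spor.IsoM12 G) (H : Subgroup G)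
    (hH : Group.IsSolvable H) (hd : 11 ∣ Nat.card H) : Nat.card H ∣ 55 := by
  have hN := NotCT.Orders.m12 h
  have n11 := na_m12 h
  have h11 : Fact (Nat.Prime 11) := ⟨by norm_num⟩
  obtain ⟨v, hv⟩ := exists_prime_orderOf_dvd_card' 11 hd
  have hv' : orderOf (v : G) = 11 := by rw [Subgroup.orderOf_coe, hv]
  obtain ⟨c, k, hC, hcard, hc, hk, hk1, hi, -⟩ := Eng.single (s := 11) (by norm_num) (by rw [hN]; norm_num)
    (by rw [hN]; norm_num) n11 hv'
  have h1 : c * k * (Eng.Nm (v : G)).index = 8640 := by
    have h2 := (Eng.Nm (v : G)).card_mul_index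
    rw [hcard, hN] at h2
    apply Nat.eq_of_mul_eq_mul_left (show 0 < 11 by norm_num)
    rw [← mul_assoc, ← mul_assoc, h2]
  have hk' : k ∈ [2, 5, 10] := Eng.okKs_spec (s := 11) (by decide) (by norm_num) hk hk1
  have h3 := Eng.okPair_spec (L := [(3, 3), (5, 1)]) (a := 6) (ks := [2, 5, 10]) (m := 11) (bad := fun c => c == 1)
    (by simp; norm_num) (by decide +kernel) (by norm_num) (by decide +kernel) hc hk' h1 hi
  have hc1 : c = 1 := by simpa using h3
  subst hc1
  have hk5 : k = 5 := by
    simp only [List.mem_cons, List.not_mem_nil, or_false] at hk'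
    rcases hk' with rfl | rfl | rfl
    · exfalso; omega
    · rfl
    · exfalso; omega
  subst hk5
  have hle : H ≤ Eng.Nm (v : G) := Eng.le_nm_of_solvable (s := 11) (by norm_num) (by rw [hN]; norm_num) hH (by
    intro p i hp hps hi hd
    have hd' : p ^ i ∣ 2 ^ 6 * 3 ^ 3 * 5 * 11 := by
      norm_num
      rw [← hN]
      exact hd.trans (Subgroup.card_subgroup_dvd_card H)
    have hL : Nat.card G = Eng.prodL [(2, 6), (3, 3), (5, 1), (11, 1)] := by
      rw [hN]
      decide +kernel
    by_cases hp2 : p = 2
    · subst hp2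
      have hi6 : i ≤ 6 := by
        by_contra h
        push Not at h
        have h5 : 2 ^ 7 ∣ Nat.card G := (pow_dvd_pow 2 h).trans (hd.trans (Subgroup.card_subgroup_dvd_card H))
        rw [hN] at h5
        norm_num at h5
      interval_cases i <;> norm_num
    · exact Eng.good_of_ok (s := 11) (by simp; norm_num) (by decide) (by decide +kernel) hL p i hp hps hp2 hi
        (hd.trans (Subgroup.card_subgroup_dvd_card H))) v.2 hv'
  have := Subgroup.card_dvd_of_le hle
  rw [hcard] at this
  simpa using this

theorem m12_model [Finite Spor.M12] : NF Spor.M12 := by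
  have hI : Spor.IsoM12 Spor.M12 := ⟨MulEquiv.refl _⟩
  have hN := NotCT.Orders.m12 hI
  have hS : IsSporadicGroup Spor.M12 := by unfold IsSporadicGroup; tauto
  have hs : IsSimpleGroup Spor.M12 := Cfsg.Agent.H14.KnownSimple.sporadic hS
  have ho := outN_dvd_two hS
  have key : ∀ H K : Subgroup Spor.M12, Group.IsSolvable H → Group.IsSolvable K → 11 ∣ Nat.card H →
      Nat.card Spor.M12 ∣ Nat.card H * Nat.card K * outN Spor.M12 → False := by
    intro H K hH hK h11 hd
    refine no_864 K hK ?_
    have h1 : Nat.card H * Nat.card K * outN Spor.M12 ∣ 55 * Nat.card K * 2 :=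
      mul_dvd_mul (mul_dvd_mul_right (dvd_55 hI H hH h11) _) ho
    have h2 := hd.trans h1
    rw [hN] at h2
    refine Nat.dvd_of_mul_dvd_mul_left (by norm_num : 0 < 110) ?_
    have h3 : 110 * Nat.card K = 55 * Nat.card K * 2 := by ring
    rw [h3]
    exact h2
  have h0 : NF0 Spor.M12 := by
    intro H K hH hK h
    rcases dvd_or (r := 11) (by norm_num) (by rw [hN]; norm_num)
      (fun hd => absurd (Nat.le_of_dvd (by norm_num) (hd.trans ho)) (by norm_num)) h with h1 | h1
    · exact key H K hH hK h1 h
    · exact key K H hK hH h1 (by rw [mul_comm (Nat.card K)]; exact h)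
  refine h0.nf ?_
  -- the center is trivial
  have hsep : Sep Spor.M12 3 11 := by
    intro K hK h3 h11
    have h4 := h3.trans (dvd_55 hI K hK h11)
    norm_num at h4
  exact conj_inj hs hsep (by rw [hN]; norm_num) (by rw [hN]; norm_num)

theorem m12 {S : Type u} [Group S] [Finite S] (h : Spor.IsoM12 S) : NF S := by
  obtain ⟨e⟩ := h
  have : Finite Spor.M12 := Finite.of_equiv _ e.toEquiv
  exact NF.congr e.symm m12_model

end Cfsg.Agent.H729.NFM12
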