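import Cfsg.Agent.H729.NFTwo
import Cfsg.Agent.H149.Sp.Monster
import Cfsg.Agent.H456.FourF

/-!
# `NF` for the Monster (helper729)
-/

set_option autoImplicit false
set_option maxRecDepth 100000

namespace Cfsg.Agent.H729.NFMonster

open Cfsg Cfsg.Agent.H176.NF Cfsg.Agent.H729.NFTool Cfsg.Agent.H729.NFTwo Cfsg.Agent.H518.Dghp
open Cfsg.Agent.H728.DghpMat Cfsg.Agent.H149.Sp Cfsg.Agent.H149.Sp.Eng Cfsg.Agent.H163.PG Cfsg.Agent.H393.Iso
open Subgroup

universe u

section

variable {G : Type u} [Group G] [Finite G]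

omit [Finite G] in
theorem orderOf_conj' (g x : G) : orderOf (g * x * g⁻¹) = orderOf x :=
  orderOf_injective (MulAut.conj g).toMonoidHom (MulAut.conj g).injective x

omit [Finite G] in
theorem prime_of_dvd_zpowers {r : ℕ} (hr : r.Prime) {x : G} (hx : orderOf x = r) {t : ℕ} (ht : t.Prime)
    (h : t ∣ Nat.card (zpowers x)) : t = r := by
  rw [Nat.card_zpowers, hx] at h
  exact (Nat.prime_dvd_prime_iff_eq ht hr).1 h

theorem not_adj_of_cent' {r s q : ℕ} (hr : r.Prime) (hs : s.Prime) (hq : q.Prime) (hqs : q ≠ s)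
    (hr2 : ¬ r ^ 2 ∣ Nat.card G) (hs2 : ¬ s ^ 2 ∣ Nat.card G) (nr : NA r G)
    (hg : ∀ i, 0 < i → q ^ i ∣ Nat.card G → ¬ s ∣ q ^ i - 1) (hqs1 : ¬ q ∣ s - 1) {u y : G}
    (hu : orderOf u = r) (huy : u * y = y * u) (hy : orderOf y = q)
    (hc : ¬ s ∣ Nat.card (Cm y)) : ¬ Adj G r s := by
  intro hadj
  obtain ⟨v, hv, huv⟩ := exists_comm_of_adj hr hs hr2 hu hadj
  have hsol : Group.IsSolvable (Cm u) := solvable_cm nr hu
  obtain ⟨L, hL, hLc⟩ := H456.exists_hall (G := Cm u) (fun t => t = q ∨ t = s)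
  have hvo : orderOf (⟨v, mem_cent.2 huv.symm⟩ : Cm u) = s := by rw [orderOf_mk, hv]
  have hyo : orderOf (⟨y, mem_cent.2 huy.symm⟩ : Cm u) = q := by rw [orderOf_mk, hy]
  obtain ⟨a, ha⟩ := hLc (zpowers (⟨v, mem_cent.2 huv.symm⟩ : Cm u)) fun t ht hd =>
    Or.inr (prime_of_dvd_zpowers hs hvo ht hd)
  obtain ⟨b, hb⟩ := hLc (zpowers (⟨y, mem_cent.2 huy.symm⟩ : Cm u)) fun t ht hd =>
    Or.inl (prime_of_dvd_zpowers hq hyo ht hd)
  have ha1 := ha _ (mem_zpowers _)
  have hb1 := hb _ (mem_zpowers _)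
  have e1 := L.equivMapOfInjective (Cm u).subtype (Cm u).subtype_injective
  have hKs : Group.IsSolvable ↥(L.map (Cm u).subtype) :=
    Group.isSolvable_of_isSolvable_injective (f := e1.symm.toMonoidHom) e1.symm.injective
  have hv'K : (a : G) * v * (a : G)⁻¹ ∈ L.map (Cm u).subtype := ⟨_, ha1, rfl⟩
  have hy'K : (b : G) * y * (b : G)⁻¹ ∈ L.map (Cm u).subtype := ⟨_, hb1, rfl⟩
  have hv' : orderOf ((a : G) * v * (a : G)⁻¹) = s := by rw [orderOf_conj', hv]
  have hy' : orderOf ((b : G) * y * (b : G)⁻¹) = q := by rw [orderOf_conj', hy]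
  have h1 : L.map (Cm u).subtype ≤ Nm ((a : G) * v * (a : G)⁻¹) := by
    refine le_nm_of_solvable hs hs2 hKs (fun p i hp hps hi hd => ?_) hv'K hv'
    have hpq : p = q := by
      refine (hL p hp ?_).resolve_right hps
      rw [Nat.card_congr e1.toEquiv]
      exact (dvd_pow_self p hi.ne').trans hd
    subst hpq
    exact hg i hi (hd.trans (card_subgroup_dvd_card _))
  have h2 := mem_cm_of_mem_nm hs hv' (h1 hy'K) (by
    rw [hy']
    exact (Nat.Prime.coprime_iff_not_dvd hq).2 hqs1)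
  apply hc
  have h3 : ((b : G)⁻¹ * ((a : G) * v * (a : G)⁻¹) * b) * y = y * ((b : G)⁻¹ * ((a : G) * v * (a : G)⁻¹) * b) := by
    have h4 := mem_cent.1 h2
    calc ((b : G)⁻¹ * ((a : G) * v * (a : G)⁻¹) * b) * y
        = (b : G)⁻¹ * (((a : G) * v * (a : G)⁻¹) * (b * y * (b : G)⁻¹)) * b := by group
      _ = (b : G)⁻¹ * ((b * y * (b : G)⁻¹) * ((a : G) * v * (a : G)⁻¹)) * b := by rw [h4]
      _ = _ := by group
  have h5 : orderOf ((b : G)⁻¹ * ((a : G) * v * (a : G)⁻¹) * b) = s := by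
    have h6 := orderOf_conj' (b : G)⁻¹ ((a : G) * v * (a : G)⁻¹)
    rw [inv_inv] at h6
    rw [h6, hv']
  have h7 : orderOf (⟨_, mem_cent.2 h3⟩ : Cm y) = s := by rw [orderOf_mk, h5]
  exact h7 ▸ orderOf_dvd_natCard _

/-- `t` with small 2-part, `r`, `s` separated with moderate 2-parts -/
theorem nf0_mix (ho : outN G ∣ 2) {r s t n a b c : ℕ} (hr : r.Prime) (hs : s.Prime) (ht : t.Prime)
    (hr2 : 2 < r) (hs2 : 2 < s) (ht2 : 2 < t) (hrT : r ∣ Nat.card G) (hsT : s ∣ Nat.card G) (htT : t ∣ Nat.card G)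
    (hrs : Sep G r s) (hn : (Nat.card G).factorization 2 = n) (hta : Bd G t 2 a) (hrb : Bd G r 2 b)
    (hsc : Bd G s 2 c) (h1 : a + b + 1 < n) (h2 : a + c + 1 < n) : NF0 G := by
  intro H K hH hK h
  have ho' : ∀ l, 2 < l → ¬ l ∣ outN G := fun l hl hd => absurd (Nat.le_of_dvd (by norm_num) (hd.trans ho)) (by omega)
  have hH0 : Nat.card H ≠ 0 := Nat.card_pos.ne'
  have hK0 : Nat.card K ≠ 0 := Nat.card_pos.ne'
  have hO0 : outN G ≠ 0 := outN_ne_zero
  have h3 := outN_fac_le ho 2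
  have h4 : n ≤ (Nat.card H).factorization 2 + (Nat.card K).factorization 2 + 1 := by
    have := (Nat.factorization_le_iff_dvd Nat.card_pos.ne' (mul_ne_zero (mul_ne_zero hH0 hK0) hO0)).2 h 2
    rw [Nat.factorization_mul (mul_ne_zero hH0 hK0) hO0, Nat.factorization_mul hH0 hK0, Finsupp.add_apply,
      Finsupp.add_apply] at this
    have h5 : (MulAut.conj : G →* MulAut G).range.index.factorization 2 ≤ 1 := h3
    omega
  rcases dvd_or ht htT (ho' t ht2) h with ht' | ht'
  · have h5 := hta _ hH ht'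
    rcases dvd_or hr hrT (ho' r hr2) h with hr' | hr'
    · rcases dvd_or hs hsT (ho' s hs2) h with hs' | hs'
      · exact hrs _ hH hr' hs'
      · have h6 := hsc _ hK hs'
        omega
    · have h6 := hrb _ hK hr'
      omega
  · have h5 := hta _ hK ht'
    rcases dvd_or hr hrT (ho' r hr2) h with hr' | hr'
    · have h6 := hrb _ hH hr'
      omega
    · rcases dvd_or hs hsT (ho' s hs2) h with hs' | hs'
      · have h6 := hsc _ hH hs'
        omega
      · exact hrs _ hK hr' hs'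

end

theorem m {S : Type u} [Group S] [Finite S] (h : Spor.IsoM S) : NF S := by
  have hN := NotCT.Orders.m h
  have hS : IsSporadicGroup S := by unfold IsSporadicGroup; tauto
  have hs := Cfsg.Agent.H14.KnownSimple.sporadic hS
  obtain ⟨u, y, hu, hy, huy, hc⟩ := exists_m_of_iso h
  have n29 := na_m h (p := 29) (Or.inl rfl)
  have n59 := na_m h (p := 59) (Or.inr (Or.inl rfl))
  have n71 := na_m h (p := 71) (Or.inr (Or.inr rfl))
  have hna : ¬ Adj S 29 71 := not_adj_of_cent' (q := 3) (by norm_num) (by norm_num) (by norm_num) (by norm_num)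
    (by rw [hN]; norm_num) (by rw [hN]; norm_num) n29 (by
      rw [hN]
      exact of_okSep_aux (a := 20) (by decide +kernel) (by decide +kernel)) (by norm_num) hu huy hy
    (by rw [hc]; norm_num)
  have hsep : Sep S 29 71 := sep' 1 1 hN (by norm_num) (by norm_num) (by norm_num) (by decide +kernel) hna
  have hf : (Nat.card S).factorization 2 = 46 := by
    rw [hN]; exact fac_eq Nat.prime_two (by norm_num) (by norm_num) (by norm_num)
  have hb : ∀ (t a : ℕ), t.Prime → 2 < t → NA t S → ¬ t ^ 2 ∣ Nat.card S →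
      ((List.range (46 + 1)).all fun u => ((2 ^ u - 1) % t != 0) || (decide (u ≤ a))) = true →
      Bd S t 2 (a + (t - 1).factorization 2) := fun t a ht ht2 hna ht3 h =>
    bd_nonAdj 46 a ht Nat.prime_two (by omega) (nonAdj_two hna) ht3 hf.le (le_of_all h)
  have hfl : ∀ t c : ℕ, t - 1 ≠ 0 → ¬ 2 ^ (c + 1) ∣ t - 1 → (t - 1).factorization 2 ≤ c := by
    intro t c h0 h5
    rw [Nat.prime_two.pow_dvd_iff_le_factorization h0] at h5
    omega
  have b29 : Bd S 29 2 30 := (hb 29 28 (by norm_num) (by norm_num) n29 (by rw [hN]; norm_num)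
    (by decide +kernel)).mono (by have := hfl 29 2 (by norm_num) (by norm_num); omega)
  have b59 : Bd S 59 2 1 := (hb 59 0 (by norm_num) (by norm_num) n59 (by rw [hN]; norm_num)
    (by decide +kernel)).mono (by have := hfl 59 1 (by norm_num) (by norm_num); omega)
  have b71 : Bd S 71 2 36 := (hb 71 35 (by norm_num) (by norm_num) n71 (by rw [hN]; norm_num)
    (by decide +kernel)).mono (by have := hfl 71 1 (by norm_num) (by norm_num); omega)
  have h0 : NF0 S := nf0_mix (outN_dvd_two hS) (r := 29) (s := 71) (t := 59) (n := 46) (by norm_num) (by norm_num)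
    (by norm_num) (by norm_num) (by norm_num) (by norm_num) (by rw [hN]; norm_num) (by rw [hN]; norm_num)
    (by rw [hN]; norm_num) hsep hf b59 b29 b71 (by norm_num) (by norm_num)
  exact h0.nf (conj_inj hs hsep (by rw [hN]; norm_num) (by rw [hN]; norm_num))

end Cfsg.Agent.H729.NFMonster
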