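import Cfsg.Agent.H729.NFTwo
import Cfsg.Agent.H149.Sp.Th

/-!
# `NF` for the Thompson group (helper729)

An element of order 31 does not normalize a Sylow 2-subgroup, since the center of a Sylow 2-subgroup has order 2.
-/

set_option autoImplicit false
set_option maxRecDepth 100000

namespace Cfsg.Agent.H729.NFTh

open Cfsg Cfsg.Agent.H176.NF Cfsg.Agent.H729.NFTool Cfsg.Agent.H729.NFTwo Cfsg.Agent.H518.Dghp
open Cfsg.Agent.H728.DghpMat Cfsg.Agent.H149.Sp Cfsg.Agent.H163.PG Cfsg.Agent.H393.Iso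
open Subgroup

universe u

section

variable {G : Type u} [Group G]

/-- the center of a Sylow 2-subgroup of a group with an involution centralizer of extraspecial type -/
theorem center_syl {z : G} {Q : Subgroup (centralizer ({z} : Set G))} (hQn : Q.Normal) (hQ2 : IsPGroup 2 Q)
    (hQc : centralizer (Q : Set (centralizer ({z} : Set G))) ≤ Q) (hZ : Nat.card (center Q) = 2) {T : Subgroup G}
    (hT : IsPGroup 2 T) (hTc : ∀ P : Subgroup G, IsPGroup 2 P → T ≤ P → P = T) (hz2 : z ≠ 1)
    (hzT : ∀ t ∈ T, t * z = z * t) {w : G} (hwT : w ∈ T) (hw : ∀ t ∈ T, t * w = w * t) : w = 1 ∨ w = z := by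
  have hTC : T ≤ centralizer ({z} : Set G) := fun t ht => mem_centralizer_singleton_iff.2 (hzT t ht)
  have h1 : (Q ⊔ T.subgroupOf (centralizer ({z} : Set G))).map (centralizer ({z} : Set G)).subtype = T := by
    apply hTc
    · have h2 : IsPGroup 2 ↥(Q ⊔ T.subgroupOf (centralizer ({z} : Set G))) :=
        IsPGroup.to_sup_of_normal_left hQ2 (hT.comap_of_injective _ (Subtype.val_injective))
      exact h2.map _
    · intro t ht
      exact ⟨⟨t, hTC ht⟩, Subgroup.mem_sup_right (by rwa [mem_subgroupOf]), rfl⟩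
  have hQT : ∀ q : centralizer ({z} : Set G), q ∈ Q → (q : G) ∈ T := fun q hq => by
    rw [← h1]
    exact ⟨q, Subgroup.mem_sup_left hq, rfl⟩
  have key : ∀ v : G, (∀ t ∈ T, t * v = v * t) → (hv : v * z = z * v) →
      ∃ h : (⟨v, mem_centralizer_singleton_iff.2 hv⟩ : centralizer ({z} : Set G)) ∈ Q,
        (⟨⟨v, mem_centralizer_singleton_iff.2 hv⟩, h⟩ : Q) ∈ center Q := by
    intro v hvT hv
    have h2 : (⟨v, mem_centralizer_singleton_iff.2 hv⟩ : centralizer ({z} : Set G)) ∈ Q := by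
      apply hQc
      rw [mem_centralizer_iff]
      intro q hq
      exact Subtype.ext (hvT _ (hQT q hq))
    refine ⟨h2, ?_⟩
    rw [mem_center_iff]
    intro q
    exact Subtype.ext (Subtype.ext (hvT _ (hQT q q.2)))
  obtain ⟨hw1, hw2⟩ := key w hw (hzT w hwT)
  obtain ⟨hz1, hz3⟩ := key z hzT rfl
  obtain ⟨a, b, hab, huniv⟩ := Nat.card_eq_two_iff.1 hZ
  have hne : (1 : center Q) ≠ ⟨_, hz3⟩ := by
    intro h
    apply hz2
    exact (congrArg (fun c : center Q => ((c : Q) : centralizer ({z} : Set G)).1) h).symm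
  have hall : ∀ c : center Q, c = a ∨ c = b := fun c => by
    have : c ∈ ({a, b} : Set (center Q)) := by rw [huniv]; trivial
    simpa using this
  have h3 : (⟨_, hw2⟩ : center Q) = 1 ∨ (⟨_, hw2⟩ : center Q) = ⟨_, hz3⟩ := by
    rcases hall 1 with h | h <;> rcases hall ⟨_, hz3⟩ with h' | h' <;> rcases hall ⟨_, hw2⟩ with h'' | h'' <;>
      rw [h''] <;> first
        | exact absurd (h.trans h'.symm) hne
        | (left; exact h.symm)
        | (right; exact h'.symm)
  rcases h3 with h | h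
  · left
    exact congrArg (fun c : center Q => ((c : Q) : centralizer ({z} : Set G)).1) h
  · right
    exact congrArg (fun c : center Q => ((c : Q) : centralizer ({z} : Set G)).1) h

/-- an element which normalizes a Sylow 2-subgroup centralizes the central involution -/
theorem comm_of_norm {z : G} {Q : Subgroup (centralizer ({z} : Set G))} (hQn : Q.Normal) (hQ2 : IsPGroup 2 Q)
    (hQc : centralizer (Q : Set (centralizer ({z} : Set G))) ≤ Q) (hZ : Nat.card (center Q) = 2) {T : Subgroup G}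
    (hT : IsPGroup 2 T) (hTc : ∀ P : Subgroup G, IsPGroup 2 P → T ≤ P → P = T) (hz2 : z ≠ 1)
    (hzT : ∀ t ∈ T, t * z = z * t) (hzT' : z ∈ T) {x : G} (hx : x ∈ normalizer (T : Set G)) : x * z = z * x := by
  have h1 : x * z * x⁻¹ ∈ T := (mem_normalizer_iff.1 hx z).1 hzT'
  rcases center_syl hQn hQ2 hQc hZ hT hTc hz2 hzT h1 (fun t ht => by
    have h2 : x⁻¹ * t * x ∈ T := by
      have h3 := (mem_normalizer_iff.1 ((normalizer (T : Set G)).inv_mem hx) t).1 ht
      rwa [inv_inv] at h3
    calc t * (x * z * x⁻¹) = x * ((x⁻¹ * t * x) * z) * x⁻¹ := by group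
      _ = x * (z * (x⁻¹ * t * x)) * x⁻¹ := by rw [hzT _ h2]
      _ = x * z * x⁻¹ * t := by group) with h | h
  · exfalso
    apply hz2
    calc z = x⁻¹ * (x * z * x⁻¹) * x := by group
      _ = 1 := by rw [h]; group
  · calc x * z = x * z * x⁻¹ * x := by group
      _ = z * x := by rw [h]

variable [Finite G]

/-- general form of `bd_nonAdj` -/
theorem bd_nonAdj' {r p : ℕ} (n a : ℕ) (hr : r.Prime) (hp : p.Prime) (hrp : r ≠ p) (hna : NonAdj G r p)
    (hr2 : ¬ r ^ 2 ∣ Nat.card G) (hn : (Nat.card G).factorization p ≤ n)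
    (h : ∀ u, u ≤ n → r ∣ p ^ u - 1 → ∀ (x : G) (U : Subgroup G), orderOf x = r → IsPGroup p U →
      x ∈ normalizer (U : Set G) → Nat.card U = p ^ u → u ≤ a) : Bd G r p (a + (r - 1).factorization p) := by
  have : Fact r.Prime := ⟨hr⟩
  refine bdAbs G r p (r - 1) a hr hp hrp (by have := hr.two_le; omega) ?_ ?_ ?_
  · intro R hR
    obtain ⟨k, hk⟩ := IsPGroup.iff_card.1 hR
    have hk1 : k < 2 := by
      by_contra h1
      push Not at h1
      exact hr2 ((pow_dvd_pow r h1).trans (hk ▸ Subgroup.card_subgroup_dvd_card R))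
    have hk2 : k = 0 ∨ k = 1 := by omega
    rcases hk2 with rfl | rfl
    · rw [pow_zero] at hk
      rw [Subgroup.eq_bot_of_card_eq R hk]
      infer_instance
    · rw [pow_one] at hk
      exact isCyclic_of_prime_card hk
  · intro x y hx k j hy hxy
    apply ZMod.orderOf_dvd_card_sub_one
    intro h0
    rw [ZMod.natCast_eq_zero_iff] at h0
    have h1 : y * x * y⁻¹ = 1 := by
      rw [hxy, ← orderOf_dvd_iff_pow_eq_one, hx]
      exact h0
    have h2 : x = 1 := by
      have h3 : x = y⁻¹ * (y * x * y⁻¹) * y := by group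
      rw [h3, h1]
      group
    rw [h2, orderOf_one] at hx
    exact hr.one_lt.ne hx
  · intro x hx U hU hxU
    obtain ⟨k, hk⟩ := (@IsPGroup.iff_card p U _ ⟨hp⟩ _).1 hU
    rw [hk, hp.factorization_pow, Finsupp.single_eq_same]
    have h1 := modEq_one hr hp hna hx hU hxU
    rw [hk] at h1
    have h2 : r ∣ p ^ k - 1 := (Nat.modEq_iff_dvd' (Nat.one_le_pow _ _ hp.pos)).1 h1.symm
    refine h k ?_ h2 x U hx hU hxU hk
    refine le_trans ?_ hn
    rw [← hp.pow_dvd_iff_le_factorization Nat.card_pos.ne', ← hk]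
    exact Subgroup.card_subgroup_dvd_card U

/-- an element of odd order `r` not adjacent to 2 does not normalize a Sylow 2-subgroup -/
theorem no_norm {z : G} {Q : Subgroup (centralizer ({z} : Set G))} (hQn : Q.Normal) (hQ2 : IsPGroup 2 Q)
    (hQc : centralizer (Q : Set (centralizer ({z} : Set G))) ≤ Q) (hZ : Nat.card (center Q) = 2)
    (hzo : orderOf z = 2) (hone : ∀ t : G, orderOf t = 2 → IsConj z t) {r : ℕ} (hna : NA r G) {n : ℕ} (hn0 : n ≠ 0)
    (hn : ¬ 2 ^ (n + 1) ∣ Nat.card G) {x : G} (hx : orderOf x = r) {U : Subgroup G} (hU : IsPGroup 2 U)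
    (hUn : Nat.card U = 2 ^ n) (hxU : x ∈ normalizer (U : Set G)) : False := by
  have hf : Fact (Nat.Prime 2) := ⟨Nat.prime_two⟩
  have hz2 : z ≠ 1 := by
    rintro rfl
    rw [orderOf_one] at hzo
    norm_num at hzo
  -- a central involution
  have hnt : Nontrivial U := by
    rw [← Finite.one_lt_card_iff_nontrivial, hUn]
    exact Nat.one_lt_two_pow hn0
  have hcen := hU.center_nontrivial
  have h2 : 2 ∣ Nat.card (center U) := by
    have h3 : IsPGroup 2 (center U) := hU.to_subgroup _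
    obtain ⟨k, hk⟩ := IsPGroup.iff_card.1 h3
    have h4 : 1 < Nat.card (center U) := Finite.one_lt_card_iff_nontrivial.2 hcen
    rw [hk] at h4 ⊢
    refine dvd_pow_self 2 ?_
    rintro rfl
    simp at h4
  obtain ⟨c, hc⟩ := exists_prime_orderOf_dvd_card' 2 h2
  have hc2 : orderOf ((c : U) : G) = 2 := by rw [Subgroup.orderOf_coe, Subgroup.orderOf_coe, hc]
  obtain ⟨g, hg⟩ := isConj_iff.1 (hone _ hc2)
  -- the conjugate
  have hTm : ∀ t : G, t ∈ U.map (MulAut.conj g⁻¹).toMonoidHom ↔ g * t * g⁻¹ ∈ U := by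
    intro t
    rw [mem_map_equiv, MulAut.conj_symm_apply, inv_inv]
  have hTcard : Nat.card ↥(U.map (MulAut.conj g⁻¹).toMonoidHom) = 2 ^ n := by
    rw [card_map_of_injective (MulAut.conj g⁻¹).injective, hUn]
  have hT2 : IsPGroup 2 ↥(U.map (MulAut.conj g⁻¹).toMonoidHom) := hU.map _
  have hzg : g * z * g⁻¹ = ((c : U) : G) := hg
  have hcomm : ∀ t ∈ U.map (MulAut.conj g⁻¹).toMonoidHom, t * z = z * t := by
    intro t ht
    have h5 := (hTm t).1 ht
    have h6 := congrArg Subtype.val (mem_center_iff.1 c.2 ⟨_, h5⟩)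
    have h7 : g * t * g⁻¹ * (g * z * g⁻¹) = (g * z * g⁻¹) * (g * t * g⁻¹) := by
      rw [hzg]; exact h6
    calc t * z = g⁻¹ * (g * t * g⁻¹ * (g * z * g⁻¹)) * g := by group
      _ = g⁻¹ * ((g * z * g⁻¹) * (g * t * g⁻¹)) * g := by rw [h7]
      _ = z * t := by group
  have hmax : ∀ P : Subgroup G, IsPGroup 2 P → U.map (MulAut.conj g⁻¹).toMonoidHom ≤ P →
      P = U.map (MulAut.conj g⁻¹).toMonoidHom := by
    intro P hP hle
    refine (Subgroup.eq_of_le_of_card_ge hle ?_).symm
    obtain ⟨k, hk⟩ := IsPGroup.iff_card.1 hP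
    rw [hk, hTcard]
    apply Nat.pow_le_pow_right (by norm_num)
    by_contra hlt
    push Not at hlt
    exact hn ((pow_dvd_pow 2 hlt).trans (hk ▸ card_subgroup_dvd_card P))
  have hxT : g⁻¹ * x * g ∈ normalizer ((U.map (MulAut.conj g⁻¹).toMonoidHom : Subgroup G) : Set G) := by
    rw [mem_normalizer_iff]
    intro t
    rw [hTm, hTm, mem_normalizer_iff.1 hxU]
    have : x * (g * t * g⁻¹) * x⁻¹ = g * (g⁻¹ * x * g * t * (g⁻¹ * x * g)⁻¹) * g⁻¹ := by group
    rw [this]
  have h8 := comm_of_norm hQn hQ2 hQc hZ hT2 hmax hz2 hcomm ((hTm z).2 (by rw [hzg]; exact (c : U).2)) hxT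
  refine hna (g⁻¹ * x * g) z ?_ hzo h8
  rw [← hx]
  have h9 := orderOf_injective (MulAut.conj g⁻¹).toMonoidHom (MulAut.conj g⁻¹).injective x
  simpa using h9

end

theorem th_model [Finite Spor.Th] : NF Spor.Th := by
  have hI : Spor.IsoTh Spor.Th := ⟨MulEquiv.refl _⟩
  have hN := NotCT.Orders.th hI
  have hS : IsSporadicGroup Spor.Th := by unfold IsSporadicGroup; tauto
  have hs : IsSimpleGroup Spor.Th := Cfsg.Agent.H14.KnownSimple.sporadic hS
  have n31 : NA 31 Spor.Th := na_th_all (by norm_num)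
  have n19 : NA 19 Spor.Th := na_th_all (by norm_num)
  have hf : (Nat.card Spor.Th).factorization 2 = 15 := by
    rw [hN]; exact fac_eq Nat.prime_two (by norm_num) (by norm_num) (by norm_num)
  have hfl : ∀ t c : ℕ, t - 1 ≠ 0 → ¬ 2 ^ (c + 1) ∣ t - 1 → (t - 1).factorization 2 ≤ c := by
    intro t c h0 h5
    rw [Nat.prime_two.pow_dvd_iff_le_factorization h0] at h5
    omega
  obtain ⟨Q, hQn, hQ9, hQe, hQc, -⟩ := MonsterX.ThOneClass.struct
  have hQ2 : IsPGroup 2 Q := IsPGroup.of_card hQ9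
  have b31 : Bd Spor.Th 31 2 11 := (bd_nonAdj' 15 10 (by norm_num) Nat.prime_two (by norm_num) (nonAdj_two n31)
    (by rw [hN]; norm_num) hf.le (fun u hu hd x U hx hU hxU hc => by
      have h1 : u ≤ 10 ∨ u = 15 := by
        interval_cases u <;> first | (left; norm_num; done) | (right; rfl) | (exfalso; norm_num at hd)
      rcases h1 with h1 | h1
      · exact h1
      · subst h1
        exact (no_norm hQn hQ2 hQc hQe.2 MonsterX.ThOneClass.orderOf_a
          (fun t ht => MonsterX.ThOneClass.oneClass _ _ MonsterX.ThOneClass.orderOf_a ht) n31 (n := 15) (by norm_num)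
          (by rw [hN]; norm_num) hx hU hc hxU).elim)).mono
      (by have := hfl 31 1 (by norm_num) (by norm_num); omega)
  have b19 : Bd Spor.Th 19 2 1 := (bd_nonAdj 15 0 (by norm_num) Nat.prime_two (by norm_num) (nonAdj_two n19)
    (by rw [hN]; norm_num) hf.le (le_of_all (by decide +kernel))).mono
      (by have := hfl 19 1 (by norm_num) (by norm_num); omega)
  exact nf2 hs (outN_dvd_two hS) (r := 31) (s := 19) (p := 2) (by norm_num) (by norm_num) (by norm_num) (by norm_num)
    (by rw [hN]; norm_num) (by rw [hN]; norm_num)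
    (sep' 1 1 hN (by norm_num) (by norm_num) (by norm_num) (by decide +kernel) not_adj_th) b31 b19 (by
      have := outN_fac_le (outN_dvd_two hS) 2
      rw [hf]
      omega)

theorem th {S : Type u} [Group S] [Finite S] (h : Spor.IsoTh S) : NF S := by
  obtain ⟨e⟩ := h
  have : Finite Spor.Th := Finite.of_equiv _ e.toEquiv
  exact NF.congr e.symm th_model

end Cfsg.Agent.H729.NFTh
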