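import Mathlib

/-!
# 2-elements commuting with a cycle of odd length

* `fix_of_commute`: a permutation of 2-power order commuting with a cycle of odd length fixes its support;
* `sq_of_support`: an even permutation of 2-power order with at most 4 moved points is an involution or trivial.
-/

set_option autoImplicit false

namespace Cfsg.Agent.H729.PermTwo

open Equiv Equiv.Perm

variable {α : Type*}

theorem fix_of_commute [Finite α] {σ τ : Perm α} (hcyc : τ.IsCycle) (hodd : Odd (orderOf τ)) {k : ℕ} (hσ : σ ^ 2 ^ k = 1)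
    (hc : σ * τ = τ * σ) : ∀ b, τ b ≠ b → σ b = b := by
  obtain ⟨a, ha⟩ : ∃ a, τ a ≠ a := hcyc.imp fun a h => h.1
  have hcomm : Commute σ τ := hc
  have h1 : τ (σ a) ≠ σ a := by
    intro h
    apply ha
    have h2 : τ (σ a) = σ (τ a) := by
      have := congrArg (fun f : Perm α => f a) hc
      exact this.symm
    rw [h2] at h
    exact σ.injective h
  obtain ⟨i, hi⟩ := hcyc.exists_pow_eq ha h1
  have h3 : ∀ b, τ b ≠ b → σ b = (τ ^ i) b := by
    intro b hb
    obtain ⟨j, rfl⟩ := hcyc.exists_pow_eq ha hb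
    have h4 : σ ((τ ^ j) a) = (τ ^ j) (σ a) := by
      have := congrArg (fun f : Perm α => f a) (hcomm.pow_right j).eq
      exact this
    rw [h4, ← hi, ← Equiv.Perm.mul_apply, ← Equiv.Perm.mul_apply, ← pow_add, ← pow_add, add_comm]
  have h5 : ∀ n : ℕ, (σ ^ n) a = (τ ^ (i * n)) a := by
    intro n
    induction n with
    | zero => simp
    | succ n ih =>
      rw [pow_succ', Equiv.Perm.mul_apply, ih]
      have h6 : τ ((τ ^ (i * n)) a) ≠ (τ ^ (i * n)) a := by
        intro h
        apply ha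
        rw [← Equiv.Perm.mul_apply, ← pow_succ', pow_succ, Equiv.Perm.mul_apply] at h
        exact (τ ^ (i * n)).injective h
      rw [h3 _ h6, ← Equiv.Perm.mul_apply, ← pow_add]
      congr 2
      ring
  have h6 : (τ ^ (i * 2 ^ k)) a = a := by rw [← h5, hσ]; rfl
  have h7 : τ ^ (i * 2 ^ k) = 1 := (hcyc.pow_eq_one_iff' ha).2 h6
  have h8 : orderOf τ ∣ i * 2 ^ k := orderOf_dvd_of_pow_eq_one h7
  have h9 : orderOf τ ∣ i := by
    refine Nat.Coprime.dvd_of_dvd_mul_right ?_ h8
    exact (Nat.coprime_pow_right_iff_of_odd hodd) k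
  have h10 : τ ^ i = 1 := orderOf_dvd_iff_pow_eq_one.1 h9
  intro b hb
  rw [h3 b hb, h10]
  rfl
where
  Nat.coprime_pow_right_iff_of_odd {n : ℕ} (h : Odd n) (k : ℕ) : Nat.Coprime n (2 ^ k) := by
    exact Nat.Coprime.pow_right k (Nat.coprime_two_right.2 h)

theorem sq_of_support [Fintype α] [DecidableEq α] {σ : Perm α} (hs : σ.support.card ≤ 4) {k : ℕ} (hσ : σ ^ 2 ^ k = 1) (he : sign σ = 1) :
    σ * σ = 1 := by
  have hsum := σ.sum_cycleType
  have hmem : ∀ n ∈ σ.cycleType, n = 2 ∨ n = 4 := by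
    intro n hn
    have h1 : n ∣ 2 ^ k := (dvd_of_mem_cycleType hn).trans (orderOf_dvd_of_pow_eq_one hσ)
    obtain ⟨j, -, rfl⟩ := (Nat.dvd_prime_pow Nat.prime_two).1 h1
    have h2 := two_le_of_mem_cycleType hn
    have h3 : 2 ^ j ≤ 4 := (Multiset.le_sum_of_mem hn).trans (hsum ▸ hs)
    have hj : j ≤ 2 := by
      by_contra hj
      have : 2 ^ 3 ≤ 2 ^ j := Nat.pow_le_pow_right (by norm_num) (by omega)
      omega
    interval_cases j <;> simp_all
  rcases hcard : Multiset.card σ.cycleType with _ | _ | m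
  · rw [Multiset.card_eq_zero, cycleType_eq_zero] at hcard
    rw [hcard, one_mul]
  · exfalso
    obtain ⟨n, hn⟩ := Multiset.card_eq_one.1 hcard
    have h1 := σ.sign_of_cycleType
    rw [he, hn] at h1
    rcases hmem n (by rw [hn]; exact Multiset.mem_singleton_self n) with rfl | rfl
    · revert h1; decide
    · revert h1; decide
  · -- at least two cycles
    have h2 : ∀ n ∈ σ.cycleType, n = 2 := by
      intro n hn
      rcases hmem n hn with h | h
      · exact h
      · exfalso
        obtain ⟨t, ht⟩ := Multiset.exists_cons_of_mem hn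
        rw [ht, Multiset.card_cons] at hcard
        obtain ⟨n', hn'⟩ : ∃ n', n' ∈ t := Multiset.card_pos_iff_exists_mem.1 (by omega)
        have h3 : 2 ≤ n' := two_le_of_mem_cycleType (σ := σ) (by rw [ht]; exact Multiset.mem_cons_of_mem hn')
        have h4 : n' ≤ t.sum := Multiset.le_sum_of_mem hn'
        rw [ht, Multiset.sum_cons] at hsum
        omega
    have h3 : orderOf σ ∣ 2 := by
      rw [← lcm_cycleType, Multiset.lcm_dvd]
      intro n hn
      rw [h2 n hn]
    rw [← pow_two]
    exact orderOf_dvd_iff_pow_eq_one.1 h3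

end Cfsg.Agent.H729.PermTwo
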