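import Cfsg.Agent.H729.PairBase
import Cfsg.Agent.H729.PermTwo
import Cfsg.Agent.TypeM.FactsMcL
import Cfsg.Agent.TypeM.FactsLy

/-!
# The coprime pairs in `McL` and `Ly`

`C(t) = 2.A_n`, `n = 8, 11`, one class of involutions: `x` of order `p = 5, 7`, a `p`-cycle, is normalized by an element
`y` of order 8; no element of order `p` commutes with an element of order 8.
-/

set_option autoImplicit false

namespace Cfsg.Agent.H729.PairMT

open Subgroup Equiv
open Cfsg.Agent.H729.PairBase Cfsg.Agent.TypeM.Two Cfsg.Agent.SporRec.TwoAn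

variable {G : Type*} [Group G]

theorem no_comm [Finite G] {n p : ℕ} (hp : p.Prime) (hp2 : p ≠ 2) (hn : n < 2 * p) (hn4 : n ≤ p + 4) (L : MT n G)
    {g y : G} (hg : orderOf g = p) (hy : orderOf y = 8) : ¬ Commute g y := by
  intro hc
  have hy8 : y ^ 8 = 1 := by rw [← hy, pow_orderOf_eq_one]
  have hy4 : y ^ 4 ≠ 1 := fun h => by
    have := orderOf_dvd_of_pow_eq_one h
    rw [hy] at this
    norm_num at this
  have hs : y ^ 4 * y ^ 4 = 1 := by rw [← pow_add, hy8]
  obtain ⟨L', hL'⟩ := L.exists_rebase hs hy4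
  have hyc : y ∈ centralizer ({L'.t} : Set G) := by
    rw [L'.mem_iff, hL']
    exact ((Commute.refl y).pow_right 4).eq
  have hgc : g ∈ centralizer ({L'.t} : Set G) := by
    rw [L'.mem_iff, hL']
    exact (hc.pow_right 4).eq
  set K := L'.K with hK
  set C := centralizer ({L'.t} : Set G) with hC
  let yc : C := ⟨y, hyc⟩
  let gc : C := ⟨g, hgc⟩
  have hgo : orderOf gc = p := by rw [← hg]; exact Subgroup.orderOf_mk _ _
  have hπg : orderOf (K.π gc) = p := by
    have h1 : orderOf (K.π gc) ∣ p := hgo ▸ orderOf_map_dvd K.π gc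
    rcases (Nat.dvd_prime hp).1 h1 with h2 | h2
    · exfalso
      have h3 := (K.ker gc).1 (orderOf_eq_one_iff.1 h2)
      have h4 : gc ^ 2 = 1 := by
        rcases h3 with h3 | h3
        · rw [h3, one_pow]
        · rw [h3, K.z_pow_two]
      have h5 := orderOf_dvd_of_pow_eq_one h4
      rw [hgo] at h5
      exact hp2 ((Nat.prime_dvd_prime_iff_eq hp Nat.prime_two).1 h5)
    · exact h2
  have hct : (K.π gc).cycleType = {p} := by
    obtain ⟨k, hk⟩ := Equiv.Perm.cycleType_prime_order (σ := K.π gc) (by rw [hπg]; exact hp)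
    rw [hπg] at hk
    have h1 := (K.π gc).sum_cycleType
    rw [hk, Multiset.sum_replicate, smul_eq_mul] at h1
    have h2 : (k + 1) * p ≤ n := by
      rw [h1]
      exact (Finset.card_le_univ _).trans (by rw [Fintype.card_fin])
    have hk0 : k = 0 := by
      by_contra hk0
      have : 2 * p ≤ (k + 1) * p := Nat.mul_le_mul_right p (by omega)
      omega
    rw [hk, hk0]
    rfl
  have hcyc : (K.π gc).IsCycle := by
    rw [← Equiv.Perm.card_cycleType_eq_one, hct]; rfl
  have hsup : (K.π gc).support.card = p := by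
    rw [← Equiv.Perm.sum_cycleType, hct]; simp
  have hyc8 : yc ^ 8 = 1 := Subtype.ext hy8
  have hy2 : K.π yc ^ 2 ^ 3 = 1 := by
    rw [← map_pow, show (2 : ℕ) ^ 3 = 8 from rfl, hyc8, map_one]
  have hcc : K.π yc * K.π gc = K.π gc * K.π yc := by
    rw [← map_mul, ← map_mul]
    exact congrArg K.π (Subtype.ext hc.eq.symm)
  have hfix := PermTwo.fix_of_commute hcyc (by rw [hπg]; exact hp.odd_of_ne_two hp2) hy2 hcc
  have hsq : K.π yc * K.π yc = 1 := by
    refine PermTwo.sq_of_support ?_ hy2 (Perm.mem_alternatingGroup.1 (K.mem_alternating yc))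
    have h1 : (K.π yc).support ⊆ (K.π gc).supportᶜ := by
      intro b hb
      rw [Finset.mem_compl, Perm.mem_support, not_not]
      by_contra hne
      exact (Perm.mem_support.1 hb) (hfix b hne)
    refine (Finset.card_le_card h1).trans ?_
    rw [Finset.card_compl, hsup, Fintype.card_fin]
    omega
  rw [← map_mul] at hsq
  have h6 : (yc * yc) * (yc * yc) = 1 := by
    rcases (K.ker _).1 hsq with h | h
    · rw [h, one_mul]
    · rw [h, K.z_mul_z]
  apply hy4
  have h7 := congrArg Subtype.val h6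
  rw [show y ^ 4 = (y * y) * (y * y) by simp only [pow_succ, pow_zero, one_mul, mul_assoc]]
  exact h7

theorem pairN_mt [Finite G] {n p k : ℕ} (hp : p.Prime) (hp2 : p ≠ 2) (hn : n < 2 * p) (hn4 : n ≤ p + 4) (L : MT n G)
    {σ τ : Perm (Fin n)} (hσ : σ ^ p = 1) (hσ1 : σ ≠ 1) (hτ : Perm.sign τ = 1)
    (hστ : τ * σ * τ⁻¹ = σ ^ k) {a b c d : Fin n} (hab : a ≠ b) (hac : a ≠ c) (had : a ≠ d) (hbc : b ≠ c) (hbd : b ≠ d)
    (hcd : c ≠ d) (hττ : τ * τ = swap a b * swap c d) : PairN G := by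
  have hodd : Odd p := hp.odd_of_ne_two hp2
  have hσe : σ ∈ alternatingGroup (Fin n) := by
    rw [Perm.mem_alternatingGroup]
    have h1 : Perm.sign σ ^ p = 1 := by rw [← map_pow, hσ, map_one]
    rcases Int.units_eq_one_or (Perm.sign σ) with h | h
    · exact h
    · rw [h, hodd.neg_one_pow] at h1
      exact absurd h1 (by decide)
  obtain ⟨x, hx, hxp⟩ := L.K.exists_odd_lift hσe hodd hσ
  obtain ⟨y, hy⟩ := L.K.exists_lift (Perm.mem_alternatingGroup.2 hτ)
  have hz : (y * y) * (y * y) = L.K.z :=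
    L.K.dbl a b c d hab hac had hbc hbd hcd (y * y) (by rw [map_mul, hy, hττ])
  have hzG : ((y : G) * y) * (y * y) = L.t := (congrArg Subtype.val hz).trans L.hz
  have hy4 : (y : G) ^ 4 = L.t := by
    refine Eq.trans ?_ hzG
    simp only [pow_succ, pow_zero, one_mul, mul_assoc]
  have hyo : orderOf (y : G) = 8 := by
    have : Fact (Nat.Prime 2) := ⟨Nat.prime_two⟩
    have h1 : (y : G) ^ 2 ^ 3 = 1 := by
      rw [show (2 : ℕ) ^ 3 = 4 * 2 from rfl, pow_mul, hy4, pow_two, L.t_mul_t]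
    have h2 : ¬ (y : G) ^ 2 ^ 2 = 1 := by
      rw [show (2 : ℕ) ^ 2 = 4 from rfl, hy4]
      exact L.t_ne
    exact orderOf_eq_prime_pow h2 h1
  have hxo : orderOf (x : G) = p := by
    have : Fact p.Prime := ⟨hp⟩
    refine orderOf_eq_prime ?_ ?_
    · rw [← Subgroup.coe_pow, hxp, Subgroup.coe_one]
    · intro h
      apply hσ1
      rw [← hx, show x = 1 from Subtype.ext h, map_one]
  have hxy : (y : G) * x * (y : G)⁻¹ = (x : G) ^ k := by
    have h1 : y * x * y⁻¹ = x ^ k := by
      refine L.K.odd_lift_unique hodd ?_ ?_ ?_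
      · rw [conj_pow, hxp, mul_one, mul_inv_cancel]
      · rw [← pow_mul, mul_comm, pow_mul, hxp, one_pow]
      · rw [map_mul, map_mul, map_inv, map_pow, hx, hy, hστ]
    have h2 := congrArg Subtype.val h1
    exact h2
  refine PairN.of_cent hp hp2 hxo ?_ ⟨3, hyo⟩ (mem_normalizer_of_conj_pow hxy) ?_
  · intro h
    rw [h, orderOf_one] at hyo
    norm_num at hyo
  · intro g hg hc
    exact no_comm hp hp2 hn hn4 L hg hyo hc

/-- the 5-cycle -/
def s8 : Perm (Fin 8) := ⟨![1, 2, 3, 4, 0, 5, 6, 7], ![4, 0, 1, 2, 3, 5, 6, 7], by decide, by decide⟩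

/-- `i ↦ 2 i` on the 5-cycle, and a transposition -/
def t8 : Perm (Fin 8) := ⟨![0, 2, 4, 1, 3, 6, 5, 7], ![0, 3, 1, 4, 2, 6, 5, 7], by decide, by decide⟩

/-- the 7-cycle -/
def s11 : Perm (Fin 11) := ⟨![1, 2, 3, 4, 5, 6, 0, 7, 8, 9, 10], ![6, 0, 1, 2, 3, 4, 5, 7, 8, 9, 10], by decide, by decide⟩

/-- `i ↦ - i` on the 7-cycle, and a 4-cycle -/
def t11 : Perm (Fin 11) := ⟨![0, 6, 5, 4, 3, 2, 1, 8, 9, 10, 7], ![0, 6, 5, 4, 3, 2, 1, 10, 7, 8, 9], by decide, by decide⟩

theorem pairN_eight [Finite G] (L : MT 8 G) : PairN G :=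
  pairN_mt (p := 5) (k := 2) (by norm_num) (by norm_num) (by norm_num) (by norm_num) L (σ := s8) (τ := t8)
    (by decide +kernel) (by decide +kernel) (by decide +kernel) (by decide +kernel) (a := 1) (b := 4) (c := 2) (d := 3)
    (by decide) (by decide) (by decide) (by decide) (by decide) (by decide) (by decide +kernel)

theorem pairN_eleven [Finite G] (L : MT 11 G) : PairN G :=
  pairN_mt (p := 7) (k := 6) (by norm_num) (by norm_num) (by norm_num) (by norm_num) L (σ := s11) (τ := t11)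
    (by decide +kernel) (by decide +kernel) (by decide +kernel) (by decide +kernel) (a := 7) (b := 9) (c := 8) (d := 10)
    (by decide) (by decide) (by decide) (by decide) (by decide) (by decide) (by decide +kernel)

/-- **The row `McL`.** -/
theorem mcl {K : Type*} [Group K] (h : Spor.IsoMcL K) : PairN K := by
  obtain ⟨h1, -, -, ⟨L⟩⟩ := TypeM.FactsMcL.facts h
  exact pairN_eight L

/-- **The row `Ly`.** -/
theorem ly {K : Type*} [Group K] (h : Spor.IsoLy K) : PairN K := by
  obtain ⟨h1, -, -, ⟨L⟩⟩ := TypeM.FactsLy.facts h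
  exact pairN_eleven L

end Cfsg.Agent.H729.PairMT
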