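import Cfsg.Agent.H729.PairCo1
import Cfsg.Agent.Co2Type.Mono
import Cfsg.Agent.J4Type.InvFix
import Cfsg.Agent.OddHalf.D9.Co1.Facts

/-!
# `Co2` satisfies `Pair45`

`E = 2^10` the sign changes, `y` the sign change on a dodecad, `r = 7`.
-/

set_option autoImplicit false

namespace Cfsg.Agent.H729.PairCo2

open Subgroup hiding mk
open Cfsg Cfsg.Agent.H729.PairBase Cfsg.Agent.H463.Pair Cfsg.Agent.H729.PairQ
open Cfsg.Agent.SporadicA.GolayBase Cfsg.Agent.SporadicA.GolayPerm
open Cfsg.Agent.SporadicA.Co0Mono hiding mk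
open Cfsg.Agent.SporadicA.Co1Simple Cfsg.Agent.Co2Type.Mono
open Cfsg.Agent.SporadicStructure.M24El
open Cfsg.Agent.CoOneType.SignFacts

universe u

/-- An element of order 7 of `M24` fixes no dodecad. -/
theorem perm_eq_one_of_dodecad {σ : M24} (hσ : σ ^ 7 = 1) {d : golayCode} (hd : wt d = 12)
    (h : wordPerm σ d = d) : σ = 1 := by
  classical
  have : Fact (Nat.Prime 7) := ⟨by norm_num⟩
  have hmem : ∀ i ∈ sup d, (σ : Equiv.Perm GolayPt) i ∈ sup d := by
    intro i hi
    rw [mem_sup] at hi ⊢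
    have h1 : ((wordPerm σ d : golayCode) : GolayPt → ZMod 2) ((σ : Equiv.Perm GolayPt) i) =
        (d : GolayPt → ZMod 2) i := by
      rw [wordPerm_apply, Equiv.symm_apply_apply]
    rw [h] at h1
    rw [h1, hi]
  have h7 : (σ : Equiv.Perm GolayPt) ^ 7 = 1 := by
    rw [← Subgroup.coe_pow, hσ, Subgroup.coe_one]
  let f : Function.End {i // i ∈ sup d} := fun i => ⟨(σ : Equiv.Perm GolayPt) i, hmem i i.2⟩
  have hfn : ∀ (n : ℕ) (i : {i // i ∈ sup d}), (((f ^ n) i : {i // i ∈ sup d}) : GolayPt) =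
      ((σ : Equiv.Perm GolayPt) ^ n) i := by
    intro n
    induction n with
    | zero => intro i; rfl
    | succ n ih =>
      intro i
      rw [pow_succ', pow_succ']
      show (σ : Equiv.Perm GolayPt) ((f ^ n) i : {i // i ∈ sup d}) = (σ : Equiv.Perm GolayPt) (((σ : Equiv.Perm GolayPt) ^ n) i)
      rw [ih]
  have hf : f ^ 7 ^ 1 = 1 := by
    funext i
    apply Subtype.ext
    rw [pow_one, hfn, h7]
    rfl
  have hcard := Equiv.Perm.card_fixedPoints_modEq hf
  have h12 : Fintype.card {i // i ∈ sup d} = 12 := by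
    rw [Fintype.card_coe]
    exact hd
  rw [h12] at hcard
  have h5 : 5 ≤ Fintype.card (Function.fixedPoints f) := by
    rw [Nat.ModEq] at hcard
    omega
  obtain ⟨s, hs⟩ := Finset.exists_subset_card_eq (s := (Finset.univ : Finset (Function.fixedPoints f)))
    (n := 5) (by rw [Finset.card_univ]; exact h5)
  let s' : Finset GolayPt := Finset.image (fun i : ↑(Function.fixedPoints f) => ((i.1 : {i // i ∈ sup d}) : GolayPt)) s
  have hs' : s'.card = 5 := by
    rw [Finset.card_image_of_injective, hs.2]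
    intro a b hab
    exact Subtype.ext (Subtype.ext hab)
  have hfix := Cfsg.Agent.J4Type.InvFix.card_fix_five hs'
  have hmemf : σ ∈ fixingSubgroup M24 (s' : Set GolayPt) := by
    rw [mem_fixingSubgroup_iff]
    intro y hy
    obtain ⟨i, -, rfl⟩ := Finset.mem_image.1 (Finset.mem_coe.1 hy)
    exact congrArg Subtype.val i.2
  have hd1 := Subgroup.orderOf_dvd_natCard _ hmemf
  rw [hfix] at hd1
  have hd2 : orderOf σ ∣ 7 := orderOf_dvd_of_pow_eq_one hσ
  have hd3 := Nat.dvd_gcd hd1 hd2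
  rw [show Nat.gcd 48 7 = 1 from by norm_num] at hd3
  exact orderOf_eq_one_iff.1 (Nat.dvd_one.1 hd3)

/-- no element of order 7 of `Co0` commutes with the sign change on a dodecad -/
theorem not_orderOf {d : golayCode} (hd : wt d = 12) (g : Co0)
    (hk : g * signCo0 d = signCo0 d * g) (h7 : g ^ 7 = 1) : g = 1 := by
  have hN : g ∈ N := mem_N_of_conj_dodecad _ _ hd hd g hk
  obtain ⟨c, σ, rfl⟩ := exists_sign_perm hN
  obtain ⟨e, he⟩ := sign_perm_pow c σ 7
  have hσ : σ ^ 7 = 1 := by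
    rw [he] at h7
    exact perm_eq_one h7
  have hcomm : ∀ u v : golayCode, signCo0 u * signCo0 v = signCo0 v * signCo0 u := fun u v => by
    rw [← signCo0_add, ← signCo0_add, add_comm]
  have hconj : signCo0 (wordPerm σ d) = signCo0 d := by
    have e1 : signCo0 c * permCo0 σ * signCo0 d = signCo0 (wordPerm σ d) * (signCo0 c * permCo0 σ) := by
      rw [mul_assoc, perm_mul_sign, ← mul_assoc, hcomm c, mul_assoc]
    rw [e1] at hk
    exact mul_right_cancel hk
  have hw : wordPerm σ d = d := by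
    rcases (Cfsg.Agent.CoOneType.CoOneE.pr_sign_eq_iff d (wordPerm σ d)).1 (by rw [hconj]) with h | h
    · exact h
    · exfalso
      rw [h, signCo0_add] at hconj
      have h1 : signCo0 allOne = 1 := by
        have := congrArg (fun z => signCo0 d * z) hconj
        simp only [← mul_assoc, signCo0_mul_self, one_mul] at this
        exact this
      exact Cfsg.Agent.CoOneType.CoOneE.allOne_ne h1
  have hσ1 : σ = 1 := perm_eq_one_of_dodecad hσ hd hw
  rw [hσ1, map_one, mul_one] at h7 ⊢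
  have h1 : signCo0 c ^ 7 = signCo0 c := by
    rw [show 7 = 2 * 3 + 1 from rfl, pow_succ, pow_mul, pow_two, signCo0_mul_self, one_pow, one_mul]
  rw [← h1, h7]

/-! ### The model -/

def P1 : ℕ := 959495443213680090925701962000470656

/-- the powers of `P1` -/
def Q2 : ℕ := pcomp P1 P1
def Q3 : ℕ := pcomp P1 Q2
def Q4 : ℕ := pcomp P1 Q3
def Q5 : ℕ := pcomp P1 Q4
def Q6 : ℕ := pcomp P1 Q5

theorem okP1 : okP P1 = true := by decide +kernel

theorem pow_P1 : pcomp P1 Q6 = idP := by decide +kernel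

theorem P1_ne : P1 ≠ idP := by decide +kernel

theorem P1_lt : P1 < 2 ^ 120 := by decide +kernel

theorem idP_lt : idP < 2 ^ 120 := by decide +kernel

theorem pimg0 {P : ℕ} (hP : okP P = true) : pimg P 0 = 0 := pimg_zero (ok_iff.1 (ok_of_okP hP)).1

theorem mul_P {P Q : ℕ} (hP : okP P = true) (hQ : okP Q = true) : mo2 0 P * mo2 0 Q = mo2 0 (pcomp P Q) := by
  rw [mo2_mul inE_zero inE_zero hP hQ, pimg0 hP, Nat.xor_self]

theorem x_pow : (mo2 0 P1) ^ 7 = 1 := by
  have o2 := okP_pcomp okP1 okP1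
  have o3 := okP_pcomp okP1 o2
  have o4 := okP_pcomp okP1 o3
  have o5 := okP_pcomp okP1 o4
  have o6 := okP_pcomp okP1 o5
  have e : (mo2 0 P1) ^ 7 = mo2 0 P1 * (mo2 0 P1 * (mo2 0 P1 * (mo2 0 P1 * (mo2 0 P1 * (mo2 0 P1 * mo2 0 P1))))) := by
    simp only [pow_succ, pow_zero, one_mul, mul_assoc]
  rw [e, mul_P okP1 okP1, mul_P okP1 o2, mul_P okP1 o3, mul_P okP1 o4, mul_P okP1 o5, mul_P okP1 o6]
  have h : pcomp P1 (pcomp P1 (pcomp P1 (pcomp P1 (pcomp P1 (pcomp P1 P1))))) = idP := pow_P1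
  rw [h, mo2_one]

theorem x_ne : mo2 0 P1 ≠ 1 := by
  intro h
  rw [← mo2_one] at h
  exact P1_ne (mo2_inj inE_zero inE_zero okP1 okP_idP P1_lt idP_lt h).2

/-- The sign changes. -/
def E : Subgroup Spor.Co2 where
  carrier := {g | ∃ m, inE m = true ∧ g = mo2 m idP}
  one_mem' := ⟨0, inE_zero, mo2_one.symm⟩
  mul_mem' := by
    rintro _ _ ⟨m, hm, rfl⟩ ⟨n, hn, rfl⟩
    exact ⟨m ^^^ n, inE_xor hm hn, mo2_mul_left hm hn okP_idP⟩
  inv_mem' := by
    rintro _ ⟨m, hm, rfl⟩
    refine ⟨m, hm, inv_eq_of_mul_eq_one_left ?_⟩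
    rw [mo2_mul_left hm hm okP_idP, Nat.xor_self, mo2_one]

theorem sq_E {g : Spor.Co2} (hg : g ∈ E) : g * g = 1 := by
  obtain ⟨m, hm, rfl⟩ := hg
  rw [mo2_mul_left hm hm okP_idP, Nat.xor_self, mo2_one]

theorem conj_E {P : ℕ} (hP : okP P = true) : ∀ q ∈ E, mo2 0 P * q * (mo2 0 P)⁻¹ ∈ E := by
  rintro _ ⟨m, hm, rfl⟩
  refine ⟨pimg P m, inE_pimg hP hm, ?_⟩
  rw [mul_inv_eq_iff_eq_mul, mo2_mul inE_zero hm hP okP_idP, mo2_mul_left (inE_pimg hP hm) inE_zero hP, Nat.zero_xor,
    Nat.xor_zero]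
  have h1 : pcomp P idP = pcomp P idP := rfl
  have h2 : mo2 0 P * mo2 0 idP = mo2 0 (pcomp P idP) := mul_P hP okP_idP
  rw [mo2_one, mul_one] at h2
  have h3 : mo2 (pimg P m) idP * mo2 0 P = mo2 (pimg P m) P := by
    rw [mo2_mul_left (inE_pimg hP hm) inE_zero hP, Nat.xor_zero]
  have h4 : mo2 (pimg P m) idP * mo2 0 (pcomp P idP) = mo2 (pimg P m) (pcomp P idP) := by
    rw [mo2_mul_left (inE_pimg hP hm) inE_zero (okP_pcomp hP okP_idP), Nat.xor_zero]
  rw [← h4, ← h2, h3]

def mD : ℕ := 57274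

theorem inE_D : inE mD = true := by decide +kernel

theorem pc_D : popcount mD = 12 := by decide +kernel

theorem wt_D : wt (cd mD) = 12 := by
  rw [Cfsg.Agent.OddHalf.D9.Co1.Facts.wt_cd (isCode_of_inE inE_D), pc_D]

theorem co2_model : Pair45 Spor.Co2 := by
  have : Finite Spor.Co2 := Finite.of_injective _ toCo0_injective
  have : Fact (Nat.Prime 7) := ⟨by norm_num⟩
  have hE : IsPGroup 2 E := by
    intro x
    refine ⟨1, ?_⟩
    apply Subtype.ext
    rw [pow_one, pow_two]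
    exact sq_E x.2
  have hD0 : (0 : ℕ) ≠ mD := by decide
  have hy : toCo0 (mo2 mD idP) = signCo0 (cd mD) := by
    rw [toCo0_mo2 inE_D okP_idP]
    unfold mo
    rw [el_idP, map_one, mul_one]
  refine of_elt (E := E) (x := mo2 0 P1) (y := mo2 mD idP) hE ⟨mD, inE_D, rfl⟩ ?_ (r := 7) (by norm_num) (by norm_num)
    (orderOf_eq_prime x_pow x_ne) (mem_normalizer_of_conj ?_) ?_
  · intro h
    rw [← mo2_one] at h
    exact hD0 (mo2_inj inE_D inE_zero okP_idP okP_idP idP_lt idP_lt h).1.symm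
  · rintro g (rfl | rfl)
    · exact conj_E okP1
    · have hi : (mo2 0 P1)⁻¹ = mo2 0 Q6 := by
        apply inv_eq_of_mul_eq_one_right
        have o2 := okP_pcomp okP1 okP1
        have o3 := okP_pcomp okP1 o2
        have o4 := okP_pcomp okP1 o3
        have o5 := okP_pcomp okP1 o4
        have o6 : okP Q6 = true := okP_pcomp okP1 o5
        rw [mul_P okP1 o6, pow_P1, mo2_one]
      rw [hi]
      have o2 := okP_pcomp okP1 okP1
      have o3 := okP_pcomp okP1 o2
      have o4 := okP_pcomp okP1 o3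
      have o5 := okP_pcomp okP1 o4
      have o6 : okP Q6 = true := okP_pcomp okP1 o5
      exact conj_E o6
  · intro k hk ho
    have h1 : toCo0 k * signCo0 (cd mD) = signCo0 (cd mD) * toCo0 k := by
      rw [← hy, ← map_mul, hk, map_mul]
    have h2 : toCo0 k ^ 7 = 1 := by
      rw [← map_pow, ← ho, pow_orderOf_eq_one, map_one]
    have h3 := not_orderOf wt_D _ h1 h2
    rw [← map_one toCo0] at h3
    rw [toCo0_injective h3, orderOf_one] at ho
    norm_num at ho

/-- `Co2`. -/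
theorem co2 {K : Type u} [Group K] (h : Spor.IsoCo2 K) : Pair45 K := by
  obtain ⟨e⟩ := h
  exact Cfsg.Agent.H463.Pair.congr e.symm co2_model

end Cfsg.Agent.H729.PairCo2
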