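import Cfsg.Agent.H251.GeoUMain
import Cfsg.Agent.H494.PSURow
import Cfsg.Agent.H278.Cov.Defs

/-!
# S2499, unitary groups: geometric overgroups of an element of prime order `s`, `-q` of odd order `m > n / 2` modulo `s`,
and the elements `x + y` (helper729)

* `geo_over`   : the geometric subgroups of `SU_n(q)` of order divisible by `s`
* `geo_over_pre` : the same for the proper subgroups of `PSU_n(q)`
* `exists_c`   : an element `c` of `PSU_{k+l}(q)` which avoids all subgroups of order prime to `s` (`-q` has order `k`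
  modulo `s`) and the stabilisers of small totally singular / nondegenerate subspaces
* `isMaximalIn_pre` : coatoms of `PSU_n(q)`
-/

set_option autoImplicit false
set_option linter.unusedSectionVars false

namespace Cfsg.Agent.H729.CovU

open Cfsg Cfsg.Geo Module Cfsg.Agent.H251.GeoCard Cfsg.Agent.H951 Cfsg.Agent.H251.GeoU
open Cfsg.Agent.LieClassical
open Cfsg.Agent.H278.Cov (Av)
open scoped Matrix MatrixGroups

section geom

variable {F : Type*} [Field F] [Fintype F] {n q : ℕ}

theorem q_one_lt (hF : Fintype.card F = q ^ 2) : 1 < q := by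
  have h1 : 1 < Fintype.card F := Fintype.one_lt_card
  rw [hF] at h1
  by_contra h
  have h2 : q ≤ 1 := by omega
  have h3 : q ^ 2 ≤ 1 ^ 2 := Nat.pow_le_pow_left h2 2
  omega

/-- extension field groups -/
theorem ext_dvd (hF : Fintype.card F = q ^ 2) {s m : ℕ} (hs : s.Prime) (hord : orderOf (-(q : ZMod s)) = m)
    (hm : Odd m) (hn : 1 ≤ n) (hnm : n < 2 * m) (hsm : n < s) {r : ℕ} (hr : r.Prime) (hr3 : 3 ≤ r)
    {K : Subalgebra F (Matrix (Fin n) (Fin n) F)} (hK : IsFieldSubalgebra r K)
    (h : s ∣ Nat.card (subalgebraNormalizer K)) : r ∣ n ∧ r ∣ m ∧ m / r ≤ n / r := by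
  have hne : Nonempty (Fin n) := ⟨⟨0, by omega⟩⟩
  have hsq := not_dvd_of_ord hs hord (by omega)
  have hrn : r ∣ n := by
    have := H912.finrank_dvd_of_fieldSub hK
    rwa [Fintype.card_fin] at this
  have hle := Nat.le_of_dvd (by omega) hrn
  rcases extension hr hK hs (not_dvd_card hF hs hsq) h with h1 | h1
  · omega
  · rw [nat_card_eq hF, Fintype.card_fin] at h1
    have h2 := ord_le_of_div (Nat.one_le_pow _ _ (Nat.one_le_pow _ _ (LieClassical.HermBasic.q_pos hF))) h1
    have h3 : orderOf (((q ^ 2) ^ r : ℕ) : ZMod s) = m / Nat.gcd m r := by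
      have h4 : (((q ^ 2) ^ r : ℕ) : ZMod s) = ((q ^ 2 : ℕ) : ZMod s) ^ r := by push_cast; rfl
      rw [h4, orderOf_pow' _ hr.ne_zero, ord_sq_odd hord hm]
    rw [h3] at h2
    have h5 : r ∣ m := by
      by_contra h5
      have h6 : Nat.gcd m r = 1 := by
        rw [← Nat.coprime_iff_gcd_eq_one, Nat.coprime_comm, hr.coprime_iff_not_dvd]
        exact h5
      rw [h6, Nat.div_one] at h2
      have h7 : n / r ≤ n / 3 := Nat.div_le_div_left hr3 (by norm_num)
      omega
    refine ⟨hrn, h5, ?_⟩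
    rwa [Nat.gcd_eq_right h5] at h2

theorem geo_over (hF : Fintype.card F = q ^ 2) {p f m s : ℕ} (hp : p.Prime) (hq : q = p ^ f) (hf : 1 ≤ f)
    (hs : s.Prime) (hiff : ∀ k, s ∣ p ^ k - 1 ↔ 2 * m * f ∣ k) (hord : orderOf (-(q : ZMod s)) = m) (hm : Odd m)
    (hn : 4 ≤ n) (hnm : n < 2 * m) (hsm : n + 1 < s) {X : Subgroup (GL (Fin n) F)} (hX : InUnitaryClass n F q X)
    (h : s ∣ Nat.card X) :
    (∃ W : Submodule F (Fin n → F), W ≠ ⊥ ∧ IsTotallySingularFor (hermForm n F q) W ∧ 2 * finrank F W + m ≤ n ∧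
      X = subspaceStabilizer W ⊓ Cfsg.GU n F q) ∨
    (∃ W : Submodule F (Fin n → F), W ≠ ⊥ ∧ IsNondegenerateOn (hermForm n F q) W ∧ 2 * finrank F W < n ∧
      finrank F W + m ≤ n ∧ X = subspaceStabilizer W ⊓ Cfsg.GU n F q) ∨
    (∃ (r : ℕ) (K : Subalgebra F (Matrix (Fin n) (Fin n) F)), r.Prime ∧ Odd r ∧ r ∣ n ∧ r ∣ m ∧
      IsFieldSubalgebra r K ∧ X = subalgebraNormalizer K ⊓ Cfsg.GU n F q) := by
  have := Fact.mk hs
  have hsq := not_dvd_of_ord hs hord (by omega)
  have hr := natCast_ne hF hs hsq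
  have hm1 : m ≤ 1 → False := fun h => by omega
  have hqq := Nat.one_le_pow 2 q (LieClassical.HermBasic.q_pos hF)
  have hsF := not_dvd_card hF hs hsq
  have hscal : ¬ s ∣ Nat.card F - 1 := by
    intro h1
    have h2 : Div s (q ^ 2) 1 := div_one le_rfl (by rwa [← nat_card_eq hF])
    have h3 := ord_le_of_div hqq h2
    rw [ord_sq_odd hord hm] at h3
    omega
  have hdec : ∀ {t k : ℕ} {D : Fin t → Submodule F (Fin n → F)}, IsMDecomposition k D →
      s ∣ Nat.card (decompositionStabilizer D) → False := by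
    intro t k D hD h
    have htk : t * k = n := by rw [H918.decomp_card hD, Fintype.card_fin]
    have ht2 := hD.two_le
    have hk := hD.pos
    rcases decomp hD hs hsF h with h1 | h1
    · have : t ≤ t * k := Nat.le_mul_of_pos_right _ hk
      omega
    · rw [nat_card_eq hF] at h1
      have h2 := ord_le_of_div hqq h1
      rw [ord_sq_odd hord hm] at h2
      have h3 : 2 * k ≤ t * k := Nat.mul_le_mul_right _ ht2
      omega
  have hsub : ∀ {F₀ : Subfield F} {r : ℕ} (_ : 2 ≤ r) (_ : Fintype.card F = Nat.card F₀ ^ r) {P : GL (Fin n) F},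
      s ∣ Nat.card (subfieldSubgroup F₀ P) → False := by
    intro F₀ r hr2 hc P h
    rcases subfield hs hsF h with h1 | h1
    · exact hscal h1
    · rw [Fintype.card_fin] at h1
      obtain ⟨i, hi1, hi2, hi3⟩ := h1
      rw [hF, hq, ← pow_mul] at hc
      obtain ⟨a, -, ha⟩ := (Nat.dvd_prime_pow hp).1 (show Nat.card F₀ ∣ p ^ (f * 2) by
        rw [hc]; exact dvd_pow_self _ (by omega))
      rw [ha, ← pow_mul] at hc hi3
      have har : f * 2 = a * r := Nat.pow_right_injective hp.two_le hc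
      have h4 := (hiff _).1 hi3
      have ha0 : 0 < a := by
        rcases Nat.eq_zero_or_pos a with rfl | h5
        · omega
        · exact h5
      have h5 : a * (m * r) ∣ a * i := by
        have : 2 * m * f = a * (m * r) := by
          calc 2 * m * f = m * (f * 2) := by ring
            _ = a * (m * r) := by rw [har]; ring
        rwa [this] at h4
      have h6 := Nat.le_of_dvd (by omega) (Nat.dvd_of_mul_dvd_mul_left ha0 h5)
      have h7 : m * 2 ≤ m * r := Nat.mul_le_mul_left _ hr2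
      omega
  rcases hX with hM | hM | hM | hM
  · rcases hM with hM | hM | hM | hM | hM | hM | hM | hM
    · -- totally singular subspaces
      obtain ⟨W, hW0, hW, rfl⟩ := hM
      left
      refine ⟨W, hW0, hW, ?_, rfl⟩
      obtain ⟨g, hg, hi, hgs, hg1⟩ := exists_elt hs h inf_le_right
      have hfix := fix_le hF hsq hi hgs hg1
      rw [hord] at hfix
      have h2 : 2 * finrank F W ≤ n := by
        have h3 := (H950.frm_herm hF n).two_mul_finrank_le (H950.nd_top hF n) le_top (W := W) hW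
        rwa [finrank_top, finrank_fintype_fun_eq_card, Fintype.card_fin] at h3
      have hle : W ≤ fx (Matrix.toLin' (g : Matrix (Fin n) (Fin n) F)) := by
        apply le_fx hr hgs (inv_of_mem hg.1)
        rw [hF, ord_sq_odd hord hm]
        omega
      have hnd := hi.nd_fx (H950.frm_herm hF n) hr hgs (H950.nd_top hF n)
      have h3 := (H950.frm_herm hF n).two_mul_finrank_le hnd hle (W := W) hW
      omega
    · -- nondegenerate subspaces
      obtain ⟨W, hW0, hW, hW2, rfl⟩ := hM
      right; left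
      refine ⟨W, hW0, hW, hW2, ?_, rfl⟩
      obtain ⟨g, hg, hi, hgs, hg1⟩ := exists_elt hs h inf_le_right
      have hfix := fix_le hF hsq hi hgs hg1
      rw [hord] at hfix
      have hle : W ≤ fx (Matrix.toLin' (g : Matrix (Fin n) (Fin n) F)) := by
        apply le_fx hr hgs (inv_of_mem hg.1)
        rw [hF, ord_sq_odd hord hm]
        omega
      have := Submodule.finrank_mono hle
      omega
    · obtain ⟨t, k, D, hD, rfl⟩ := hM
      exact (hdec hD.decomp (dvd_left h)).elim
    · obtain ⟨k, D, hk, hD, -, rfl⟩ := hM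
      exact (hdec hD (dvd_left h)).elim
    · obtain ⟨F₀, r, P, hr, hro, hc, -, rfl⟩ := hM
      exact (hsub hr.two_le hc (dvd_left h)).elim
    · obtain ⟨F₀, P, -, hc, -, rfl⟩ := hM
      exact (hsub le_rfl hc (dvd_left h)).elim
    · obtain ⟨F₀, P, ζ, -, hc, -, -, -, -, rfl⟩ := hM
      exact (hsub le_rfl hc (dvd_left h)).elim
    · obtain ⟨r, R, p', e, k, hR, habs, -, -, -, hc, rfl⟩ := hM
      have ht : H920.IsType r k R := by
        rcases hc with ⟨h1, h2, -, h3⟩ | ⟨h1, -, h2, h3⟩
        · exact Or.inl ⟨h1, h2, h3⟩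
        · exact Or.inr ⟨h1, h2, h3⟩
      exfalso
      have hne : Nonempty (Fin n) := ⟨⟨0, by omega⟩⟩
      have hcard := H920.card_of_type hR habs ht
      rw [Fintype.card_fin] at hcard
      have hk : 1 ≤ k := by
        by_contra hk0
        have : k = 0 := by omega
        rw [this, pow_zero] at hcard
        omega
      rcases symplecticType hR habs ht hk hs (dvd_left h) with h1 | h1 | h1
      · have h2 : r ≤ r ^ k := Nat.le_self_pow (by omega) r
        omega
      · exact hscal h1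
      · omega
  · obtain ⟨r, K, hr, hro, hK, -, rfl⟩ := hM
    have hr3 : 3 ≤ r := by
      have := hr.two_le
      obtain ⟨k, hk⟩ := hro
      omega
    obtain ⟨h1, h2, -⟩ := ext_dvd hF hs hord hm (by omega) hnm (by omega) hr hr3 hK (dvd_left h)
    exact Or.inr (Or.inr ⟨r, K, hr, hro, h1, h2, hK, rfl⟩)
  · obtain ⟨n₁, n₂, e, P, f₁, f₂, h2, hlt, -, -, -, rfl⟩ := hM
    exfalso
    have hcard : n = n₁ * n₂ := by
      have := Fintype.card_congr e
      simpa using this
    have h1 := tensor e P hs hsF (dvd_left h)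
    rw [nat_card_eq hF] at h1
    have h3 := ord_le_of_div hqq h1
    rw [ord_sq_odd hord hm, max_eq_right hlt.le] at h3
    have h4 : 2 * n₂ ≤ n₁ * n₂ := Nat.mul_le_mul_right _ h2
    omega
  · obtain ⟨k, t, e, P, f₁, hk, ht, -, -, -, rfl⟩ := hM
    exfalso
    have hcard : n = k ^ t := by
      have := Fintype.card_congr e
      simpa using this
    rcases wreath e P hs hsF (dvd_left h) with h1 | h1
    · have : t < k ^ t := Nat.lt_pow_self (by omega)
      omega
    · rw [nat_card_eq hF] at h1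
      have h3 := ord_le_of_div hqq h1
      rw [ord_sq_odd hord hm] at h3
      have h4 : k ^ 2 ≤ k ^ t := Nat.pow_le_pow_right (by omega) ht
      have h5 : 3 * k ≤ k ^ 2 := by rw [pow_two]; exact Nat.mul_le_mul_right _ hk
      omega

/-- proper subgroups of `PSU_n(q)` of order divisible by `s` -/
theorem geo_over_pre (hF : Fintype.card F = q ^ 2) {p f m s : ℕ} (hp : p.Prime) (hq : q = p ^ f) (hf : 1 ≤ f)
    (hs : s.Prime) (hiff : ∀ k, s ∣ p ^ k - 1 ↔ 2 * m * f ∣ k) (hord : orderOf (-(q : ZMod s)) = m) (hm : Odd m)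
    (hn : 4 ≤ n) (hnm : n < 2 * m) (hsm : n + 1 < s) {M : Subgroup (PSU n F q)} (hM : M ≠ ⊤) (h : s ∣ Nat.card M) :
    (∃ W : Submodule F (Fin n → F), W ≠ ⊥ ∧ IsTotallySingularFor (hermForm n F q) W ∧ 2 * finrank F W + m ≤ n ∧
      pre M ≤ subspaceStabilizer W) ∨
    (∃ W : Submodule F (Fin n → F), W ≠ ⊥ ∧ IsNondegenerateOn (hermForm n F q) W ∧ 2 * finrank F W < n ∧
      finrank F W + m ≤ n ∧ pre M ≤ subspaceStabilizer W) ∨
    (∃ (r : ℕ) (K : Subalgebra F (Matrix (Fin n) (Fin n) F)), r.Prime ∧ Odd r ∧ r ∣ n ∧ r ∣ m ∧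
      IsFieldSubalgebra r K ∧ pre M ≤ subalgebraNormalizer K) ∨ InUnitaryResidualClass (pre M) := by
  have h' : s ∣ Nat.card (pre M) := h.trans (card_dvd_pre M)
  rcases S5663.result (F := F) n q hF (by omega) (by omega) (pre M) (pre_le M) (pre_proper M hM) with
    ⟨X, hX, hle⟩ | hres
  · rcases geo_over hF hp hq hf hs hiff hord hm hn hnm hsm hX (h'.trans (Subgroup.card_dvd_of_le hle)) with
      ⟨W, h1, h2, h3, rfl⟩ | ⟨W, h1, h2, h3, h4, rfl⟩ | ⟨r, K, h1, h2, h3, h4, h5, rfl⟩
    · exact Or.inl ⟨W, h1, h2, h3, hle.trans inf_le_left⟩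
    · exact Or.inr (Or.inl ⟨W, h1, h2, h3, h4, hle.trans inf_le_left⟩)
    · exact Or.inr (Or.inr (Or.inl ⟨r, K, h1, h2, h3, h4, h5, hle.trans inf_le_left⟩))
  · exact Or.inr (Or.inr (Or.inr hres))

end geom

section blocks

variable {F : Type*} [Field F] [Fintype F] {n q : ℕ}

open Cfsg.Agent.H494.PSURow (blk blk_injective eq_one_left eq_one_right)

/-- the linear maps of the elements of `SU_n(q)` -/
noncomputable def L (n : ℕ) (F : Type*) [Field F] (q : ℕ) : SU n F q →* Module.End F (Fin n → F) where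
  toFun x := Matrix.toLin' (((H918.suHom n F q x : GL (Fin n) F)) : Matrix (Fin n) (Fin n) F)
  map_one' := by
    rw [map_one, Units.val_one, Matrix.toLin'_one]
    rfl
  map_mul' x y := by
    rw [map_mul, Units.val_mul, Matrix.toLin'_mul]
    rfl

theorem L_apply (x : SU n F q) (v : Fin n → F) :
    L n F q x v = ((H918.suHom n F q x : GL (Fin n) F) : Matrix (Fin n) (Fin n) F) *ᵥ v := by
  show Matrix.toLin' _ v = _
  rw [Matrix.toLin'_apply]

theorem L_isom (x : SU n F q) : Isom (hermForm n F q) (L n F q x) := by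
  intro u v
  rw [L_apply, L_apply]
  exact H918.mem_GU.1 (H918.suHom_mem x).1 u v

theorem L_injective : Function.Injective (L n F q) := by
  intro x y h
  apply H918.suHom_injective
  apply Units.ext
  exact Matrix.toLin'.injective h

/-- no fixed vectors -/
theorem eq_zero_of_fix (hF : Fintype.card F = q ^ 2) {s : ℕ} (hs : s.Prime) (hn : 1 ≤ n)
    (hord : orderOf (-(q : ZMod s)) = n) {x : SU n F q} (hx : x ^ s = 1) (hx1 : x ≠ 1) {v : Fin n → F}
    (hv : L n F q x v = v) : v = 0 := by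
  have := Fact.mk hs
  have hsq := not_dvd_of_ord hs hord hn
  have h1 := fix_le hF hsq (L_isom x) (by rw [← map_pow, hx, map_one])
    (fun h => hx1 (L_injective (by rw [h, map_one])))
  rw [hord] at h1
  have h2 : finrank F ↥(fx (L n F q x)) = 0 := by omega
  rw [Submodule.finrank_eq_zero] at h2
  have h3 : v ∈ fx (L n F q x) := mem_fx.2 hv
  rwa [h2, Submodule.mem_bot] at h3

theorem L_blk_inl {k l : ℕ} (x : SU k F q) (y : SU l F q) (w : Fin (k + l) → F) (i : Fin k) :
    L (k + l) F q (blk k l F q (x, y)) w (finSumFinEquiv (.inl i)) =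
      L k F q x (fun j => w (finSumFinEquiv (.inl j))) i := by
  rw [L_apply, L_apply]
  change ((Matrix.reindex finSumFinEquiv finSumFinEquiv (Matrix.fromBlocks x.1.1 0 0 y.1.1)) *ᵥ w) _ =
    (x.1.1 *ᵥ _) i
  rw [Matrix.reindex_apply, Matrix.submatrix_mulVec_equiv, Function.comp_apply, Equiv.symm_apply_apply,
    Matrix.fromBlocks_mulVec]
  simp only [Matrix.zero_mulVec, add_zero]
  rfl

theorem L_blk_inr {k l : ℕ} (x : SU k F q) (y : SU l F q) (w : Fin (k + l) → F) (i : Fin l) :
    L (k + l) F q (blk k l F q (x, y)) w (finSumFinEquiv (.inr i)) =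
      L l F q y (fun j => w (finSumFinEquiv (.inr j))) i := by
  rw [L_apply, L_apply]
  change ((Matrix.reindex finSumFinEquiv finSumFinEquiv (Matrix.fromBlocks x.1.1 0 0 y.1.1)) *ᵥ w) _ =
    (y.1.1 *ᵥ _) i
  rw [Matrix.reindex_apply, Matrix.submatrix_mulVec_equiv, Function.comp_apply, Equiv.symm_apply_apply,
    Matrix.fromBlocks_mulVec]
  simp only [Matrix.zero_mulVec, zero_add]
  rfl

/-- no common fixed vectors -/
theorem eq_zero_of_blk (hF : Fintype.card F = q ^ 2) {s t k l : ℕ} (hs : s.Prime) (ht : t.Prime) (hk : 1 ≤ k)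
    (hl : 1 ≤ l) (hso : orderOf (-(q : ZMod s)) = k) (hto : orderOf (-(q : ZMod t)) = l) {x : SU k F q}
    {y : SU l F q} (hx : x ^ s = 1) (hx1 : x ≠ 1) (hy : y ^ t = 1) (hy1 : y ≠ 1) {v : Fin (k + l) → F}
    (h1 : L (k + l) F q (blk k l F q (x, 1)) v = v) (h2 : L (k + l) F q (blk k l F q (1, y)) v = v) : v = 0 := by
  have h3 : (fun j => v (finSumFinEquiv (.inl j))) = (0 : Fin k → F) := by
    refine eq_zero_of_fix hF hs hk hso hx hx1 ?_
    funext i
    rw [← L_blk_inl x 1 v i, h1]
  have h4 : (fun j => v (finSumFinEquiv (.inr j))) = (0 : Fin l → F) := by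
    refine eq_zero_of_fix hF ht hl hto hy hy1 ?_
    funext i
    rw [← L_blk_inr 1 y v i, h2]
  funext i
  obtain ⟨j | j, rfl⟩ := finSumFinEquiv.surjective i
  · exact congrFun h3 j
  · exact congrFun h4 j

theorem pow_ne_one {G : Type*} [Group G] {x : G} {s t : ℕ} (hs : s.Prime) (ht : t.Prime) (hst : s ≠ t)
    (hx : orderOf x = s) : x ^ t ≠ 1 := by
  intro h
  have h1 := orderOf_dvd_of_pow_eq_one h
  rw [hx] at h1
  exact hst ((Nat.prime_dvd_prime_iff_eq hs ht).1 h1)

theorem exists_orderOf (hF : Fintype.card F = q ^ 2) {s k : ℕ} (hs : s.Prime) (hk : 2 ≤ k)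
    (hso : orderOf (-(q : ZMod s)) = k) : ∃ x : SU k F q, orderOf x = s := by
  have := Fact.mk hs
  have h1 := H149.PGU.dvd_card_psu hF hk hs hk le_rfl hso
  have h2 : s ∣ Nat.card (SU k F q) := h1.trans (Subgroup.card_quotient_dvd_card _)
  exact exists_prime_orderOf_dvd_card' s h2

/-- the element `c` -/
theorem exists_c (hF : Fintype.card F = q ^ 2) {s t k l : ℕ} (hn : n = k + l) (hn3 : 3 ≤ n) (hk : 2 ≤ k) (hl : 2 ≤ l)
    (hs : s.Prime) (ht : t.Prime) (hst : s ≠ t) (hso : orderOf (-(q : ZMod s)) = k)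
    (hto : orderOf (-(q : ZMod t)) = l) :
    ∃ c : PSU n F q,
      (∀ M : Subgroup (PSU n F q), ¬ s ∣ Nat.card M → Av c M) ∧
      (∀ M : Subgroup (PSU n F q), ¬ t ∣ Nat.card M → Av c M) ∧
      (∀ (M : Subgroup (PSU n F q)) (W : Submodule F (Fin n → F)), W ≠ ⊥ →
        finrank F W < orderOf ((q ^ 2 : ℕ) : ZMod s) →
        (finrank F W < orderOf ((q ^ 2 : ℕ) : ZMod t) ∨ (IsNondegenerateOn (hermForm n F q) W ∧ ¬ l ∣ finrank F W)) →
        pre M ≤ subspaceStabilizer W → Av c M) := by
  subst hn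
  have := Fact.mk hs
  have := Fact.mk ht
  obtain ⟨x, hx⟩ := exists_orderOf (F := F) hF hs hk hso
  obtain ⟨y, hy⟩ := exists_orderOf (F := F) hF ht hl hto
  have hxs : x ^ s = 1 := by rw [← hx, pow_orderOf_eq_one]
  have hyt : y ^ t = 1 := by rw [← hy, pow_orderOf_eq_one]
  set C := blk k l F q (x, y) with hC
  have hCt : C ^ t = blk k l F q (x ^ t, 1) := by rw [hC, ← map_pow, Prod.pow_mk, hyt]
  have hCs : C ^ s = blk k l F q (1, y ^ s) := by rw [hC, ← map_pow, Prod.pow_mk, hxs]
  have hCts : C ^ (t * s) = 1 := by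
    rw [pow_mul, hCt, ← map_pow, Prod.pow_mk, ← pow_mul, mul_comm, pow_mul, hxs, one_pow, one_pow]
    exact map_one _
  have hx1 := pow_ne_one hs ht hst hx
  have hy1 := pow_ne_one ht hs hst.symm hy
  let π := QuotientGroup.mk' (Subgroup.center (SU (k + l) F q))
  have hord1 : orderOf (π C ^ t) = s := by
    apply orderOf_eq_prime
    · rw [← pow_mul, ← map_pow, hCts, map_one]
    · intro h
      rw [← map_pow, hCt] at h
      exact hx1 (eq_one_left hF hn3 (by omega) ((QuotientGroup.eq_one_iff _).1 h))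
  have hord2 : orderOf (π C ^ s) = t := by
    apply orderOf_eq_prime
    · rw [← pow_mul, mul_comm, ← map_pow, hCts, map_one]
    · intro h
      rw [← map_pow, hCs] at h
      exact hy1 (eq_one_right hF hn3 (by omega) ((QuotientGroup.eq_one_iff _).1 h))
  refine ⟨π C, fun M hM => ?_, fun M hM => ?_, ?_⟩
  · exact Av.of_pow (n := t) (Cfsg.Agent.H278.Cov.av_of_card (by rwa [hord1]))
  · exact Av.of_pow (n := s) (Cfsg.Agent.H278.Cov.av_of_card (by rwa [hord2]))
  · intro M W hW0 hWs hWt hle g hg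
    obtain ⟨A, rfl⟩ := QuotientGroup.mk'_surjective _ g
    set D := A * C * A⁻¹ with hD
    have hDM : H918.suHom (k + l) F q D ∈ pre M := by
      refine ⟨D, ?_, rfl⟩
      change π D ∈ M
      rw [hD, map_mul, map_mul, map_inv]
      exact hg
    have hDt : D ^ t = A * C ^ t * A⁻¹ := by rw [hD, conj_pow]
    have hDs : D ^ s = A * C ^ s * A⁻¹ := by rw [hD, conj_pow]
    have hDts : D ^ (t * s) = 1 := by rw [hD, conj_pow, hCts, mul_one, mul_inv_cancel]
    have hinv : ∀ j : ℕ, Inv (L (k + l) F q (D ^ j)) W := by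
      intro j
      have h1 : H918.suHom (k + l) F q (D ^ j) ∈ subspaceStabilizer W := by
        rw [map_pow]
        exact Subgroup.pow_mem _ (hle hDM) j
      exact inv_of_mem h1
    have hsq := not_dvd_of_ord hs hso (by omega)
    have htq := not_dvd_of_ord ht hto (by omega)
    have hrs := natCast_ne hF hs hsq
    have hrt := natCast_ne hF ht htq
    have hcom : fx (L (k + l) F q (D ^ t)) ⊓ fx (L (k + l) F q (D ^ s)) = ⊥ := by
      rw [eq_bot_iff]
      rintro v ⟨hv1, hv2⟩
      rw [SetLike.mem_coe, mem_fx] at hv1 hv2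
      have key : ∀ E : SU (k + l) F q, L (k + l) F q (A * E * A⁻¹) v = v →
          L (k + l) F q E (L (k + l) F q A⁻¹ v) = L (k + l) F q A⁻¹ v := by
        intro E hE
        have h1 := congrArg (L (k + l) F q A⁻¹) hE
        rw [← Module.End.mul_apply, ← map_mul] at h1
        rw [← Module.End.mul_apply, ← map_mul, ← h1]
        congr 2
        group
      rw [hDt] at hv1
      rw [hDs] at hv2
      have h1 := key _ hv1
      have h2 := key _ hv2
      rw [hCt] at h1
      rw [hCs] at h2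
      have h3 := eq_zero_of_blk hF hs ht (by omega) (by omega) hso hto
        (by rw [← pow_mul, mul_comm, pow_mul, hxs, one_pow]) hx1
        (by rw [← pow_mul, mul_comm, pow_mul, hyt, one_pow]) hy1 h1 h2
      have h4 := congrArg (L (k + l) F q A) h3
      rw [map_zero, ← Module.End.mul_apply, ← map_mul, mul_inv_cancel, map_one] at h4
      exact h4
    have hWX : W ≤ fx (L (k + l) F q (D ^ t)) := by
      refine le_fx hrs ?_ (hinv t) ?_
      · rw [← map_pow, ← pow_mul, hDts, map_one]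
      · rw [hF]; exact hWs
    have hWY : W ⊓ fx (L (k + l) F q (D ^ s)) = ⊥ := by
      rw [eq_bot_iff, ← hcom]
      exact inf_le_inf_right _ hWX
    have hYt : (L (k + l) F q (D ^ s)) ^ t = 1 := by
      rw [← map_pow, ← pow_mul, mul_comm, hDts, map_one]
    rcases hWt with hWt | ⟨hWn, hWl⟩
    · apply hW0
      rw [← hWY]
      exact (inf_eq_left.2 (le_fx hrt hYt (hinv s) (by rw [hF]; exact hWt))).symm
    · apply hWl
      have hnd : Nd (hermForm (k + l) F q) W := by
        intro u hu hu0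
        obtain ⟨v, hv, hv1⟩ := (hWn u hu hu0).2
        exact ⟨v, hv, hv1⟩
      have h9 := H950.ord_neg_dvd hF htq (L_isom _) hYt (hinv s) hnd hWY
      rwa [hto] at h9

theorem isMaximalIn_pre {M : Subgroup (PSU n F q)} (hM : IsCoatom M) :
    IsMaximalIn (Cfsg.GU n F q ⊓ specialLinear (Fin n) F) (pre M) := by
  have hmem : ∀ y : SU n F q, H918.suHom n F q y ∈ pre M ↔ QuotientGroup.mk' (Subgroup.center (SU n F q)) y ∈ M := by
    intro y
    constructor
    · rintro ⟨z, hz, h1⟩
      rw [← H918.suHom_injective h1]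
      exact hz
    · intro h
      exact ⟨y, h, rfl⟩
  refine ⟨lt_of_le_of_ne (pre_le M) fun h => hM.1 ?_, fun K hK1 hK2 => ?_⟩
  · rw [eq_top_iff]
    intro x _
    obtain ⟨y, rfl⟩ := QuotientGroup.mk'_surjective _ x
    exact (hmem y).1 (by rw [h]; exact H918.suHom_mem y)
  · have hcen : ∀ z ∈ Subgroup.center (SU n F q), H918.suHom n F q z ∈ pre M := by
      intro z hz
      rw [hmem]
      have h1 : QuotientGroup.mk' (Subgroup.center (SU n F q)) z = 1 := by
        rw [QuotientGroup.mk'_apply, QuotientGroup.eq_one_iff]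
        exact hz
      rw [h1]
      exact M.one_mem
    let M' : Subgroup (PSU n F q) :=
      (K.comap (H918.suHom n F q)).map (QuotientGroup.mk' (Subgroup.center (SU n F q)))
    have hle : M ≤ M' := by
      intro x hx
      obtain ⟨y, rfl⟩ := QuotientGroup.mk'_surjective _ x
      exact ⟨y, hK1 ((hmem y).2 hx), rfl⟩
    rcases hM.le_iff.1 hle with h1 | h1
    · right
      refine le_antisymm hK2 fun g hg => ?_
      obtain ⟨y, rfl⟩ := H918.exists_suHom hg
      have h2 : QuotientGroup.mk' (Subgroup.center (SU n F q)) y ∈ M' := by rw [h1]; exact Subgroup.mem_top _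
      obtain ⟨y', hy', h3⟩ := h2
      have h4 : y'⁻¹ * y ∈ Subgroup.center (SU n F q) := QuotientGroup.eq.1 h3
      have h5 : y = y' * (y'⁻¹ * y) := by group
      rw [h5, map_mul]
      exact K.mul_mem hy' (hK1 (hcen _ h4))
    · left
      refine le_antisymm (fun g hg => ?_) hK1
      obtain ⟨y, rfl⟩ := H918.exists_suHom (hK2 hg)
      rw [hmem, ← h1]
      exact ⟨y, hg, rfl⟩

end blocks

end Cfsg.Agent.H729.CovU
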