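import Cfsg.Agent.H729.CovSU9
import Cfsg.Agent.H920.NineAsm

/-!
# The row `PSU_9(q)` of S2499, from the classification

`noTwo_psu_nine_of_known`: apply it to `fun S _ _ _ => Cfsg.Agent.S0000.result`.
-/

set_option autoImplicit false

namespace Cfsg.Agent.H729.CovSU9

open Cfsg Cfsg.Geo Module Cfsg.Agent.H251.GeoCard Cfsg.Agent.H951 Cfsg.Agent.H251.GeoU
open Cfsg.Agent.H278.Cov (Av NoTwo noTwo_of_coatom av_of_card)
open Cfsg.Agent.H436 Cfsg.Agent.H915.GN Cfsg.Agent.OrdDiv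
open Cfsg.Agent.H729.CovU
open scoped Matrix MatrixGroups

theorem res9_of_known {F : Type} [Field F] [Fintype F] {q : ℕ} (hF : Fintype.card F = q ^ 2)
    (hK : ∀ (S : Type) [Group S] [Finite S] [IsSimpleGroup S], Cfsg.IsKnownSimple' S) : Res9 F q := by
  intro H hH hS
  obtain ⟨P, hR, hC, hsd⟩ := Cfsg.Agent.H915.LD.unitary_core hS
  have hs := hC.simple
  exact ⟨P, hR, Cfsg.Agent.H920.Nine.uni_concl hF hH hR hC hsd (hK _)⟩

/-- `PSU_9(q)` is not the union of two conjugacy classes of proper subgroups -/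
theorem noTwo_psu_nine_of_known {F : Type} [Field F] [Fintype F] {q : ℕ} (hF : Fintype.card F = q ^ 2)
    (hK : ∀ (S : Type) [Group S] [Finite S] [IsSimpleGroup S], Cfsg.IsKnownSimple' S) : NoTwo (PSU 9 F q) :=
  noTwo_psu_nine hF (res9_of_known hF hK)

end Cfsg.Agent.H729.CovSU9
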