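import Cfsg.Agent.H729.FiTTRank
import Cfsg.Agent.H387.VO.Main
import Cfsg.Agent.H713.Spor.Fi22

/-!
# S4987, sporadic row `Fi22`, `p = 5` (helper729)
-/

set_option autoImplicit false

namespace Cfsg.Agent.H729.VanFi22

open Cfsg Subgroup Cfsg.Agent.H713

/-- **`TwoVan 5 Fi22`** -/
theorem two_fi22_5 {K : Type*} [Group K] (h : Spor.IsoFi22 K) : Cfsg.Agent.H387.VO.TwoVan 5 K := by
  have hdz := FiTTRank.hasDZ_five h
  obtain ⟨e⟩ := h
  have C := Cfsg.Agent.LThreeFi22.Inst.ctx e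
  have hfin := C.finite
  have : Fact (Nat.Prime 5) := ⟨by norm_num⟩
  obtain ⟨x, hx⟩ := exists_prime_orderOf_dvd_card' (G := K) 5 (by rw [C.card]; norm_num)
  obtain ⟨t, ht, hxt⟩ := C.ex5 x (by rw [← hx, pow_orderOf_eq_one]) (by
    rintro rfl
    rw [orderOf_one] at hx
    norm_num at hx)
  have ht2 : orderOf t = 2 := orderOf_eq_prime (by rw [pow_two]; exact C.sq t ht) (C.ne1 t ht)
  have h10 : orderOf (x * t) = 10 := by
    rw [(show Commute x t from hxt).orderOf_mul_eq_mul_orderOf_of_coprime (by rw [hx, ht2]; norm_num), hx, ht2]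
  exact .of_order (x := x) (y := x * t) (by rw [hx]) (by rw [h10]; norm_num)
    (HasDZ.vz hdz (by rw [hx])) (HasDZ.vz hdz (by rw [h10]; norm_num)) (by rw [hx, h10]; norm_num)

end Cfsg.Agent.H729.VanFi22
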