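import Cfsg.Agent.H729.OdmChar
import Cfsg.Agent.H278.ElFamA
import Cfsg.Agent.H884.CxMain
import Cfsg.Agent.H453.OddM.Asm

/-!
# TEAM ODDM (S4785), D-EVEN-ROW: `PΩ⁻_{2n}(q)`, `n ≥ 4` even, `q` odd (helper729)

* `real_prime`       : every odd prime divisor of the order is the order of a real element
* `miss`             : every proper subgroup misses a prime (TEAM ELUSIVE)
* `row_ominus_even`  : the row
-/

set_option autoImplicit false
set_option linter.style.haveILetI false

namespace Cfsg.Agent.H729.OdmRowOminusEven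

open Cfsg Cfsg.Geo Cfsg.Agent.OrdDiv Cfsg.Agent.H436 Cfsg.Agent.H264.FKS Cfsg.Agent.H915.GN
open Cfsg.Agent.H884.Cx (excP cross_row)
open Cfsg.Agent.H453.OddM
open Cfsg.Agent.LieClassical.OrthForms

universe u

/-- every simple group is known -/
abbrev Kn : Prop := ∀ (X : Type) [Group X] [Finite X] [IsSimpleGroup X], Cfsg.IsKnownSimple' X

variable {F : Type} [Field F] [Fintype F]

/-- every proper subgroup misses a prime -/
theorem miss (tab : OrderTable.{0}) (hK : Kn) {m : ℕ} (hm : 4 ≤ m) {a b : F}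
    (hab : ∀ z₁ z₂ : F, z₁ ^ 2 + a * z₁ * z₂ + b * z₂ ^ 2 = 0 → z₁ = 0 ∧ z₂ = 0) (h2 : Odd (Fintype.card F))
    {R : Subgroup (POmega F (quadFormMinus (m - 1) F a b))} (hR : R ≠ ⊤) :
    ∃ r : ℕ, r.Prime ∧ r ∣ Nat.card (POmega F (quadFormMinus (m - 1) F a b)) ∧ ¬ r ∣ Nat.card R := by
  obtain ⟨p, hpF'⟩ := CharP.exists F
  have hp : p.Prime := CharP.char_is_prime F p
  obtain ⟨f, -, hf⟩ := FiniteField.card F p
  have hpF : p ∣ Fintype.card F := by rw [hf]; exact dvd_pow_self p f.ne_zero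
  refine Cfsg.Agent.H278.El.Asm.ominus_row tab hK hp hpF hm hab
    (fun h => by rw [h.1] at h2; exact absurd h2 (by decide)) ?_ hR
  intro R hR S hSn hSs hna hC H P hP e s g hsp hne hS hch
  have hfin : Finite (POmega F (quadFormMinus (m - 1) F a b)) := Quotient.finite _
  have hT : IsNamed (.ominus m (Fintype.card F)) (POmega F (quadFormMinus (m - 1) F a b)) :=
    named_ominus (F := F) hm hab
  have hι : Fintype.card ((Fin (m - 1) ⊕ Fin (m - 1)) ⊕ Fin 2) = 2 * m := by
    rw [Fintype.card_sum, Fintype.card_sum, Fintype.card_fin, Fintype.card_fin]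
    omega
  obtain ⟨e⟩ := e
  rcases cross_row hp hT trivial ⟨f, hf⟩ hι S hna hC hP.perfect e hsp hne hS hch with h | h
  · exact h
  · simp only [excP, List.mem_cons, Prod.mk.injEq, reduceCtorEq, and_false, or_false, List.not_mem_nil] at h

/-- every odd prime divisor of the order is real -/
theorem real_prime {m : ℕ} (hm : 4 ≤ m) (hme : Even m) {a b : F}
    (hab : ∀ z₁ z₂ : F, z₁ ^ 2 + a * z₁ * z₂ + b * z₂ ^ 2 = 0 → z₁ = 0 ∧ z₂ = 0) (h2 : Odd (Fintype.card F))
    {r : ℕ} (hr : r.Prime) (hr2 : r ≠ 2) (h : r ∣ Nat.card (POmega F (quadFormMinus (m - 1) F a b))) :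
    RealP (POmega F (quadFormMinus (m - 1) F a b)) r := by
  have h2F : (2 : F) ≠ 0 := by
    intro h0
    have h1 : ((2 : ℕ) : F) = 0 := by exact_mod_cast h0
    have h3 : ringChar F ∣ 2 := (ringChar.spec F 2).1 h1
    have h4 : ringChar F = 2 := (Nat.prime_dvd_prime_iff_eq (CharP.char_is_prime F _) Nat.prime_two).1 h3
    obtain ⟨f, -, hf⟩ := FiniteField.card F (ringChar F)
    rw [hf, h4] at h2
    exact Nat.not_even_iff_odd.2 h2 ((Nat.even_pow).2 ⟨by decide, f.ne_zero⟩)
  have hro : Odd r := hr.odd_of_ne_two hr2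
  have hnum : r ∣ Fintype.card F ^ (m * (m - 1)) * ((Fintype.card F ^ m + 1) * prB (Fintype.card F) (m - 1)) := by
    have h1 := (named_ominus (F := F) hm hab).eq
    have h3 : num (.ominus m (Fintype.card F)) =
      Fintype.card F ^ (m * (m - 1)) * ((Fintype.card F ^ m + 1) * prB (Fintype.card F) (m - 1)) := rfl
    rw [h3] at h1
    rw [← h1]
    exact h.mul_left _
  rcases (Nat.Prime.dvd_mul hr).1 hnum with h1 | h1
  · -- the characteristic
    obtain ⟨p, hpF'⟩ := CharP.exists F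
    have hp : p.Prime := CharP.char_is_prime F p
    obtain ⟨f, -, hf⟩ := FiniteField.card F p
    have h3 : r ∣ p := by
      have h4 := hr.dvd_of_dvd_pow h1
      rw [hf] at h4
      exact hr.dvd_of_dvd_pow h4
    have h4 : r = p := (Nat.prime_dvd_prime_iff_eq hr hp).1 h3
    subst h4
    rw [← coe_minusForm]
    refine Cfsg.Agent.H729.OdmChar.realP_char h2F hro (nondeg_minusForm (m - 1) F a b hab) ?_
    simp only [Fintype.card_sum, Fintype.card_fin]; omega
  · rcases (Nat.Prime.dvd_mul hr).1 h1 with h3 | h3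
    · exact realP_ominus_even h2F hab (by omega) hme hro h3
    · unfold prB at h3
      obtain ⟨x, hx, hrx⟩ := (Prime.dvd_prod_iff hr.prime).1 h3
      obtain ⟨i, hi, rfl⟩ := List.mem_map.1 hx
      rw [List.mem_range] at hi
      have h4 : Fintype.card F ^ (2 * (i + 1)) - 1 =
          (Fintype.card F ^ (i + 1) - 1) * (Fintype.card F ^ (i + 1) + 1) := by
        have h5 := Nat.sq_sub_sq (Fintype.card F ^ (i + 1)) 1
        rw [← pow_mul, one_pow, mul_comm (i + 1) 2] at h5
        rw [h5, mul_comm]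
      rw [h4] at hrx
      exact realP_ominus h2F hab (by omega) (d := i + 1) (by omega) (by omega) hro ((Nat.Prime.dvd_mul hr).1 hrx)

/-- no maximal subgroup has odd index and meets every real class -/
theorem rowC (tab : OrderTable.{0}) (hK : Kn) {m : ℕ} (hm : 4 ≤ m) (hme : Even m) {a b : F}
    (hab : ∀ z₁ z₂ : F, z₁ ^ 2 + a * z₁ * z₂ + b * z₂ ^ 2 = 0 → z₁ = 0 ∧ z₂ = 0) (h2 : Odd (Fintype.card F)) :
    RowC (POmega F (quadFormMinus (m - 1) F a b)) := by
  intro M hM hc
  have hfin : Finite (POmega F (quadFormMinus (m - 1) F a b)) := Quotient.finite _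
  obtain ⟨r, hr, hrT, hrM⟩ := miss tab hK hm hab h2 hM.1
  by_cases hr2 : r = 2
  · subst hr2
    exact hrM (hc.dvd (realP_two hrT))
  · exact hrM (hc.dvd (real_prime hm hme hab h2 hr hr2 hrT))

/-- **D-EVEN-ROW**: `PΩ⁻_{2n}(q)`, `n` even, `q` odd -/
theorem row_ominus_even (tab : OrderTable.{0}) (hK : Kn) (n q : ℕ) (he : Even n) (h2 : ¬ 2 ∣ q) :
    RowN.{u} (.ominus n q) := by
  intro T _ _ _ hT
  obtain ⟨F, _, _, a, b, hF, hab, ⟨e⟩⟩ := hT.real
  have hn : 4 ≤ n := hT.cond.1
  have ho : Odd (Fintype.card F) := by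
    rw [hF, ← Nat.not_even_iff_odd]
    exact fun h => h2 (even_iff_two_dvd.1 h)
  have hfin : Finite (POmega F (quadFormMinus (n - 1) F a b)) := Quotient.finite _
  exact ((rowC tab hK hn he hab ho).row.congr e.symm).row8

end Cfsg.Agent.H729.OdmRowOminusEven
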