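import Cfsg.Agent.H729.PairBase
import Cfsg.Agent.H898.J3Cent
import Cfsg.Agent.H836.Main

/-! # The coprime pairs in `J3`, `Fi22` -/

set_option autoImplicit false

namespace Cfsg.Agent.H729.PairFour

open Cfsg PairBase Subgroup

variable {K : Type*} [Group K]

theorem j3 (h : Spor.IsoJ3 K) : PairN K := by
  obtain ⟨hs, hcK, -⟩ := H898.J3Cent.base h
  have hfin : Finite K := Nat.finite_of_card_ne_zero (by rw [hcK]; norm_num)
  have : Fact (Nat.Prime 17) := ⟨by norm_num⟩
  obtain ⟨x, hx⟩ := exists_prime_orderOf_dvd_card' (G := K) 17 (by rw [hcK]; norm_num)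
  obtain ⟨h1, h2⟩ := H898.J3Cent.seventeen h hx
  exact PairN.of_odd_even (r := 17) (by norm_num) (by norm_num) hx (by rw [h1]; norm_num) (by rw [h2]; norm_num)

theorem fi22 (h : Spor.IsoFi22 K) : PairN K := by
  obtain ⟨e⟩ := h
  have I := H836.inv_of_iso e
  have hfin : Finite K := I.ctx.finite
  have : Fact (Nat.Prime 13) := ⟨by norm_num⟩
  obtain ⟨x, hx⟩ := exists_prime_orderOf_dvd_card' (G := K) 13 (by rw [I.ctx.card]; norm_num)
  obtain ⟨h1, h2⟩ := (H836.Main.thirteen_concl e).2 (zpowers x) (by rw [Nat.card_zpowers, hx])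
  rw [centralizer_zpowers_eq] at h2
  exact PairN.of_odd_even (r := 13) (by norm_num) (by norm_num) hx
    (by rw [h2, Nat.card_zpowers, hx]; norm_num) (by rw [h1]; norm_num)

end Cfsg.Agent.H729.PairFour
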