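import Cfsg.Agent.H684.EB.Base
import Cfsg.Agent.H611.EB.Odd
import Cfsg.Agent.S4481
import Cfsg.Agent.SmallSimple.OrderEight
import Cfsg.Agent.SmallSimple.EvenOrder
import Cfsg.Agent.Lib.SchurBound
import Cfsg.Agent.H571.SylowNumber

/-!
# S4515: the case where `P ∩ N` is a Klein four-group

`P` is dihedral of order 8, and the principal 2-block has a single character of even degree (S4481).
-/

set_option autoImplicit false

namespace Cfsg.Agent.H729.EB515CardFour

open Cfsg Cfsg.Agent.H610.EB Cfsg.Agent.Characters Cfsg.Agent.H694 Cfsg.Agent.Blocks.Local Cfsg.Agent.Blocks.Basic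
open scoped ComplexConjugate

universe u

section group

variable {G : Type u} [Group G] [Finite G]

theorem klein (N : Subgroup G) [N.Normal] (hN : IsSimpleGroup N) (hna : ¬ IsMulCommutative N)
    (P : Sylow 2 G) (hcard : Nat.card ((P : Subgroup G) ⊓ N : Subgroup G) = 4) :
    IsKleinFour ((P : Subgroup G) ⊓ N : Subgroup G) := by
  haveI := hN
  haveI : Fact (Nat.Prime 2) := ⟨Nat.prime_two⟩
  obtain ⟨T, hT⟩ := Cfsg.Agent.H571.SylowNumber.exists_sylow_inf P N
  have hT' : (T : Subgroup N) = ((P : Subgroup G) ⊓ N).subgroupOf N := by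
    rw [hT, Subgroup.inf_subgroupOf_right]
  have e : (T : Subgroup N) ≃* ((P : Subgroup G) ⊓ N : Subgroup G) :=
    (MulEquiv.subgroupCongr hT').trans (Subgroup.subgroupOfEquivOfLe inf_le_right)
  have h4 : Nat.card (T : Subgroup N) = 4 := by rw [Nat.card_congr e.toEquiv, hcard]
  have h2 : 2 ∣ Nat.card N := by
    have h3 := Subgroup.card_subgroup_dvd_card (T : Subgroup N)
    rw [h4] at h3
    exact (by norm_num : 2 ∣ 4).trans h3
  refine SmallSimple.KleinFourAut.isKleinFour_of_not_isCyclic hcard fun h => ?_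
  exact SmallSimple.EvenOrder.not_isCyclic_sylow_two hna h2 T
    (isCyclic_of_surjective e.symm e.symm.surjective)

theorem card_eight (N : Subgroup G) [N.Normal] (P : Sylow 2 G) (hP : ¬ IsMulCommutative P)
    (hcard : Nat.card ((P : Subgroup G) ⊓ N : Subgroup G) = 4)
    (hC : (P : Subgroup G) ⊓ Subgroup.centralizer (((P : Subgroup G) ⊓ N : Subgroup G) : Set G) ≤ N) :
    Nat.card P = 8 := by
  haveI : Fact (Nat.Prime 2) := ⟨Nat.prime_two⟩
  set Q : Subgroup P := N.subgroupOf P with hQ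
  have hQn : Q.Normal := Subgroup.Normal.subgroupOf inferInstance _
  have hQc : Nat.card Q = 4 := by
    rw [← hcard, hQ, ← Subgroup.inf_subgroupOf_left]
    exact Nat.card_congr (Subgroup.subgroupOfEquivOfLe inf_le_left).toEquiv
  have hker : (MulAut.conjNormal (H := Q)).ker ≤ Q := by
    intro g hg
    rw [hQ, Subgroup.mem_subgroupOf]
    refine hC ⟨g.2, Subgroup.mem_centralizer_iff.2 ?_⟩
    rintro x ⟨hx1, hx2⟩
    have h1 : (MulAut.conjNormal (H := Q) g) ⟨⟨x, hx1⟩, hx2⟩ = ⟨⟨x, hx1⟩, hx2⟩ := by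
      rw [MonoidHom.mem_ker.1 hg]
      rfl
    have h2 := congrArg (fun y : Q => ((y : P) : G)) h1
    simp only [MulAut.conjNormal_apply, Subgroup.coe_mul, Subgroup.coe_inv] at h2
    have h3 : (g : G) * x * (g : G)⁻¹ = x := h2
    exact (mul_inv_eq_iff_eq_mul.1 h3).symm
  have hidx : (MulAut.conjNormal (H := Q)).ker.index ∣ 6 := by
    rw [Subgroup.index_ker]
    refine (Subgroup.card_subgroup_dvd_card _).trans ?_
    have h1 := SmallSimple.KleinFourAut.card_mulAut_dvd Q
    rw [hQc] at h1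
    exact h1
  have hkc : Nat.card (MulAut.conjNormal (H := Q)).ker ∣ 4 := by
    rw [← hQc]
    exact Subgroup.card_dvd_of_le hker
  obtain ⟨m, hm⟩ := P.isPGroup'.exists_card_eq
  have hm' : Nat.card P = 2 ^ m := hm
  have hmul := Subgroup.card_mul_index (MulAut.conjNormal (H := Q)).ker
  have hi2 : (MulAut.conjNormal (H := Q)).ker.index ∣ 2 := by
    have h1 : (MulAut.conjNormal (H := Q)).ker.index ∣ 2 ^ m := by
      rw [← hm']
      exact Subgroup.index_dvd_card _
    have h2 : Nat.Coprime (MulAut.conjNormal (H := Q)).ker.index 3 :=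
      Nat.Coprime.of_dvd_left h1 (Nat.Coprime.pow_left m (by norm_num))
    exact h2.dvd_of_dvd_mul_right (show _ ∣ 2 * 3 from hidx)
  have h8 : Nat.card P ∣ 8 := by
    rw [← hmul]
    exact mul_dvd_mul hkc hi2
  have h4 : 4 ∣ Nat.card P := by
    rw [← hQc]
    exact Subgroup.card_subgroup_dvd_card Q
  obtain ⟨c, hc⟩ := h4
  have hne : Nat.card P ≠ 4 := by
    intro h
    apply hP
    exact IsPGroup.isMulCommutative_of_card_eq_prime_sq (p := 2) (by rw [h]; norm_num)
  have hle := Nat.le_of_dvd (by norm_num) h8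
  have hpos : 0 < Nat.card P := Nat.card_pos
  omega

theorem dihedral (N : Subgroup G) [N.Normal] (hN : IsSimpleGroup N) (hna : ¬ IsMulCommutative N)
    (P : Sylow 2 G) (hP : ¬ IsMulCommutative P)
    (hcard : Nat.card ((P : Subgroup G) ⊓ N : Subgroup G) = 4)
    (hC : (P : Subgroup G) ⊓ Subgroup.centralizer (((P : Subgroup G) ⊓ N : Subgroup G) : Set G) ≤ N) :
    Nonempty ((P : Subgroup G) ≃* DihedralGroup 4) := by
  rcases SmallSimple.OrderEight.dihedral_or_quaternion_of_card_eight (card_eight N P hP hcard hC) hP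
    with h | ⟨⟨e⟩⟩
  · exact h
  · exfalso
    have hK := klein N hN hna P hcard
    have h1 : ∀ x : QuaternionGroup 2, x * x = 1 → x = 1 ∨ x = QuaternionGroup.a 2 := by decide
    let f : ((P : Subgroup G) ⊓ N : Subgroup G) →* QuaternionGroup 2 :=
      e.toMonoidHom.comp (Subgroup.inclusion inf_le_left)
    have hf : Function.Injective f := e.injective.comp (Subgroup.inclusion_injective _)
    have h2 : ∀ r, f r = 1 ∨ f r = QuaternionGroup.a 2 := fun r => h1 _ (by
      rw [← map_mul, IsKleinFour.mul_self, map_one])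
    have h3 : Function.Injective (fun r => decide (f r = 1)) := by
      intro r s hrs
      apply hf
      have h4 : (f r = 1) ↔ (f s = 1) := by simpa using hrs
      rcases h2 r with hr | hr <;> rcases h2 s with hs | hs
      · rw [hr, hs]
      · exact hr.trans (h4.1 hr).symm
      · exact (h4.2 hs).trans hs.symm
      · rw [hr, hs]
    have h4 := Nat.card_le_card_of_injective _ h3
    rw [hcard] at h4
    simp at h4

end group

theorem even_iff_of_val {G : Type u} [Group G] [Finite G] (χ : IrrCharacter G) {σ : G} {j : ℕ}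
    (hσ : σ ^ 2 ^ j = 1) {c : ℤ} (hc : (χ : G → ℂ) σ = c) :
    Even (charDegree (χ : G → ℂ)) ↔ Even c := by
  have h1 := Cfsg.Agent.Lib.SchurBound.dvd_sub_of_pow (Core.isIrr_isCharacter χ.2) Nat.prime_two hσ
    (irr_one_eq_charDegree χ.2) hc
  rw [Nat.cast_ofNat, ← even_iff_two_dvd, Int.even_sub] at h1
  rw [← h1, Int.even_coe_nat]

theorem exists_even_of_card_four {G : Type u} [Group G] [Fintype G] {M : Ideal AlgInt}
    (hM : IsPModular 2 M) {k : ℕ} (hk : IsK G k) (N : Subgroup G) [N.Normal]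
    (hN : IsSimpleGroup N) (hna : ¬ IsMulCommutative N) (P : Sylow 2 G)
    (hP : ¬ IsMulCommutative P) (hcard : Nat.card ((P : Subgroup G) ⊓ N : Subgroup G) = 4)
    (hC : (P : Subgroup G) ⊓ Subgroup.centralizer (((P : Subgroup G) ⊓ N : Subgroup G) : Set G) ≤ N) :
    ∃ χ ∈ principalBlock M G, Even (charDegree (χ : G → ℂ)) ∧
      ∀ g : G, (χ : G → ℂ) (g ^ k) = (χ : G → ℂ) g := by
  obtain ⟨e⟩ := dihedral N hN hna P hP hcard hC
  -- an element of order four
  let σ : (P : Subgroup G) := e.symm (DihedralGroup.r 1)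
  have hσ : orderOf (σ : G) = 2 ^ (3 - 1) := by
    rw [Subgroup.orderOf_coe, MulEquiv.orderOf_eq, DihedralGroup.orderOf_r_one]
    norm_num
  have hI : IsPrimitiveRoot Complex.I (2 ^ (3 - 1)) := by
    refine IsPrimitiveRoot.mk_of_lt _ (by norm_num) (by norm_num) ?_
    intro l h0 h1
    have h2 : l < 4 := by simpa using h1
    interval_cases l
    · rw [pow_one]
      intro h
      have := congrArg Complex.re h
      simp at this
    · rw [Complex.I_sq]
      norm_num
    · rw [Complex.I_pow_three]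
      intro h
      have := congrArg Complex.re h
      simp at this
  obtain ⟨-, χ₁, χ₂, χ₃, χ', δ₁, δ₂, δ₃, hδ₁, hδ₂, hδ₃, -, -, -, -, -, -, -, -, hset, hval, -⟩ :=
    Cfsg.Agent.S4481.result M hM 3 le_rfl P ⟨e⟩ (σ : G) σ.2 hσ Complex.I hI
  obtain ⟨v1, v2, v3, v4⟩ := hval 1 one_pos (by norm_num)
  have hσ4 : (σ : G) ^ 2 ^ 2 = 1 := by
    rw [← orderOf_dvd_iff_pow_eq_one, hσ]
  rw [pow_one] at v1 v2 v3
  let j₀ : Fin (2 ^ (3 - 2) - 1) := ⟨0, by norm_num⟩
  have hj : ∀ j, j = j₀ := by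
    intro j
    apply Fin.ext
    have h1 : (j : ℕ) < 1 := j.2
    show (j : ℕ) = 0
    omega
  have hsgn : ∀ {δ : ℤ}, (δ = 1 ∨ δ = -1) → ¬ Even δ := by
    rintro δ (rfl | rfl) <;> decide
  have o1 : ¬ Even (charDegree (χ₁ : G → ℂ)) := by
    rw [even_iff_of_val χ₁ hσ4 v1]
    exact hsgn hδ₁
  have o2 : ¬ Even (charDegree (χ₂ : G → ℂ)) := by
    rw [even_iff_of_val χ₂ hσ4 (c := δ₂) (by rw [v2]; norm_num)]
    exact hsgn hδ₂
  have o3 : ¬ Even (charDegree (χ₃ : G → ℂ)) := by
    rw [even_iff_of_val χ₃ hσ4 (c := δ₃) (by rw [v3]; norm_num)]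
    exact hsgn hδ₃
  have e4 : Even (charDegree (χ' j₀ : G → ℂ)) := by
    rw [even_iff_of_val (χ' j₀) hσ4 (c := 0) ?_]
    · exact ⟨0, rfl⟩
    · have h1 := v4 j₀
      rw [pow_one] at h1
      rw [h1]
      simp [j₀]
  have hmem : χ' j₀ ∈ principalBlock M G := by
    rw [hset]
    exact Or.inr (Or.inr (Or.inr (Or.inr ⟨j₀, rfl⟩)))
  refine ⟨χ' j₀, hmem, e4, fun g => ?_⟩
  have h1 := pw_mem hk hmem
  have h2 := charDegree_pw hk (χ' j₀)
  rw [hset] at h1
  have h3 : Cfsg.Agent.H610.Twist.pw hk.coprime (χ' j₀) = χ' j₀ := by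
    rcases h1 with h1 | h1 | h1 | h1 | ⟨j, h1⟩
    · exfalso
      rw [h1] at h2
      rw [← h2] at e4
      rw [charDegree_def] at e4
      simp at e4
    · exfalso
      rw [h1] at h2
      rw [← h2] at e4
      exact o1 e4
    · exfalso
      rw [h1] at h2
      rw [← h2] at e4
      exact o2 e4
    · exfalso
      rw [h1] at h2
      rw [← h2] at e4
      exact o3 e4
    · rw [h1, hj j]
  have h4 := congrArg (fun χ : IrrCharacter G => (χ : G → ℂ) g) h3
  simp only [Cfsg.Agent.H610.Twist.pw_apply] at h4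
  exact h4

end Cfsg.Agent.H729.EB515CardFour
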