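import Cfsg.Agent.H729.NFConway
import Cfsg.Agent.H729.NFJanko
import Cfsg.Agent.H729.NFFi
import Cfsg.Agent.H729.NFHe
import Cfsg.Agent.H729.NFBaby
import Cfsg.Agent.H729.NFMonster
import Cfsg.Agent.H729.NFLy
import Cfsg.Agent.H729.NFTh
import Cfsg.Agent.H729.NFHN
import Cfsg.Agent.H729.NFM12
import Cfsg.Agent.H119.NFRu
import Cfsg.Agent.H740.NFJ2

/-!
# `NF` for the sporadic groups (S5773, helper729)

All sporadic groups except `M11`, from the rows `M22`, `HS`, `McL`.
-/

set_option autoImplicit false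

namespace Cfsg.Agent.H729.NFSpor

open Cfsg Cfsg.Agent.H176.NF

universe u

variable {S : Type u} [Group S] [Finite S]

/-- **`NF` for the sporadic groups except `M11`.** -/
theorem spor (hm22 : Spor.IsoM22 S → NF S) (hhs : Spor.IsoHS S → NF S) (hmcl : Spor.IsoMcL S → NF S)
    (h : IsSporadicGroup S) : Spor.IsoM11 S ∨ NF S := by
  rcases h with h | h | h | h | h | h | h | h | h | h | h | h | h | h | h | h | h | h | h | h | h | h | h | h | h | h
  · exact Or.inl h
  · exact Or.inr (NFM12.m12 h)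
  · exact Or.inr (hm22 h)
  · exact Or.inr (NFConway.m23 h)
  · exact Or.inr (NFConway.m24 h)
  · exact Or.inr (NFJanko.j1 h)
  · exact Or.inr (H740.NFJ2.nf_j2 h)
  · exact Or.inr (NFJanko.j3 h)
  · exact Or.inr (NFJanko.j4 h)
  · exact Or.inr (NFConway.co1 h)
  · exact Or.inr (NFConway.co2 h)
  · exact Or.inr (NFConway.co3 h)
  · exact Or.inr (hmcl h)
  · exact Or.inr (hhs h)
  · exact Or.inr (NFConway.suz h)
  · exact Or.inr (NFHe.he h)
  · exact Or.inr (H119.NFRu.ru h)
  · exact Or.inr (NFJanko.on h)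
  · exact Or.inr (NFLy.ly h)
  · exact Or.inr (NFFi.fi22 h)
  · exact Or.inr (NFFi.fi23 h)
  · exact Or.inr (NFFi.fi24 h)
  · exact Or.inr (NFHN.hn h)
  · exact Or.inr (NFTh.th h)
  · exact Or.inr (NFBaby.b h)
  · exact Or.inr (NFMonster.m h)

end Cfsg.Agent.H729.NFSpor
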