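import Cfsg.Agent.H453.OddM.Defs
import Cfsg.Agent.SporadicRecognition.CoxPres

/-!
# Real elements of order 5 from four Coxeter generators of type `A₄` (helper729)

`realP_five` : `a - b - c - d` a chain of involutions (Coxeter relations of `A₄`) with `a ≠ b`: the product
`(a c) (b d)` is a real element of order `5`.
-/

set_option autoImplicit false
set_option linter.unusedSimpArgs false

namespace Cfsg.Agent.H729.OddAFour

open Cfsg Cfsg.Agent.H453.OddM

variable {G : Type*} [Group G]

/-- braid relation from `(x y)^3 = 1` -/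
theorem braid {x y : G} (hx : x * x = 1) (hy : y * y = 1) (h : (x * y) ^ 3 = 1) : y * (x * y) = x * (y * x) := by
  have h1 : x⁻¹ = x := (eq_inv_of_mul_eq_one_left hx).symm
  have h2 : y⁻¹ = y := (eq_inv_of_mul_eq_one_left hy).symm
  have h3 : (x * y * x) * (y * x * y) = 1 := by
    rw [← h, pow_succ, pow_two]; group
  have h4 : y * x * y = (x * y * x)⁻¹ := (inv_eq_of_mul_eq_one_right h3).symm
  rw [mul_inv_rev, mul_inv_rev, h1, h2] at h4
  rw [← mul_assoc, h4]

/-- commutation from `(x y)^2 = 1` -/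
theorem comm {x y : G} (hx : x * x = 1) (hy : y * y = 1) (h : (x * y) ^ 2 = 1) : y * x = x * y := by
  have h1 : x⁻¹ = x := (eq_inv_of_mul_eq_one_left hx).symm
  have h2 : y⁻¹ = y := (eq_inv_of_mul_eq_one_left hy).symm
  have h3 : (x * y)⁻¹ = x * y := by
    rw [pow_two] at h
    exact inv_eq_of_mul_eq_one_right h
  rw [mul_inv_rev, h1, h2] at h3
  exact h3

theorem eq_of_comm {x y : G} (hx : x * x = 1) (hy : y * y = 1) (h3 : (x * y) ^ 3 = 1) (h2 : y * x = x * y) :
    x = y := by
  have h := braid hx hy h3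
  have l : y * (x * y) = x := by rw [← mul_assoc, h2, mul_assoc, hy, mul_one]
  have r : x * (y * x) = y := by rw [h2, ← mul_assoc, hx, one_mul]
  rw [l, r] at h
  exact h

theorem pow_five {a b c d : G} (ha : a * a = 1) (hb : b * b = 1) (hc : c * c = 1) (hd : d * d = 1)
    (hab : (a * b) ^ 3 = 1) (hbc : (b * c) ^ 3 = 1) (hcd : (c * d) ^ 3 = 1)
    (hac : (a * c) ^ 2 = 1) (had : (a * d) ^ 2 = 1) (hbd : (b * d) ^ 2 = 1) :
    ((a * c) * (b * d)) ^ 5 = 1 := by
  have a1 := ha
  have a2 : ∀ x, a * (a * x) = x := fun x => by rw [← mul_assoc, ha, one_mul]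
  have b2 : ∀ x, b * (b * x) = x := fun x => by rw [← mul_assoc, hb, one_mul]
  have c2 : ∀ x, c * (c * x) = x := fun x => by rw [← mul_assoc, hc, one_mul]
  have d2 : ∀ x, d * (d * x) = x := fun x => by rw [← mul_assoc, hd, one_mul]
  have e1 : c * a = a * c := comm ha hc hac
  have e1' : ∀ x, c * (a * x) = a * (c * x) := fun x => by rw [← mul_assoc, e1, mul_assoc]
  have e2 : d * a = a * d := comm ha hd had
  have e2' : ∀ x, d * (a * x) = a * (d * x) := fun x => by rw [← mul_assoc, e2, mul_assoc]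
  have e3 : d * b = b * d := comm hb hd hbd
  have e3' : ∀ x, d * (b * x) = b * (d * x) := fun x => by rw [← mul_assoc, e3, mul_assoc]
  have f1 : b * (a * b) = a * (b * a) := braid ha hb hab
  have f1' : ∀ x, b * (a * (b * x)) = a * (b * (a * x)) := fun x => by
    rw [← mul_assoc a b x, ← mul_assoc b _ x, f1, mul_assoc, mul_assoc]
  have f2 : c * (b * c) = b * (c * b) := braid hb hc hbc
  have f2' : ∀ x, c * (b * (c * x)) = b * (c * (b * x)) := fun x => by
    rw [← mul_assoc b c x, ← mul_assoc c _ x, f2, mul_assoc, mul_assoc]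
  have f3 : d * (c * d) = c * (d * c) := braid hc hd hcd
  have f3' : ∀ x, d * (c * (d * x)) = c * (d * (c * x)) := fun x => by
    rw [← mul_assoc c d x, ← mul_assoc d _ x, f3, mul_assoc, mul_assoc]
  -- the derived rules
  have g1' : ∀ x, c * (b * (a * (c * x))) = b * (c * (b * (a * x))) := fun x => by
    rw [← e1' x, f2']
  have g1 : c * (b * (a * c)) = b * (c * (b * a)) := by simpa using g1' 1
  have g2' : ∀ x, d * (c * (b * (d * x))) = c * (d * (c * (b * x))) := fun x => by
    rw [← e3' x, f3']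
  have g2 : d * (c * (b * d)) = c * (d * (c * b)) := by simpa using g2' 1
  have g3' : ∀ x, d * (c * (b * (a * (d * x)))) = c * (d * (c * (b * (a * x)))) := fun x => by
    rw [← e2' x, ← e3', f3']
  have g3 : d * (c * (b * (a * d))) = c * (d * (c * (b * a))) := by simpa using g3' 1
  simp only [pow_succ, pow_zero, one_mul, mul_assoc, ha, hb, hc, hd, a2, b2, c2, d2, e1, e1', e2, e2', e3, e3', f1, f1',
    f2, f2', f3, f3', g1, g1', g2, g2', g3, g3', mul_one]

theorem realP_five {a b c d : G} (ha : a * a = 1) (hb : b * b = 1) (hc : c * c = 1) (hd : d * d = 1)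
    (hab : (a * b) ^ 3 = 1) (hbc : (b * c) ^ 3 = 1) (hcd : (c * d) ^ 3 = 1)
    (hac : (a * c) ^ 2 = 1) (had : (a * d) ^ 2 = 1) (hbd : (b * d) ^ 2 = 1) (hne : a ≠ b) : RealP G 5 := by
  refine ⟨(a * c) * (b * d), ?_, IsReal.of_mul hac hbd⟩
  have : Fact (Nat.Prime 5) := ⟨by norm_num⟩
  apply orderOf_eq_prime (pow_five ha hb hc hd hab hbc hcd hac had hbd)
  intro h
  have e1 : c * a = a * c := comm ha hc hac
  have e2 : d * a = a * d := comm ha hd had
  have h1 : a * c = d * b := by
    have h2 : a * c = (b * d)⁻¹ := eq_inv_of_mul_eq_one_left h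
    have h3 : b⁻¹ = b := (eq_inv_of_mul_eq_one_left hb).symm
    have h4 : d⁻¹ = d := (eq_inv_of_mul_eq_one_left hd).symm
    rw [mul_inv_rev, h3, h4] at h2
    exact h2
  have h2 : b = d * (a * c) := by rw [h1, ← mul_assoc, hd, one_mul]
  apply hne
  apply eq_of_comm ha hb hab
  rw [h2]
  calc d * (a * c) * a = d * a * (c * a) := by group
    _ = (a * d) * (a * c) := by rw [e1, e2]
    _ = a * (d * (a * c)) := by group

/-! ### Coxeter presentations -/

section cox

variable {α : Type*} [DecidableEq α] {edges : List (α × ℕ × α)} {extra : List (FreeGroup α)}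

open SporadicRecognition.CoxPres

/-- label -/
theorem lab {n : ℕ} (x y : α) (hx : x ∈ Spor.coxNodes edges) (hy : y ∈ Spor.coxNodes edges)
    (hl : Spor.coxLabel edges x y = n) :
    ((PresentedGroup.of x * PresentedGroup.of y : Spor.CoxPresented α edges extra)) ^ n = 1 := by
  rw [← hl]
  exact cox_rel x y hx hy

theorem lab1 (x : α) (hx : x ∈ Spor.coxNodes edges) (hl : Spor.coxLabel edges x x = 1) :
    (PresentedGroup.of x * PresentedGroup.of x : Spor.CoxPresented α edges extra) = 1 := by
  have := lab (extra := extra) x x hx hx hl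
  rwa [pow_one] at this

end cox

end Cfsg.Agent.H729.OddAFour
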