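import Cfsg.Agent.H729.PairBase
import Cfsg.Agent.CpAutTh.Local
import Cfsg.Agent.KFacts.Th.Main
import Cfsg.Agent.MonsterX.ThOneClass

/-!
# The coprime pair in the Thompson group

`x = γ 6` of order 7, `y = γ 4 γ 3` of order 8 inverting `x`; no element of order 7 commutes with an element of
order 8.
-/

set_option autoImplicit false
set_option maxRecDepth 100000

namespace Cfsg.Agent.H729.PairTh

open Subgroup Cfsg
open Cfsg.Agent.Th.Base Cfsg.Agent.Th.Word Cfsg.Agent.Th.RelWords Cfsg.Agent.Th.PermTab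
  Cfsg.Agent.Th.KOracle Cfsg.Agent.Th.KPerm Cfsg.Agent.Th.NineAct Cfsg.Agent.Th.CStruct
  Cfsg.Agent.Th.COracleDef Cfsg.Agent.Th.COracleSound
open Cfsg.Agent.KFacts.Th.Mask Cfsg.Agent.KFacts.Th.Struct
open Cfsg.Agent.CpAutTh.Data Cfsg.Agent.CpAutTh.Alt Cfsg.Agent.CpAutTh.Local
open Cfsg.Agent.H729.PairBase

/-- the word of `y` -/
def Y : List ℕ := [4, 3]

theorem y4 : corc (Y ++ (Y ++ (Y ++ (Y ++ [1])))) = true := by decide +kernel

theorem yx : corc (Y ++ ([6] ++ (iw Y ++ [6]))) = true := by decide +kernel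

theorem cY : ∀ x ∈ Y, isC x = true := by decide +kernel

/-- a permutation of nine points commuting with a 7-cycle is a 2-element only if it is trivial or a transposition -/
theorem seven_two {σ τ : Equiv.Perm (Fin 9)} (hσ : σ ^ 8 = 1) (hs : Equiv.Perm.sign σ = 1) (hτ : τ.cycleType = {7})
    (hc : σ * τ = τ * σ) : σ = 1 := by
  classical
  have hsup : τ.support.card = 7 := by
    rw [← Equiv.Perm.sum_cycleType, hτ]; rfl
  have hcyc : τ.IsCycle := by
    rw [← Equiv.Perm.card_cycleType_eq_one, hτ]; rfl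
  -- `σ` acts on the support of `τ` as a power of `τ`
  obtain ⟨a, ha⟩ : ∃ a, τ a ≠ a := hcyc.imp fun a h => h.1
  have hcomm : Commute σ τ := hc
  have h1 : τ (σ a) ≠ σ a := by
    intro h
    apply ha
    have h2 : τ (σ a) = σ (τ a) := by
      have := congrArg (fun f : Equiv.Perm (Fin 9) => f a) hc
      exact this.symm
    rw [h2] at h
    exact σ.injective h
  obtain ⟨i, hi⟩ := hcyc.exists_pow_eq ha h1
  have hord : orderOf τ = 7 := by rw [hcyc.orderOf, hsup]
  -- `σ = τ ^ i` on the support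
  have h3 : ∀ b, τ b ≠ b → σ b = (τ ^ i) b := by
    intro b hb
    obtain ⟨j, rfl⟩ := hcyc.exists_pow_eq ha hb
    have h4 : σ ((τ ^ j) a) = (τ ^ j) (σ a) := by
      have := congrArg (fun f : Equiv.Perm (Fin 9) => f a) (hcomm.pow_right j).eq
      exact this
    rw [h4, ← hi, ← Equiv.Perm.mul_apply, ← Equiv.Perm.mul_apply, ← pow_add, ← pow_add, add_comm]
  -- `τ ^ (8 i) = 1`
  have h5 : ∀ n : ℕ, (σ ^ n) a = (τ ^ (i * n)) a := by
    intro n
    induction n with
    | zero => simp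
    | succ n ih =>
      rw [pow_succ', Equiv.Perm.mul_apply, ih]
      have h6 : τ ((τ ^ (i * n)) a) ≠ (τ ^ (i * n)) a := by
        intro h
        apply ha
        rw [← Equiv.Perm.mul_apply, ← pow_succ', pow_succ, Equiv.Perm.mul_apply] at h
        exact (τ ^ (i * n)).injective h
      rw [h3 _ h6, ← Equiv.Perm.mul_apply, ← pow_add]
      congr 2
      ring
  have h6 : (τ ^ (i * 8)) a = a := by rw [← h5, hσ]; rfl
  have h7 : τ ^ (i * 8) = 1 := by
    by_contra hne
    have := (hcyc.pow_eq_one_iff' ha).2 h6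
    exact hne this
  have h8 : 7 ∣ i * 8 := by rw [← hord]; exact orderOf_dvd_of_pow_eq_one h7
  have h9 : 7 ∣ i := by omega
  have h10 : τ ^ i = 1 := by rw [← orderOf_dvd_iff_pow_eq_one, hord]; exact h9
  -- the support of `σ` has at most two points
  have h11 : σ.support ⊆ τ.supportᶜ := by
    intro b hb
    rw [Finset.mem_compl, Equiv.Perm.mem_support, not_not]
    by_contra hne
    rw [Equiv.Perm.mem_support] at hb
    apply hb
    rw [h3 b hne, h10]
    rfl
  have h12 : σ.support.card ≤ 2 := by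
    refine (Finset.card_le_card h11).trans ?_
    rw [Finset.card_compl, hsup]
    simp
  by_contra hne
  have h13 : σ.support.card = 2 := by
    have h14 := Equiv.Perm.one_lt_card_support_of_ne_one hne
    omega
  have h15 := (Equiv.Perm.card_support_eq_two.1 h13).sign_eq
  rw [hs] at h15
  exact absurd h15 (by decide)

section

variable {G : Type*} [Group G] {γ : ℕ → G} (h : Ctx γ)
include h

theorem y4' : (γ 4 * γ 3) ^ 4 = γ 1 := by
  have h1 := ev_one h y4
  have h2 : ev γ Y = γ 4 * γ 3 := by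
    show γ 4 * (γ 3 * 1) = _
    rw [mul_one]
  rw [ev_append, ev_append, ev_append, ev_append, ev_singleton, h2] at h1
  have h3 : (γ 4 * γ 3) ^ 4 * γ 1 = 1 := by
    rw [← h1]
    simp only [pow_succ, pow_zero, one_mul, mul_assoc]
  rw [eq_inv_of_mul_eq_one_left h3]
  exact inv_eq_of_mul_eq_one_right h.aa

theorem yx' : (γ 4 * γ 3) * γ 6 * (γ 4 * γ 3)⁻¹ = (γ 6)⁻¹ := by
  have h1 := ev_one h yx
  have h2 : ev γ Y = γ 4 * γ 3 := by
    show γ 4 * (γ 3 * 1) = _
    rw [mul_one]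
  rw [ev_append, ev_append, ev_append, ev_singleton, ev_iw h.inv, h2] at h1
  rw [eq_inv_iff_mul_eq_one, ← h1]
  group

/-- **No element of order 7 commutes with an element of order 8.** -/
theorem no_56 (hone : ∀ u : G, orderOf u = 2 → ∃ g : G, g * u * g⁻¹ = γ 1) {g y : G} (hg : orderOf g = 7)
    (hy : orderOf y = 8) : ¬ Commute g y := by
  intro hc
  have hfin := h.fin
  obtain ⟨k, hk⟩ := hone (y ^ 4) (by
    rw [orderOf_pow' y (by norm_num), hy]; norm_num)
  obtain ⟨f, F⟩ := exists_epi h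
  set y' := k * y * k⁻¹ with hy'
  set g' := k * g * k⁻¹ with hg'
  have hy4 : y' ^ 4 = γ 1 := by rw [hy', conj_pow, hk]
  have hyo : orderOf y' = 8 := by
    rw [← hy]; exact orderOf_injective (MulAut.conj k).toMonoidHom (MulAut.conj k).injective y
  have hgo : orderOf g' = 7 := by
    rw [← hg]; exact orderOf_injective (MulAut.conj k).toMonoidHom (MulAut.conj k).injective g
  have hc' : Commute g' y' := by
    show k * g * k⁻¹ * (k * y * k⁻¹) = k * y * k⁻¹ * (k * g * k⁻¹)
    calc k * g * k⁻¹ * (k * y * k⁻¹) = k * (g * y) * k⁻¹ := by group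
      _ = k * (y * g) * k⁻¹ := by rw [hc.eq]
      _ = k * y * k⁻¹ * (k * g * k⁻¹) := by group
  have hyC : y' ∈ sub γ isC := by
    rw [h.mem_C, ← hy4]
    exact ((Commute.refl y').pow_right 4).eq
  have hgC : g' ∈ sub γ isC := by
    rw [h.mem_C, ← hy4]
    exact (hc'.pow_right 4).eq
  have := finC h
  have h7 : Nat.Prime 7 := by norm_num
  have h1 : orderOf (⟨g', hgC⟩ : sub γ isC) = 7 := by rw [← hgo]; exact Subgroup.orderOf_mk _ _
  have h2 := ord_f h F h7 (by norm_num) h1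
  obtain ⟨n, hn, hn9⟩ := cyc_prime h7 _ h2
  have hn0 : n = 0 := by omega
  subst hn0
  have h3 : f ⟨y', hyC⟩ = 1 := by
    apply Subtype.ext
    refine seven_two (σ := (f ⟨y', hyC⟩ : Equiv.Perm (Fin 9)))
      (τ := (f ⟨g', hgC⟩ : Equiv.Perm (Fin 9))) ?_ ?_ (by rw [hn]; rfl) ?_
    · have h4 : (⟨y', hyC⟩ : sub γ isC) ^ 8 = 1 := Subtype.ext (by
        show y' ^ 8 = 1
        rw [← hyo, pow_orderOf_eq_one])
      have h5 := congrArg f h4
      rw [map_pow, map_one] at h5
      exact congrArg Subtype.val h5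
    · exact Equiv.Perm.mem_alternatingGroup.1 (f ⟨y', hyC⟩).2
    · have h4 : (⟨y', hyC⟩ : sub γ isC) * ⟨g', hgC⟩ = ⟨g', hgC⟩ * ⟨y', hyC⟩ := Subtype.ext hc'.eq.symm
      have h5 := congrArg f h4
      rw [map_mul, map_mul] at h5
      exact congrArg Subtype.val h5
  have h4 : y' ∈ Q0 γ := (mem_ker F).1 (MonoidHom.mem_ker.2 h3)
  obtain ⟨π, D⟩ := Cfsg.Agent.KFacts.Th.Main.exists_data h
  have h5 : y' ^ 4 = 1 := by
    have e : y' ^ 4 = (y' * y') * (y' * y') := by simp only [pow_succ, pow_zero, one_mul, mul_assoc]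
    rw [e]
    rcases D.large.sq y' h4 with h6 | h6
    · rw [h6, one_mul]
    · rw [h6, D.large.z_sq]
  have h6 := orderOf_dvd_of_pow_eq_one h5
  rw [hyo] at h6
  norm_num at h6

theorem pairN_ctx (hone : ∀ u : G, orderOf u = 2 → ∃ g : G, g * u * g⁻¹ = γ 1) : PairN G := by
  have hfin := h.fin
  have hy8 : orderOf (γ 4 * γ 3) = 8 := by
    have h1 : (γ 4 * γ 3) ^ 2 ^ 3 = 1 := by
      rw [show (2 : ℕ) ^ 3 = 4 * 2 from rfl, pow_mul, y4' h, pow_two, h.aa]
    have h2 : ¬ (γ 4 * γ 3) ^ 2 ^ 2 = 1 := by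
      rw [show (2 : ℕ) ^ 2 = 4 from rfl, y4' h]
      exact h.a1
    have : Fact (Nat.Prime 2) := ⟨Nat.prime_two⟩
    exact orderOf_eq_prime_pow h2 h1
  have hx7 : orderOf (γ 6) = 7 := by
    obtain ⟨f, F⟩ := exists_epi h
    have h1 := o7 h F
    rw [Subgroup.orderOf_mk] at h1
    have h2 : ev γ X7 = γ 6 := by
      show γ 6 * 1 = _
      rw [mul_one]
    rwa [h2] at h1
  refine PairN.of_cent (r := 7) (x := γ 6) (y := γ 4 * γ 3) (by norm_num) (by norm_num) hx7 ?_ ⟨3, hy8⟩ ?_ ?_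
  · intro h1
    rw [h1, orderOf_one] at hy8
    norm_num at hy8
  · refine mem_normalizer_of_conj_pow (k := 6) ?_
    rw [yx' h]
    rw [inv_eq_iff_mul_eq_one, ← pow_succ']
    have h1 := pow_orderOf_eq_one (γ 6)
    rwa [hx7] at h1
  · intro g hg hc
    exact no_56 h hone hg hy8 hc

end

theorem th_model : PairN Spor.Th :=
  pairN_ctx Cfsg.Agent.KFacts.Th.Main.ctx fun u hu =>
    isConj_iff.1 (Cfsg.Agent.MonsterX.ThOneClass.oneClass u (Cfsg.Agent.Th.IndexUpper.gTh 1) hu
      Cfsg.Agent.MonsterX.ThOneClass.orderOf_a)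

/-- **The row `Th`.** -/
theorem th {K : Type*} [Group K] (h : Spor.IsoTh K) : PairN K := by
  obtain ⟨e⟩ := h
  exact PairN.congr e.symm th_model

end Cfsg.Agent.H729.PairTh
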