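import Cfsg.Agent.H729.PairM11
import Cfsg.Agent.H729.PairMathieu
import Cfsg.Agent.H729.PairJ1
import Cfsg.Agent.H729.PairTable
import Cfsg.Agent.H729.PairFour
import Cfsg.Agent.H729.PairHS
import Cfsg.Agent.H729.PairHe
import Cfsg.Agent.H729.PairON
import Cfsg.Agent.H729.PairMT
import Cfsg.Agent.H729.PairCoN
import Cfsg.Agent.H729.PairCo3N
import Cfsg.Agent.H729.PairHN
import Cfsg.Agent.H729.PairTh
import Cfsg.Agent.H729.PairTits
import Cfsg.Agent.H729.PairMB
import Cfsg.Agent.H463.Sp.Fi24
import Cfsg.Agent.H463.Sp.Fi23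
import Cfsg.Agent.H463.Sp.J4

/-! # `PairN` for all sporadic groups and the Tits group (helper729, helper463) -/

set_option autoImplicit false

namespace Cfsg.Agent.H729.PairSpor

open Cfsg Cfsg.Agent.H729.PairBase Cfsg.Agent.H463.Pair Cfsg.Agent.H729 Cfsg.Agent.H463.Sp

universe u

/-- `J4`. -/
theorem j4 {K : Type u} [Group K] [Finite K] (h : Spor.IsoJ4 K) : PairN K := by
  obtain ⟨e⟩ := h
  have : Finite Spor.J4 := Finite.of_equiv _ e.toEquiv
  exact PairN.congr e.symm J4.pairN_model

/-- **`PairN` for the sporadic groups.** -/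
theorem pairN {K : Type u} [Group K] [Finite K] (h : IsSporadicGroup K) : PairN K := by
  rcases h with h | h | h | h | h | h | h | h | h | h | h | h | h | h | h | h | h | h | h | h | h | h | h | h | h | h
  · exact PairM11.pairN h
  · exact PairMathieu.m12 h
  · exact PairMathieu.m22 h
  · exact PairMathieu.m23 h
  · exact PairMathieu.m24 h
  · exact PairJ1.j1 h
  · exact PairTable.j2 h
  · exact PairFour.j3 h
  · exact j4 h
  · exact PairCoN.co1 h
  · exact PairCoN.co2 h
  · exact PairCo3N.co3 h
  · exact PairMT.mcl h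
  · exact PairHS.hs h
  · exact PairTable.suz h
  · exact PairHe.he h
  · exact PairTable.ru h
  · exact PairON.on h
  · exact PairMT.ly h
  · exact PairFour.fi22 h
  · exact Fi23.pairN h
  · exact Fi24.pairN h
  · exact PairHN.hn h
  · exact PairTh.th h
  · exact PairMB.b h
  · exact PairMB.m h

/-- **`PairN` for the Tits group.** -/
theorem tits {K : Type u} [Group K] (h : Lie.IsoTits K) : PairN K := PairTits.tits h

end Cfsg.Agent.H729.PairSpor
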