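import Cfsg.Agent.H729.RealBase
import Cfsg.Agent.H729.PairM11
import Cfsg.Agent.H729.PairMathieu
import Cfsg.Agent.H729.PairJ1
import Cfsg.Agent.H729.PairTable
import Cfsg.Agent.H729.PairHe

/-!
# `RealOdd` for `M11`, `M22`, `M23`, `M24`, `J1`, `J2`, `Ru`, `Suz`, `He` (S2248, helper729)
-/

set_option autoImplicit false
set_option maxRecDepth 100000

namespace Cfsg.Agent.H729.RealSmall

open Cfsg Cfsg.Agent.H729.PairBase Cfsg.Agent.H729 Subgroup Cfsg.Agent.H101.RO

variable {K : Type*} [Group K]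

theorem m11 (h : Spor.IsoM11 K) : RealOdd K := by
  have hG := Cit.Eleven.isM11 h
  have : Finite K := Nat.finite_of_card_ne_zero (by rw [hG.2]; norm_num)
  have := hG.1
  exact RealBase.of_card_fermat (r := 5) (k := 2) (by norm_num) (by norm_num) (by norm_num)
    (by rw [hG.2]; norm_num) (by rw [hG.2]; norm_num) (by rw [hG.2]; norm_num) (PairM11.noTwo h)

section
open Cfsg.Agent.H729.PairMathieu Cfsg.Agent.SporadicA.MathieuRecog
open Cfsg.Agent.SporadicStructure.M24El Cfsg.Agent.H729.Trans Cfsg.Agent.H729.MData Cfsg.Agent.H729.Count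
open Cfsg.Agent.H729.M24Deg Cfsg.Agent.H729.M22Deg Cfsg.Agent.SporadicA.GolayBase Cfsg.Agent.SporadicA.GolayPerm

theorem real24 : RealOdd M24 := by
  have : IsSimpleGroup M24 := Cfsg.Agent.S0365.result
  refine RealBase.of_card_cent (r := 11) (m := 22256640) (by norm_num) (by norm_num) (by rw [card_M24]) (by norm_num)
    (by norm_num) noTwo24 (fun c => c = 1) ?_ ?_
  · intro x hx c hc
    rw [card_cent_eleven hx] at hc
    omega
  · rintro c rfl e he he1 h2
    have : e ∈ Nat.divisors 10 := Nat.mem_divisors.2 ⟨he, by norm_num⟩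
    have h3 : e ∈ ({1, 2, 5, 10} : Finset ℕ) := by
      have e1 : Nat.divisors 10 = {1, 2, 5, 10} := by decide
      rwa [e1] at this
    simp only [Finset.mem_insert, Finset.mem_singleton] at h3
    omega

theorem real22 : RealOdd Spor.M22 := by
  have : IsSimpleGroup Spor.M22 := Cfsg.Agent.SporadicA.MathieuRecog.simple_M22
  have : Finite Spor.M22 := Nat.finite_of_card_ne_zero (by rw [M22Deg.card_M22]; norm_num)
  exact RealBase.of_card_fermat (r := 5) (k := 2) (by norm_num) (by norm_num) (by norm_num)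
    (by rw [M22Deg.card_M22]; norm_num) (by rw [M22Deg.card_M22]; norm_num) (by rw [M22Deg.card_M22]; norm_num) noTwo22

theorem real23 : RealOdd Spor.M23 := by
  have : IsSimpleGroup Spor.M23 := simple_M23
  have hc := Cfsg.Agent.SporadicA.MathieuRecog.card_M23
  have : Finite Spor.M23 := Nat.finite_of_card_ne_zero (by rw [hc]; norm_num)
  exact RealBase.of_card_fermat (r := 5) (k := 2) (by norm_num) (by norm_num) (by norm_num)
    (by rw [hc]; norm_num) (by rw [hc]; norm_num) (by rw [hc]; norm_num) noTwo23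

end

theorem m22 (h : Spor.IsoM22 K) : RealOdd K := by
  obtain ⟨e⟩ := h
  exact real22.congr e.symm

theorem m23 (h : Spor.IsoM23 K) : RealOdd K := by
  obtain ⟨e⟩ := h
  exact real23.congr e.symm

theorem m24 (h : Spor.IsoM24 K) : RealOdd K := by
  obtain ⟨e⟩ := h
  exact real24.congr e.symm

section
open Cfsg.Agent.H729.PairJ1 Cfsg.Agent.SporadicB.J1.Mat Cfsg.Agent.SporadicB.J1.Data Cfsg.Agent.SporadicB.J1.Main

theorem j1_model : RealOdd Spor.J1 := by
  have hfin := (UGT.EndJ1.Data.exists_dat).some.fin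
  refine RealBase.of_two (r := 7) (by norm_num) (by norm_num) (s := ev w1) (t := ev w2) ?_ ?_ ?_
    (noTwo (by norm_num))
  · exact ((rep_ev w1).mul (rep_ev w1)).eq Rep.one (by decide +kernel)
  · exact ((rep_ev w2).mul (rep_ev w2)).eq Rep.one (by decide +kernel)
  · have : Fact (Nat.Prime 7) := ⟨by norm_num⟩
    refine orderOf_eq_prime ?_ ?_
    · exact (((rep_ev w1).mul (rep_ev w2)).pow 7).eq Rep.one (by decide +kernel)
    · exact ((rep_ev w1).mul (rep_ev w2)).ne Rep.one (by decide +kernel)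

end

theorem j1 (h : Spor.IsoJ1 K) : RealOdd K := by
  obtain ⟨e⟩ := h
  exact j1_model.congr e.symm

theorem j2_hundred : RealOdd Cfsg.Agent.SporadicA.J2Hundred.G :=
  RealBase.of_gen (r := 7) (k := 3) (m := 3) (by norm_num) (by norm_num)
    (x := ⟨OddHalf.Table.OutJ2.x, OddHalf.Table.OutJ2.x_mem⟩)
    (f := ⟨OddHalf.Table.OutJ2.f, OddHalf.Table.OutJ2.f_mem⟩)
    (by rw [Subgroup.orderOf_mk]; exact OddHalf.Table.OutJ2.order_x)
    (Subtype.ext OddHalf.Table.OutJ2.f6) (fun h => OddHalf.Table.OutJ2.f3_ne (congrArg Subtype.val h))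
    (Subtype.ext OddHalf.Table.OutJ2.fx)
    (by
      rintro ⟨c, hc⟩ h
      obtain ⟨i, hi⟩ := OddHalf.Table.OutJ2.cent_x hc (congrArg Subtype.val h)
      exact ⟨i, Subtype.ext hi⟩)

theorem j2 (h : Spor.IsoJ2 K) : RealOdd K := by
  obtain ⟨e⟩ := h
  obtain ⟨f⟩ := Cfsg.Agent.J2.HundredGens.J2_iso Cfsg.Agent.S1619.result.2.2.2
  exact j2_hundred.congr (e.trans f).symm

open OddHalf.Table.OutRu in
theorem ru_model [Finite Cfsg.Agent.SporadicB.RuOrder.H] : RealOdd Cfsg.Agent.SporadicB.RuOrder.H :=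
  RealBase.of_gen (r := 29) (k := 4) (m := 7) (by norm_num) (by norm_num) orderOf_x f_pow f_pow7 conj_fx cent_x'

theorem ru [Finite K] (h : Spor.IsoRu K) : RealOdd K := by
  obtain ⟨e⟩ := h
  have : Finite Cfsg.Agent.SporadicB.RuOrder.H := Finite.of_equiv _ (e.trans RuLat.Main.equiv).toEquiv
  exact ru_model.congr (e.trans RuLat.Main.equiv).symm

open OddHalf.Table.OutSuz OddHalf.Table.SuzRep in
theorem suz_model [Finite Spor.Suz] : RealOdd Spor.Suz :=
  RealBase.of_gen (r := 11) (k := 2) (m := 5) (by norm_num) (by norm_num) order_x f10 f5_ne fx cent_x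

theorem suz [Finite K] (h : Spor.IsoSuz K) : RealOdd K := by
  obtain ⟨e⟩ := h
  have : Finite Spor.Suz := Finite.of_equiv _ e.toEquiv
  exact suz_model.congr e.symm

section
open Cfsg.Agent.H729.PairHe

theorem he_model [IsSimpleGroup Spor.He] : RealOdd Spor.He := by
  have hfin : Finite Spor.He := Nat.finite_of_card_ne_zero (by rw [KFacts.He.Classes.card_he]; norm_num)
  refine RealBase.of_card_fermat (r := 17) (k := 4) (by norm_num) (by norm_num) (by norm_num) ?_ ?_ ?_
    (noTwo (by norm_num) (by norm_num) (by norm_num) (by norm_num)) <;> rw [KFacts.He.Classes.card_he] <;> norm_num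

end

theorem he (h : Spor.IsoHe K) : RealOdd K := by
  obtain ⟨e⟩ := h
  have : IsSimpleGroup Spor.He := KFacts.He.Cent.simpleHe
  exact he_model.congr e.symm

end Cfsg.Agent.H729.RealSmall
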