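import Cfsg.Agent.SporadicStructure.M24El

/-!
# Elements of `M24` conjugating one packed permutation to another, by a pruned kernel search

`tl p c c' wd sts` is a list of packed permutations which contains the packed form of every `g : M24` with
`g c = c' g` (and the images of the representatives in the prescribed candidate lists). A stage of the search
consists of a representative `b` of an orbit of `c`, a list of candidates for its image, and a list of code words
(as lists of pairs (number of the representative, exponent of `c`)) whose images are required to be code words.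
-/

set_option autoImplicit false

namespace Cfsg.Agent.H729.Trans

open Cfsg Cfsg.Agent.SporadicA.GolayBase Cfsg.Agent.SporadicA.GolayPerm
open Cfsg.Agent.SporadicStructure.M24El

/-! ### masks -/

theorem isCode_pimg {P m : ℕ} (hP : ok P = true) (hm : isCode m = true) :
    isCode (pimg P m) = true := by
  have h := ok_iff.1 hP
  have h1 := (mem_M24_iff _).1 (permOf_mem_M24 h.1 h.2) (fin m)
    ((fin_mem_supports_iff (isCode_lt hm)).2 hm)
  rwa [smul_fin h.1, fin_mem_supports_iff (pimg_lt h.1 _)] at h1

theorem pimg_xor {P : ℕ} (hP : isPerm P = true) (m n : ℕ) :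
    pimg P (m ^^^ n) = pimg P m ^^^ pimg P n := by
  apply eq_of_testBit_idx (pimg_lt hP _) (Nat.xor_lt_two_pow (pimg_lt hP _) (pimg_lt hP _))
  intro p
  obtain ⟨q, rfl⟩ := (permOf P hP).surjective p
  rw [idx_permOf, Nat.testBit_xor, testBit_pimg_papp hP _ (idx_lt q),
    testBit_pimg_papp hP _ (idx_lt q), testBit_pimg_papp hP _ (idx_lt q), Nat.testBit_xor]

theorem pimg_zero {P : ℕ} (hP : isPerm P = true) : pimg P 0 = 0 := by
  apply eq_of_testBit_idx (pimg_lt hP _) (by norm_num)
  intro p
  obtain ⟨q, rfl⟩ := (permOf P hP).surjective p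
  rw [idx_permOf, testBit_pimg_papp hP _ (idx_lt q), Nat.zero_testBit, Nat.zero_testBit]

theorem pimg_one_shiftLeft {P : ℕ} (hP : isPerm P = true) {i : ℕ} (hi : i < 24) :
    pimg P (1 <<< i) = 1 <<< papp P i := by
  have hlt : ∀ j : ℕ, j < 24 → 1 <<< j < 2 ^ 24 := by
    intro j hj
    rw [Nat.one_shiftLeft]
    exact Nat.pow_lt_pow_right (by norm_num) hj
  apply eq_of_testBit_idx (pimg_lt hP _) (hlt _ (papp_lt hP hi))
  intro p
  obtain ⟨q, rfl⟩ := (permOf P hP).surjective p
  rw [idx_permOf, testBit_pimg_papp hP _ (idx_lt q), Nat.one_shiftLeft, Nat.one_shiftLeft,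
    Nat.testBit_two_pow, Nat.testBit_two_pow]
  by_cases h : i = idx q
  · rw [h]; simp
  · rw [decide_eq_false h, decide_eq_false fun h' => h (papp_injOn hP hi (idx_lt q) h')]

/-! ### images of the indices -/

/-- The index of the image of point number `j`. -/
def im (g : M24) (j : ℕ) : ℕ := idx ((g : Equiv.Perm GolayPt) (pt j))

theorem im_lt (g : M24) (j : ℕ) : im g j < 24 := idx_lt _

theorem im_inj (g : M24) {i j : ℕ} (hi : i < 24) (hj : j < 24) (h : im g i = im g j) : i = j := by
  have h1 := (g : Equiv.Perm GolayPt).injective (idx_injective h)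
  rw [← idx_pt hi, ← idx_pt hj, h1]

theorem im_papp {c c' : ℕ} (hc : ok c = true) (hc' : ok c' = true) (g : M24)
    (hg : g * el c = el c' * g) {j : ℕ} (hj : j < 24) : im g (papp c j) = papp c' (im g j) := by
  have h1 : pt (papp c j) = el c • pt j := by rw [el_smul_pt hc, idx_pt hj]
  have h2 : (g : Equiv.Perm GolayPt) (pt (papp c j)) = el c' • (g • pt j) := by
    show g • pt (papp c j) = _
    rw [h1, ← mul_smul, ← mul_smul, hg]
  unfold im
  rw [h2, idx_el_smul hc']
  rfl

/-- iterated image -/
def pw (c : ℕ) : ℕ → ℕ → ℕ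
  | 0, i => i
  | e + 1, i => papp c (pw c e i)

theorem pw_lt {c : ℕ} (hc : ok c = true) (e : ℕ) {i : ℕ} (hi : i < 24) : pw c e i < 24 := by
  induction e with
  | zero => exact hi
  | succ e ih => exact papp_lt (ok_iff.1 hc).1 ih

theorem im_pw {c c' : ℕ} (hc : ok c = true) (hc' : ok c' = true) (g : M24)
    (hg : g * el c = el c' * g) (e : ℕ) {j : ℕ} (hj : j < 24) :
    im g (pw c e j) = pw c' e (im g j) := by
  induction e with
  | zero => rfl
  | succ e ih =>
    show im g (papp c (pw c e j)) = papp c' (pw c' e (im g j))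
    rw [im_papp hc hc' g hg (pw_lt hc e hj), ih]

/-- mask of a list of pairs (number of representative, exponent) -/
def mk (c : ℕ) (q : List ℕ) : List (ℕ × ℕ) → ℕ
  | [] => 0
  | t :: ts => (1 <<< pw c t.2 (q.getD t.1 0)) ^^^ mk c q ts

theorem ok_packOf (g : M24) : ok (packOf (g : Equiv.Perm GolayPt)) = true := by
  refine ok_iff.2 ⟨isPerm_packOf _, isAut_of_mem_M24 (isPerm_packOf _) ?_⟩
  rw [permOf_packOf]
  exact g.2

theorem el_packOf (g : M24) : el (packOf (g : Equiv.Perm GolayPt)) = g := by
  apply Subtype.ext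
  rw [coe_el (ok_packOf g), permOf_packOf]

theorem papp_packOf_im (g : M24) {i : ℕ} (hi : i < 24) : papp (packOf (g : Equiv.Perm GolayPt)) i = im g i :=
  papp_packOf _ hi

theorem getD_map_im (g : M24) (bs : List ℕ) {k : ℕ} (hk : k < bs.length) :
    (bs.map (im g)).getD k 0 = im g (bs.getD k 0) := by
  rw [List.getD_eq_getElem _ _ (by rw [List.length_map]; exact hk), List.getElem_map,
    List.getD_eq_getElem _ _ hk]

theorem getD_lt {bs : List ℕ} (hb : ∀ b ∈ bs, b < 24) (k : ℕ) : bs.getD k 0 < 24 := by
  by_cases hk : k < bs.length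
  · rw [List.getD_eq_getElem _ _ hk]
    exact hb _ (List.getElem_mem hk)
  · rw [List.getD_eq_default _ _ (by omega)]
    norm_num

theorem mk_im {c c' : ℕ} (hc : ok c = true) (hc' : ok c' = true) (g : M24)
    (hg : g * el c = el c' * g) {bs : List ℕ} (hb : ∀ b ∈ bs, b < 24) :
    ∀ w : List (ℕ × ℕ), (∀ t ∈ w, t.1 < bs.length) →
      mk c' (bs.map (im g)) w = pimg (packOf (g : Equiv.Perm GolayPt)) (mk c bs w) := by
  have hP := (ok_iff.1 (ok_packOf g)).1
  intro w
  induction w with
  | nil => intro _; exact (pimg_zero hP).symm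
  | cons t ts ih =>
    intro ht
    show (1 <<< pw c' t.2 ((bs.map (im g)).getD t.1 0)) ^^^ mk c' (bs.map (im g)) ts =
      pimg _ ((1 <<< pw c t.2 (bs.getD t.1 0)) ^^^ mk c bs ts)
    rw [pimg_xor hP, ih fun s hs => ht s (List.mem_cons_of_mem _ hs),
      pimg_one_shiftLeft hP (pw_lt hc _ (getD_lt hb _)),
      papp_packOf_im g (pw_lt hc _ (getD_lt hb _)), im_pw hc hc' g hg _ (getD_lt hb _),
      getD_map_im g bs (ht t List.mem_cons_self)]

/-! ### the search -/

/-- The tests of one candidate. -/
def good (p c c' b : ℕ) (ws : List (List (ℕ × ℕ))) (q : List ℕ) (a : ℕ) : Bool :=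
  (cond (Nat.beq (papp c b) b) (Nat.beq (papp c' a) a) (!(Nat.beq (papp c' a) a))) &&
  ((q.all fun x => (List.range p).all fun e => !(Nat.beq (pw c' e x) a)) &&
  ws.all fun w => isCode (mk c' (q ++ [a]) w))

/-- The search: a stage is (representative, candidates, words). -/
def srch (p c c' : ℕ) : List (ℕ × List ℕ × List (List (ℕ × ℕ))) → List (List ℕ) → List (List ℕ)
  | [], qs => qs
  | st :: sts, qs => srch p c c' sts
      (qs.flatMap fun q => (st.2.1.filter (good p c c' st.1 st.2.2 q)).map fun a => q ++ [a])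

/-- The validity of the stages. -/
def srcOk (p c : ℕ) : List (ℕ × List ℕ × List (List (ℕ × ℕ))) → List ℕ → Bool
  | [], _ => true
  | st :: sts, bs => Nat.blt st.1 24 &&
      ((bs.all fun x => (List.range p).all fun e => !(Nat.beq (pw c e x) st.1)) &&
      ((st.2.2.all fun w => (w.all fun t => Nat.blt t.1 (bs.length + 1)) && isCode (mk c (bs ++ [st.1]) w)) &&
      srcOk p c sts (bs ++ [st.1])))

theorem srch_sound {p c c' : ℕ} (hc : ok c = true) (hc' : ok c' = true) (g : M24)
    (hg : g * el c = el c' * g) :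
    ∀ (sts : List (ℕ × List ℕ × List (List (ℕ × ℕ)))) (bs : List ℕ) (qs : List (List ℕ)),
      srcOk p c sts bs = true → (∀ st ∈ sts, im g st.1 ∈ st.2.1) → (∀ b ∈ bs, b < 24) →
      bs.map (im g) ∈ qs → (bs ++ sts.map Prod.fst).map (im g) ∈ srch p c c' sts qs ∧
        ∀ b ∈ bs ++ sts.map Prod.fst, b < 24 := by
  intro sts
  induction sts with
  | nil =>
    intro bs qs _ _ hb hq
    rw [List.map_nil, List.append_nil]
    exact ⟨hq, hb⟩
  | cons st sts ih =>
    intro bs qs h1 h2 hb hq
    unfold srcOk at h1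
    rw [Bool.and_eq_true, Bool.and_eq_true, Bool.and_eq_true] at h1
    obtain ⟨h3, h4, h5, h6⟩ := h1
    have hb24 : st.1 < 24 := Nat.blt_eq.mp h3
    have hbs' : ∀ b ∈ bs ++ [st.1], b < 24 := by
      intro b hb'
      rcases List.mem_append.1 hb' with h | h
      · exact hb b h
      · rw [List.mem_singleton] at h
        rw [h]; exact hb24
    have hcand : im g st.1 ∈ st.2.1.filter (good p c c' st.1 st.2.2 (bs.map (im g))) := by
      rw [List.mem_filter]
      refine ⟨h2 st List.mem_cons_self, ?_⟩
      unfold good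
      rw [Bool.and_eq_true, Bool.and_eq_true]
      refine ⟨?_, ?_, ?_⟩
      · have h7 := im_papp hc hc' g hg hb24
        by_cases h8 : papp c st.1 = st.1
        · rw [h8] at h7
          have h9 : Nat.beq (papp c st.1) st.1 = true := by rw [h8]; exact Nat.beq_refl _
          rw [h9]
          show Nat.beq _ _ = true
          rw [← h7]
          exact Nat.beq_refl _
        · have h9 : Nat.beq (papp c st.1) st.1 = false := by
            rw [Bool.eq_false_iff]
            exact fun h => h8 (Nat.eq_of_beq_eq_true h)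
          rw [h9]
          show (!(Nat.beq _ _)) = true
          rw [Bool.not_eq_true', Bool.eq_false_iff]
          intro h
          have h10 := Nat.eq_of_beq_eq_true h
          rw [← h7] at h10
          exact h8 (im_inj g (papp_lt (ok_iff.1 hc).1 hb24) hb24 h10)
      · refine List.all_eq_true.2 fun x hx => List.all_eq_true.2 fun e he => ?_
        obtain ⟨y, hy, rfl⟩ := List.mem_map.1 hx
        have h7 := List.all_eq_true.1 (List.all_eq_true.1 h4 y hy) e he
        rw [Bool.not_eq_true', Bool.eq_false_iff] at h7 ⊢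
        intro h8
        apply h7
        have h9 := Nat.eq_of_beq_eq_true h8
        rw [← im_pw hc hc' g hg e (hb y hy)] at h9
        rw [im_inj g (pw_lt hc e (hb y hy)) hb24 h9]
        exact Nat.beq_refl _
      · refine List.all_eq_true.2 fun w hw => ?_
        have h7 := List.all_eq_true.1 h5 w hw
        rw [Bool.and_eq_true] at h7
        have h8 : ∀ t ∈ w, t.1 < (bs ++ [st.1]).length := by
          intro t ht
          rw [List.length_append, List.length_singleton]
          exact Nat.blt_eq.mp (List.all_eq_true.1 h7.1 t ht)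
        have h9 : bs.map (im g) ++ [im g st.1] = (bs ++ [st.1]).map (im g) := by
          rw [List.map_append, List.map_singleton]
        rw [h9, mk_im hc hc' g hg hbs' w h8]
        exact isCode_pimg (ok_packOf g) h7.2
    have h10 : (bs ++ [st.1]).map (im g) ∈
        qs.flatMap fun q => (st.2.1.filter (good p c c' st.1 st.2.2 q)).map fun a => q ++ [a] := by
      rw [List.mem_flatMap]
      refine ⟨_, hq, ?_⟩
      rw [List.mem_map]
      refine ⟨_, hcand, ?_⟩
      rw [List.map_append, List.map_singleton]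
    have h11 := ih (bs ++ [st.1]) _ h6 (fun s hs => h2 s (List.mem_cons_of_mem _ hs)) hbs' h10
    rw [List.append_assoc] at h11
    exact h11

/-- The packed permutation with images `q` of the representatives. -/
def build (c' : ℕ) (wd : List (ℕ × ℕ)) (q : List ℕ) : ℕ :=
  pack (wd.map fun t => pw c' t.2 (q.getD t.1 0))

/-- Whether `wd` describes the points. -/
def wdOk (c : ℕ) (bs : List ℕ) (wd : List (ℕ × ℕ)) : Bool :=
  Nat.beq wd.length 24 && (List.range 24).all fun j =>
    Nat.beq (pw c (wd.getD j (0, 0)).2 (bs.getD (wd.getD j (0, 0)).1 0)) j &&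
      Nat.blt (wd.getD j (0, 0)).1 bs.length

theorem build_im {c c' : ℕ} (hc : ok c = true) (hc' : ok c' = true) (g : M24)
    (hg : g * el c = el c' * g) {bs : List ℕ} (hb : ∀ b ∈ bs, b < 24) {wd : List (ℕ × ℕ)}
    (hw : wdOk c bs wd = true) : build c' wd (bs.map (im g)) = packOf (g : Equiv.Perm GolayPt) := by
  unfold wdOk at hw
  rw [Bool.and_eq_true] at hw
  have hlen : wd.length = 24 := Nat.eq_of_beq_eq_true hw.1
  unfold build packOf
  congr 1
  apply List.ext_getElem
  · rw [List.length_map, List.length_map, List.length_range, hlen]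
  · intro i hi1 hi2
    rw [List.length_map] at hi1
    rw [List.getElem_map, List.getElem_map, List.getElem_range]
    have hi : i < 24 := by omega
    have h5 := List.all_eq_true.1 hw.2 i (List.mem_range.2 hi)
    rw [Bool.and_eq_true] at h5
    have h6 := Nat.eq_of_beq_eq_true h5.1
    have h7 : (wd.getD i (0, 0)).1 < bs.length := Nat.blt_eq.mp h5.2
    rw [List.getD_eq_getElem _ _ hi1] at h6 h7
    rw [getD_map_im g bs h7, ← im_pw hc hc' g hg _ (getD_lt hb _), h6]
    rfl

/-- The list of the packed conjugating elements. -/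
def tl (p c c' : ℕ) (wd : List (ℕ × ℕ)) (sts : List (ℕ × List ℕ × List (List (ℕ × ℕ)))) : List ℕ :=
  ((srch p c c' sts [[]]).map (build c' wd)).filter ok

/-- The checks which do not depend on `c'`. -/
def pre (p c : ℕ) (wd : List (ℕ × ℕ)) (sts : List (ℕ × List ℕ × List (List (ℕ × ℕ)))) : Bool :=
  ok c && (srcOk p c sts [] && wdOk c (sts.map Prod.fst) wd)

/-- **Conjugating elements by computation.** -/
theorem packOf_mem_tl {p c c' : ℕ} {wd : List (ℕ × ℕ)} {sts : List (ℕ × List ℕ × List (List (ℕ × ℕ)))}
    (h : pre p c wd sts = true) (hc' : ok c' = true) (g : M24) (hg : g * el c = el c' * g)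
    (hst : ∀ st ∈ sts, im g st.1 ∈ st.2.1) : packOf (g : Equiv.Perm GolayPt) ∈ tl p c c' wd sts := by
  unfold pre at h
  rw [Bool.and_eq_true, Bool.and_eq_true] at h
  obtain ⟨hc, h1, h2⟩ := h
  obtain ⟨h3, h4⟩ := srch_sound hc hc' g hg sts [] [[]] h1 hst (fun b hb => absurd hb (List.not_mem_nil))
    (List.mem_singleton.2 rfl)
  rw [List.nil_append] at h3 h4
  unfold tl
  rw [List.mem_filter]
  refine ⟨List.mem_map.2 ⟨_, h3, build_im hc hc' g hg h4 h2⟩, ok_packOf g⟩

/-- `g ↦ packOf g` is injective. -/
theorem packOf_inj {g h : M24} (e : packOf (g : Equiv.Perm GolayPt) = packOf (h : Equiv.Perm GolayPt)) :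
    g = h := by
  rw [← el_packOf g, ← el_packOf h, e]

end Cfsg.Agent.H729.Trans
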